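import Cfsg.Agent.Lib.OddTranspC.Defs

/-!
# Elementary facts on worlds

Conjugacy of the members, equality of nested sets of commuting members, common neighbours, and
restriction to invariant sets of members.
-/

set_option autoImplicit false
set_option linter.unusedSectionVars false

namespace Cfsg.Agent.OddTranspC

open Cfsg.Agent.GenA.OddTransp (OT Tri swap goal common fix_of_commute conj_conj tri_comm tri_symm)
open Cfsg.Agent.OddTranspX (sameCls)
open Subgroup

universe u

variable {G : Type u} [Group G] {D : Set G}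

/-- The members commuting with `u`. -/
def cset (D : Set G) (u : G) : Set G := {y | y ∈ D ∧ Commute u y}

/-- The members commuting with `u` whose commuting sets differ from that of `u`. -/
def Dd (D : Set G) (u : G) : Set G := {y | y ∈ D ∧ Commute u y ∧ y ∉ sameCls D u}

/-- Connectedness of a set in the non-commuting graph. -/
def NConn (S : Set G) : Prop := ∀ a ∈ S, ∀ b ∈ S, Relation.ReflTransGen (NAdj S) a b

theorem CAdj.symm' {a b : G} (h : CAdj D a b) : CAdj D b a := ⟨h.2.1, h.1, h.2.2.symm⟩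

theorem NAdj.symm' {a b : G} (h : NAdj D a b) : NAdj D b a := ⟨h.2.1, h.1, fun e => h.2.2 e.symm⟩

theorem commute_conj_iff (g : G) {a b : G} :
    Commute (g * a * g⁻¹) (g * b * g⁻¹) ↔ Commute a b := by
  refine ⟨fun h => ?_, fun h => by simpa using h.map (MulAut.conj g).toMonoidHom⟩
  simpa [mul_assoc] using h.map (MulAut.conj g⁻¹).toMonoidHom

theorem conj_inv_conj (g a : G) : g⁻¹ * (g * a * g⁻¹) * g⁻¹⁻¹ = a := by
  simp [mul_assoc]

theorem conj_conj_inv (g a : G) : g * (g⁻¹ * a * g⁻¹⁻¹) * g⁻¹ = a := by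
  simp [mul_assoc]

theorem conj_eq_self {g a : G} (h : Commute g a) : g * a * g⁻¹ = a := by
  rw [h.eq, mul_inv_cancel_right]

theorem mem_sameCls_iff {u a : G} : a ∈ sameCls D u ↔ a ∈ D ∧ cset D a = cset D u := by
  constructor
  · rintro ⟨ha, h⟩
    refine ⟨ha, Set.ext fun y => ⟨fun hy => ⟨hy.1, (h y hy.1).1 hy.2⟩,
      fun hy => ⟨hy.1, (h y hy.1).2 hy.2⟩⟩⟩
  · rintro ⟨ha, h⟩
    refine ⟨ha, fun y hy => ⟨fun hc => ?_, fun hc => ?_⟩⟩
    · exact (h ▸ (show y ∈ cset D a from ⟨hy, hc⟩)).2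
    · exact (h.symm ▸ (show y ∈ cset D u from ⟨hy, hc⟩)).2

theorem self_mem_sameCls {u : G} (hu : u ∈ D) : u ∈ sameCls D u := ⟨hu, fun _ _ => Iff.rfl⟩

theorem sameCls_eq {u a : G} (ha : a ∈ sameCls D u) : sameCls D a = sameCls D u := by
  ext z
  simp only [mem_sameCls_iff, (mem_sameCls_iff.1 ha).2]

theorem Dd_eq {u a : G} (ha : a ∈ sameCls D u) : Dd D a = Dd D u := by
  ext z
  simp only [Dd, Set.mem_setOf_eq, sameCls_eq ha]
  exact ⟨fun h => ⟨h.1, (ha.2 z h.1).1 h.2.1, h.2.2⟩, fun h => ⟨h.1, (ha.2 z h.1).2 h.2.1, h.2.2⟩⟩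

variable (h : OT D)
include h

theorem cset_conj (g a : G) :
    cset D (g * a * g⁻¹) = (fun y => g * y * g⁻¹) '' cset D a := by
  ext y
  constructor
  · rintro ⟨hy, hc⟩
    exact ⟨g⁻¹ * y * g⁻¹⁻¹, ⟨h.conj y hy _, (commute_conj_iff g).1 (by rwa [conj_conj_inv])⟩,
      conj_conj_inv g y⟩
  · rintro ⟨z, ⟨hz, hc⟩, rfl⟩
    exact ⟨h.conj z hz g, (commute_conj_iff g).2 hc⟩

theorem sameCls_conj (g a : G) :
    sameCls D (g * a * g⁻¹) = (fun y => g * y * g⁻¹) '' sameCls D a := by
  have inj : Function.Injective (Set.image fun y => g * y * g⁻¹) :=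
    Set.image_injective.2 fun p q e => mul_left_cancel (mul_right_cancel e)
  ext y
  constructor
  · intro hy
    obtain ⟨hy, hc⟩ := mem_sameCls_iff.1 hy
    refine ⟨g⁻¹ * y * g⁻¹⁻¹, mem_sameCls_iff.2 ⟨h.conj y hy _, inj ?_⟩, conj_conj_inv g y⟩
    rw [← cset_conj h, ← cset_conj h, conj_conj_inv, hc]
  · rintro ⟨z, hz, rfl⟩
    obtain ⟨hz, hc⟩ := mem_sameCls_iff.1 hz
    exact mem_sameCls_iff.2 ⟨h.conj z hz g, by rw [cset_conj h, cset_conj h, hc]⟩

theorem Dd_conj (g a : G) : Dd D (g * a * g⁻¹) = (fun y => g * y * g⁻¹) '' Dd D a := by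
  have e : ∀ u, Dd D u = cset D u \ sameCls D u := fun u => Set.ext fun z =>
    ⟨fun hz => ⟨⟨hz.1, hz.2.1⟩, hz.2.2⟩, fun hz => ⟨hz.1.1, hz.1.2, hz.2⟩⟩
  rw [e, e, cset_conj h, sameCls_conj h,
    Set.image_sdiff fun p q e => mul_left_cancel (mul_right_cancel e)]

theorem tri_mem_sameCls {a b : G} (ha : a ∈ D) (t : Tri D a b) : b ∈ sameCls D a :=
  ⟨t.1, fun y hy => ⟨fun hc => (tri_comm h t.1 (tri_symm ha t) hy hc.symm).symm,
    fun hc => (tri_comm h ha t hy hc.symm).symm⟩⟩

/-- Non-commuting members are conjugate by a member in the group they generate. -/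
theorem exists_swapper {a b : G} (ha : a ∈ D) (hb : b ∈ D) (hab : ¬ Commute a b) :
    ∃ m ∈ D, m ∈ closure {a, b} ∧ m * a * m⁻¹ = b ∧
      (∀ g : G, Commute g a → Commute g b → Commute g m) := by
  obtain ⟨m, hm, hmab, huniq, hfix⟩ := swap h ha hb hab
  refine ⟨m, hm, ?_, by rw [h.inv hm]; exact hmab,
    fun g h1 h2 => hfix g (Or.inl ⟨conj_eq_self h1, conj_eq_self h2⟩)⟩
  obtain ⟨l, hl⟩ : Odd (orderOf (a * b)) := (h.pair a ha b hb).resolve_left hab
  set s := (a * b) ^ (l + 1) with hs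
  have hs' : a * s * (a * s) = 1 := by
    have e : a * s * a⁻¹ = s⁻¹ := by
      rw [hs, ← conj_pow, h.inv ha, ← inv_pow, mul_inv_rev, h.inv ha, h.inv hb, ← mul_assoc a a b,
        h.sq ha, one_mul]
    rw [h.inv ha] at e
    rw [← mul_assoc, e, inv_mul_cancel]
  have hss : s * s = a * b := by
    rw [hs, ← pow_add, show l + 1 + (l + 1) = orderOf (a * b) + 1 by omega, pow_succ,
      pow_orderOf_eq_one, one_mul]
  have hsw : a * s * a * (a * s) = b := by
    rw [show a * s * a * (a * s) = a * s * (a * a) * s by simp only [mul_assoc], h.sq ha, mul_one,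
      mul_assoc, hss, ← mul_assoc, h.sq ha, one_mul]
  have hasc : Commute (a * s) m := by
    refine hfix _ (Or.inr ⟨?_, ?_⟩) <;> rw [inv_eq_of_mul_eq_one_right hs']
    · exact hsw
    · rw [← hsw, conj_conj hs']
  have ha' : a ∈ closure ({a, b} : Set G) := Subgroup.subset_closure (Set.mem_insert a _)
  have hb' : b ∈ closure ({a, b} : Set G) := Subgroup.subset_closure (Set.mem_insert_of_mem a (Set.mem_singleton b))
  have hmem : a * s ∈ closure ({a, b} : Set G) := mul_mem ha' (pow_mem (mul_mem ha' hb') _)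
  have hasD : a * s ∈ D := by
    set t := s ^ (l + 1) with ht
    have htt : t * t = s := by
      rw [ht, ← (Commute.refl s).mul_pow, hss, hs]
    have e : a * t * a⁻¹ = t⁻¹ := by
      rw [ht, hs, ← pow_mul, ← conj_pow, h.inv ha, ← inv_pow, mul_inv_rev, h.inv ha, h.inv hb,
        ← mul_assoc a a b, h.sq ha, one_mul]
    have e2 : a * s = t⁻¹ * a * t⁻¹⁻¹ := by
      rw [inv_inv, ← e, h.inv ha, ← htt,
        show a * t * a * a * t = a * t * (a * a) * t by simp only [mul_assoc], h.sq ha, mul_one,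
        mul_assoc]
    rw [e2]; exact h.conj a ha _
  rw [← huniq _ hasD hsw]
  exact hmem

omit h

theorem World.ne_of_tri (hW : World D) {a b : G} (ha : a ∈ D) (t : Tri D a b) : a ≠ b := fun e =>
  hW.ne_one t.2.2 (by rw [← e]; exact hW.sq ha)

theorem World.exists_nc (hW : World D) {a : G} (ha : a ∈ D) : ∃ b ∈ D, ¬ Commute a b := by
  obtain ⟨b, t⟩ := hW.tri a ha
  rcases (hW.nconn a ha b t.1).cases_head with h1 | ⟨c, hc, -⟩
  · exact absurd h1 (hW.ne_of_tri ha t)
  · exact ⟨c, hc.2.1, hc.2.2⟩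

theorem World.conjugate (hW : World D) {a b : G} (ha : a ∈ D) (hb : b ∈ D) :
    ∃ g : G, g * a * g⁻¹ = b := by
  induction hW.nconn a ha b hb with
  | refl => exact ⟨1, by simp⟩
  | @tail p q hap hpq ih =>
    obtain ⟨g, hg⟩ := ih hpq.1
    obtain ⟨m, -, -, hm, -⟩ := exists_swapper hW.toOT hpq.1 hpq.2.1 hpq.2.2
    exact ⟨m * g, by rw [← hm, ← hg]; group⟩

theorem World.cset_eq_of_subset [Finite G] (hW : World D) {a b : G} (ha : a ∈ D) (hb : b ∈ D)
    (hsub : cset D a ⊆ cset D b) : cset D a = cset D b := by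
  obtain ⟨g, rfl⟩ := hW.conjugate ha hb
  refine Set.eq_of_subset_of_ncard_le hsub ?_ (Set.toFinite _)
  rw [cset_conj hW.toOT]
  exact Set.ncard_image_le (Set.toFinite _)

/-- A member commuting with every member commuting with `u` is in the class of `u`. -/
theorem World.mem_sameCls [Finite G] (hW : World D) {u a : G} (hu : u ∈ D) (ha : a ∈ D)
    (hall : ∀ y ∈ D, Commute u y → Commute a y) : a ∈ sameCls D u :=
  mem_sameCls_iff.2 ⟨ha, (hW.cset_eq_of_subset hu ha fun y hy => ⟨hy.1, hall y hy.1 hy.2⟩).symm⟩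

theorem World.common [Finite G] (hW : World D) {a b : G} (ha : a ∈ D) (hb : b ∈ D) :
    ∃ c, c ∈ L D a b :=
  let ⟨c, hc, h1, h2⟩ := GenA.OddTransp.common hW.toOT hW.tri ha hb (hW.cconn a ha b hb)
  ⟨c, hc, h1.symm, h2.symm⟩

/-- A member commuting with `d` has with `d` and any other member a common neighbour. -/
theorem World.common_three [Finite G] (hW : World D) {d y f : G} (hd : d ∈ D) (hy : y ∈ D)
    (hf : f ∈ D) (hdf : Commute d f) : ∃ a ∈ D, Commute a d ∧ Commute a y ∧ Commute a f := by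
  obtain ⟨a, ha, had, hay⟩ := hW.common hd hy
  obtain ⟨d₂, t⟩ := hW.tri d hd
  obtain ⟨c, hc, hcf, hcd, hcy⟩ :=
    goal (Nat.card G) G le_rfl D hW.toOT f d d₂ a y hf hd ha hy t hdf.symm had hay.symm
  exact ⟨c, hc, hcd, hcy, hcf⟩

omit [Group G] in
theorem reflTransGen_inv {α : Type*} {r : α → α → Prop} (hs : ∀ {a b}, r a b → r b a) {a b : α}
    (hp : Relation.ReflTransGen r a b) : Relation.ReflTransGen r b a := by
  induction hp with
  | refl => exact .refl
  | tail _ hbc ih => exact .head (hs hbc) ih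

section Restrict

variable {S : Set G}

/-- An invariant set of members inside the subgroup it generates. -/
theorem OT_restrict (h : OT D) (hS : S ⊆ D) (hinv : ∀ a ∈ S, ∀ g ∈ S, g * a * g⁻¹ ∈ S) :
    OT ((↑) ⁻¹' S : Set (closure S)) := by
  refine ⟨fun a ha => ?_, fun a ha g => ?_, fun a ha b hb => ?_⟩
  · rw [← orderOf_injective (closure S).subtype Subtype.val_injective]
    exact h.ord _ (hS ha)
  · suffices hkey : ∀ g ∈ closure S, ∀ a ∈ S, g * a * g⁻¹ ∈ S from hkey _ g.2 _ ha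
    intro g hg
    induction hg using closure_induction'' with
    | one => intro a ha; simpa using ha
    | mem g hg => exact fun a ha => hinv a ha g hg
    | inv_mem g hg => rw [h.inv (hS hg)]; exact fun a ha => hinv a ha g hg
    | mul g k _ _ h1 h2 =>
      intro a ha
      have := h1 _ (h2 a ha)
      simpa [mul_assoc] using this
  · rcases h.pair _ (hS ha) _ (hS hb) with h1 | h1
    · exact Or.inl (Subtype.ext h1)
    · refine Or.inr ?_
      rwa [← orderOf_injective (closure S).subtype Subtype.val_injective]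

/-- `goal` inside an invariant set of members. -/
theorem goal_in [Finite G] (h : OT D) (hS : S ⊆ D) (hinv : ∀ a ∈ S, ∀ g ∈ S, g * a * g⁻¹ ∈ S)
    {d e e₂ f x : G} (hd : d ∈ S) (he : e ∈ S) (hf : f ∈ S) (hx : x ∈ S) (t : Tri S e e₂)
    (hde : Commute d e) (hef : Commute e f) (hfx : Commute f x) :
    ∃ a ∈ S, Commute a d ∧ Commute a e ∧ Commute a x := by
  have emb : ∀ {a}, a ∈ S → a ∈ closure S := fun ha => Subgroup.subset_closure ha
  obtain ⟨a, ha, h1, h2, h3⟩ := goal (Nat.card (closure S)) (closure S) le_rfl _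
    (OT_restrict h hS hinv) ⟨d, emb hd⟩ ⟨e, emb he⟩ ⟨e₂, emb t.1⟩ ⟨f, emb hf⟩ ⟨x, emb hx⟩
    hd he hf hx ⟨t.1, Subtype.ext t.2.1, t.2.2⟩ (Subtype.ext hde) (Subtype.ext hef) (Subtype.ext hfx)
  exact ⟨a, ha, congrArg Subtype.val h1, congrArg Subtype.val h2, congrArg Subtype.val h3⟩

/-- An invariant set of members, connected in both graphs and closed under triples, is a world in
the subgroup it generates. -/
theorem World.restrict (hW : World D) (hS : S ⊆ D) (hinv : ∀ a ∈ S, ∀ g ∈ S, g * a * g⁻¹ ∈ S)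
    (htri : ∀ a ∈ S, ∃ b, Tri S a b) (hn : NConn S)
    (hc : ∀ a ∈ S, ∀ b ∈ S, Relation.ReflTransGen (CAdj S) a b) :
    World ((↑) ⁻¹' S : Set (closure S)) := by
  refine ⟨OT_restrict hW.toOT hS hinv, fun a ha => ?_, ?_, ?_⟩
  · obtain ⟨b, t⟩ := htri _ ha
    exact ⟨⟨b, Subgroup.subset_closure t.1⟩, t.1, Subtype.ext t.2.1, t.2.2⟩
  · intro a ha b hb
    have key : ∀ p : G, Relation.ReflTransGen (NAdj S) a.1 p → ∀ hp : p ∈ S,
        Relation.ReflTransGen (NAdj ((↑) ⁻¹' S : Set (closure S))) a ⟨p, Subgroup.subset_closure hp⟩ := by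
      intro p hpath
      induction hpath with
      | refl => exact fun _ => .refl
      | @tail q r _ hqr ih =>
        exact fun _ => (ih hqr.1).tail
          ⟨hqr.1, hqr.2.1, fun e => hqr.2.2 (congrArg Subtype.val e)⟩
    exact key b.1 (hn _ ha _ hb) hb
  · intro a ha b hb
    have key : ∀ p : G, Relation.ReflTransGen (CAdj S) a.1 p → ∀ hp : p ∈ S,
        Relation.ReflTransGen (CAdj ((↑) ⁻¹' S : Set (closure S))) a ⟨p, Subgroup.subset_closure hp⟩ := by
      intro p hpath
      induction hpath with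
      | refl => exact fun _ => .refl
      | @tail q r _ hqr ih =>
        exact fun _ => (ih hqr.1).tail ⟨hqr.1, hqr.2.1, Subtype.ext hqr.2.2⟩
    exact key b.1 (hc _ ha _ hb) hb

end Restrict

/-- Commuting in the subgroup generated by `S` is commuting in `G`. -/
theorem commute_coe_iff {U : Subgroup G} {a b : U} : Commute (a : G) (b : G) ↔ Commute a b :=
  ⟨fun h => Subtype.ext h, fun h => congrArg Subtype.val h⟩

theorem closure_lt_of_centralized [Finite G] (hW : World D) {u : G} (hu : u ∈ D) {S : Set G}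
    (hS : ∀ a ∈ S, Commute u a) : Nat.card (closure S) < Nat.card G := by
  obtain ⟨b, hb, hub⟩ := hW.exists_nc hu
  refine lt_of_le_of_ne (Subgroup.card_le_card_group _) fun e => hub ?_
  have hle : closure S ≤ centralizer {u} :=
    (closure_le _).2 fun a ha => mem_centralizer_singleton_iff.2 (hS a ha).eq.symm
  rw [Subgroup.eq_top_of_card_eq _ e] at hle
  exact (mem_centralizer_singleton_iff.1 (hle (mem_top b))).symm

end Cfsg.Agent.OddTranspC
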