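import Cfsg.Agent.Lib.OddTranspX.Reduce

/-!
# Odd transpositions with connected commuting graph: relations on the members

A `World` is a set of odd transpositions in which every member lies in a commuting triple and both
the commuting and the non-commuting graph are connected.  A `Rel` is an invariant equivalence on the
members with the triples inside its classes, such that commuting members of different classes have
elementwise commuting classes.  `Cross` is a non-commuting pair of different classes with two
commuting common neighbours of different classes.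
-/

set_option autoImplicit false

namespace Cfsg.Agent.OddTranspC

open Cfsg.Agent.GenA.OddTransp (OT Tri)

universe u

variable {G : Type u} [Group G]

/-- Adjacency of commuting members. -/
def CAdj (D : Set G) (a b : G) : Prop := a ∈ D ∧ b ∈ D ∧ Commute a b

/-- Adjacency of non-commuting members. -/
def NAdj (D : Set G) (a b : G) : Prop := a ∈ D ∧ b ∈ D ∧ ¬ Commute a b

/-- Odd transpositions with triples and both graphs connected. -/
structure World (D : Set G) : Prop extends OT D where
  tri : ∀ a ∈ D, ∃ b, Tri D a b
  nconn : ∀ a ∈ D, ∀ b ∈ D, Relation.ReflTransGen (NAdj D) a b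
  cconn : ∀ a ∈ D, ∀ b ∈ D, Relation.ReflTransGen (CAdj D) a b

/-- An admissible equivalence relation on the members. -/
structure Rel (D : Set G) (r : G → G → Prop) : Prop where
  mem : ∀ {a b : G}, r a b → a ∈ D ∧ b ∈ D
  refl : ∀ {a : G}, a ∈ D → r a a
  symm : ∀ {a b : G}, r a b → r b a
  trans : ∀ {a b c : G}, r a b → r b c → r a c
  conj : ∀ {a b : G}, r a b → ∀ g : G, r (g * a * g⁻¹) (g * b * g⁻¹)
  tri : ∀ {a b : G}, a ∈ D → Tri D a b → r a b
  ax : ∀ {c c' x : G}, x ∈ D → r c c' → ¬ r c x → Commute c x → Commute c' x

/-- The members commuting with `u` outside its class. -/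
def Q (D : Set G) (r : G → G → Prop) (u : G) : Set G := {y | y ∈ D ∧ Commute u y ∧ ¬ r u y}

/-- The common commuting members of `x` and `z`. -/
def L (D : Set G) (x z : G) : Set G := {c | c ∈ D ∧ Commute x c ∧ Commute z c}

/-- A non-commuting pair of different classes with commuting common neighbours of different
classes. -/
def Cross (D : Set G) (r : G → G → Prop) (x z : G) : Prop :=
  x ∈ D ∧ z ∈ D ∧ ¬ Commute x z ∧ ¬ r x z ∧ ∃ c ∈ L D x z, ∃ c' ∈ L D x z, Commute c c' ∧ ¬ r c c'

end Cfsg.Agent.OddTranspC
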