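import Cfsg.Agent.Lib.OddTranspC.NoSzNo

/-!
# The group on `C(d) ∩ C(a)` and `x`

Used to exclude a Suzuki line group when no pair crosses.
-/

set_option autoImplicit false
set_option linter.unusedSectionVars false
set_option linter.style.haveILetI false

namespace Cfsg.Agent.OddTranspC

open Cfsg.Agent.GenA.OddTransp (OT Tri sq_mul split two conj_conj commute_of_fix)
open Cfsg.Agent.OddTranspX (sameCls Concl)
open Subgroup (closure)

universe u

variable {G : Type u} [Group G] {D : Set G}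

/-- A homomorphism from a perfect group to a dihedral group is trivial. -/
theorem dihedral_hom_trivial {X : Type u} [Group X] (hperf : commutator X = ⊤) {n : ℕ}
    (φ : X →* DihedralGroup n) (g : X) : φ g = 1 := by
  let χ : DihedralGroup n →* Multiplicative (ZMod 2) :=
    { toFun := fun g => match g with
        | .r _ => 1
        | .sr _ => Multiplicative.ofAdd 1
      map_one' := rfl
      map_mul' := fun a b => by
        rcases a with a | a <;> rcases b with b | b <;> simp <;> decide }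
  have h1 : ∀ g : X, ∃ i, φ g = .r i := by
    intro g
    have h := Abelianization.commutator_subset_ker (χ.comp φ) (hperf ▸ Subgroup.mem_top g)
    rw [MonoidHom.mem_ker, MonoidHom.comp_apply] at h
    rcases hg : φ g with i | i
    · exact ⟨i, rfl⟩
    · rw [hg] at h
      change Multiplicative.ofAdd (1 : ZMod 2) = 1 at h
      exact absurd h (by decide)
  have hle : commutator X ≤ φ.ker := by
    rw [commutator_def, Subgroup.commutator_le]
    intro a _ b _
    obtain ⟨i, hi⟩ := h1 a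
    obtain ⟨j, hj⟩ := h1 b
    have hc : Commute (φ a) (φ b) := by
      rw [hi, hj]; show _ = _; rw [DihedralGroup.r_mul_r, DihedralGroup.r_mul_r, add_comm]
    rw [MonoidHom.mem_ker, map_commutatorElement]
    exact hc.commutator_eq
  rw [hperf] at hle
  exact hle (Subgroup.mem_top g)

/-- The generators of the frame group. -/
def frameA (D : Set G) (d a : G) : Set G := cset D d ∩ Dd D a

/-- The frame group. -/
def frameGrp (D : Set G) (d x a : G) : Subgroup G := closure (frameA D d a ∪ {x})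

/-- Its largest normal 2-subgroup. -/
def frameCore (D : Set G) (d x a : G) : Subgroup G :=
  (Cfsg.pCore 2 (frameGrp D d x a)).map (frameGrp D d x a).subtype

theorem frameCore_conj {d x a g r : G} (hg : g ∈ frameGrp D d x a) (hr : r ∈ frameCore D d x a) :
    g * r * g⁻¹ ∈ frameCore D d x a := by
  obtain ⟨r', hr', rfl⟩ := hr
  have hn : (Cfsg.pCore 2 (frameGrp D d x a)).Normal := inferInstance
  exact ⟨⟨g, hg⟩ * r' * ⟨g, hg⟩⁻¹, hn.conj_mem r' hr' _, rfl⟩

section

variable [Finite G] (hW : World D) (hgen : closure D = ⊤) (hO : Cfsg.pCore 2 G = ⊥) (hno : NoCross D)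
  {d x a : G} (hd : d ∈ D) (hx : x ∈ D) (hdx : ¬ Commute d x)
  (ha : a ∈ D) (had : Commute a d) (hax : Commute a x)
include hW hgen hO hno hd hx hdx ha had hax

theorem frame_two : IsPGroup 2 (frameCore D d x a) := (Cores.pCore_isPGroup 2).map _

theorem sameCls_frameA : sameCls D d ⊆ frameA D d a := fun e he =>
  ⟨⟨he.1, ((he.2 d hd).2 (Commute.refl d)).symm⟩, sameCls_subset_Dd ha hx hdx had hax he⟩

theorem line_le_frame : lineGrp D d x ≤ frameGrp D d x a :=
  Subgroup.closure_mono (Set.union_subset_union_left _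
    (sameCls_frameA hW hgen hO hno hd hx hdx ha had hax))

theorem frame_commute_a {g : G} (hg : g ∈ frameGrp D d x a) : Commute g a := by
  have hle : frameGrp D d x a ≤ Subgroup.centralizer {a} := by
    refine (Subgroup.closure_le _).2 ?_
    rintro e (he | rfl)
    · exact Subgroup.mem_centralizer_singleton_iff.2 he.2.2.1.eq.symm
    · exact Subgroup.mem_centralizer_singleton_iff.2 hax.eq.symm
  exact Subgroup.mem_centralizer_singleton_iff.1 (hle hg)

theorem mem_Dd_of_nc {y z : G} (hy : y ∈ D) (hyH : y ∈ frameGrp D d x a) (hz : z ∈ D)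
    (hzH : z ∈ frameGrp D d x a) (hyz : ¬ Commute y z) : y ∈ Dd D a :=
  ⟨hy, (frame_commute_a hW hgen hO hno hd hx hdx ha had hax hyH).symm, fun h =>
    hyz ((h.2 z hz).2 (frame_commute_a hW hgen hO hno hd hx hdx ha had hax hzH).symm)⟩

theorem d_mem_Dd : d ∈ Dd D a :=
  (sameCls_frameA hW hgen hO hno hd hx hdx ha had hax (self_mem_sameCls hd)).2

theorem x_mem_Dd : x ∈ Dd D a :=
  ⟨hx, hax, fun h => hdx ((h.2 d hd).2 had).symm⟩

theorem frameA_commute {α y : G} (hα : α ∈ frameA D d a) (hy : y ∈ D)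
    (hyH : y ∈ frameGrp D d x a) : Commute α y ↔ Commute d y := by
  have hay := (frame_commute_a hW hgen hO hno hd hx hdx ha had hax hyH).symm
  have hdS := d_mem_Dd hW hgen hO hno hd hx hdx ha had hax
  by_cases hyE : y ∈ sameCls D a
  · exact ⟨fun _ => ((hyE.2 d hd).2 had).symm, fun _ => ((hyE.2 α hα.1.1).2 hα.2.2.1).symm⟩
  · exact ⟨fun h => hno.comm_trans ha hdS hα.2 ⟨hy, hay, hyE⟩ hα.1.2 h,
      fun h => hno.comm_trans ha hα.2 hdS ⟨hy, hay, hyE⟩ hα.1.2.symm h⟩

/-- The frame group is a Suzuki group over its largest normal 2-subgroup, when the line is one. -/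
theorem frame_sz (hsz : Cfsg.Lie.IsoSuzuki (lineGrp D d x ⧸ Cfsg.pCore 2 (lineGrp D d x))) :
    Cfsg.Lie.IsoSuzuki (frameGrp D d x a ⧸ Cfsg.pCore 2 (frameGrp D d x a)) := by
  classical
  have hle := line_le_frame hW hgen hO hno hd hx hdx ha had hax
  set H := frameGrp D d x a with hH
  have hdA : d ∈ frameA D d a :=
    sameCls_frameA hW hgen hO hno hd hx hdx ha had hax (self_mem_sameCls hd)
  have hdH : d ∈ H := Subgroup.subset_closure (Or.inl hdA)
  set A : Set H := (↑) ⁻¹' frameA D d a with hA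
  have hA' : A ⊆ sameCls ((↑) ⁻¹' D : Set H) ⟨d, hdH⟩ := fun α hα =>
    ⟨hα.1.1, fun y hy => by
      rw [← commute_coe_iff, ← commute_coe_iff]
      exact frameA_commute hW hgen hO hno hd hx hdx ha had hax hα hy y.2⟩
  have htop : closure (A ∪ {⟨x, Subgroup.subset_closure (Or.inr rfl)⟩}) = ⊤ := by
    have e : A ∪ {⟨x, Subgroup.subset_closure (Or.inr rfl)⟩} =
        ((↑) ⁻¹' (frameA D d a ∪ {x}) : Set H) := by
      ext z
      simp [hA, Subtype.ext_iff]
    rw [e]
    exact Subgroup.closure_closure_coe_preimage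
  set φ : lineGrp D d x →* H ⧸ Cfsg.pCore 2 H :=
    (QuotientGroup.mk' _).comp (Subgroup.inclusion hle) with hφ
  have hker : φ.ker ≤ Cfsg.pCore 2 (lineGrp D d x) := by
    refine Cores.le_pCore fun g => ?_
    obtain ⟨k, hk⟩ := pgroup_pow (Cores.pCore_isPGroup (G := H) 2)
      ((QuotientGroup.eq_one_iff _).1 (MonoidHom.mem_ker.1 g.2))
    exact ⟨k, Subtype.ext (Subtype.ext
      (by simpa [SubgroupClass.coe_pow] using congrArg Subtype.val hk))⟩
  rcases OddTranspX.concl_or_dihedral (OT_preimage hW.toOT H) (A := A) (d := ⟨d, hdH⟩)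
    (x := ⟨x, Subgroup.subset_closure (Or.inr rfl)⟩) hd hdA hA' hx
    (fun h => hdx (congrArg Subtype.val h)) htop (fun H _ _ _ => OddTranspX.main H) with h | ⟨n, ⟨e⟩⟩
  · rcases h with ⟨F, _, _, _, -, ⟨e⟩⟩ | h
    · exact absurd hsz (not_sz_of_hom φ hker fun g hg => (l2_facts e).1 _ hg)
    · exact h
  · exfalso
    have hdX : d ∈ lineGrp D d x := mem_lineGrp (self_mem_sameCls hd)
    have h1 : φ ⟨d, hdX⟩ = 1 := e.injective (by
      rw [map_one]
      exact dihedral_hom_trivial (lineGrp_commutator hW hgen hO hd hx hdx) (e.toMonoidHom.comp φ) _)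
    have h2 : d ∈ frameCore D d x a :=
      ⟨_, (QuotientGroup.eq_one_iff _).1 h1, rfl⟩
    exact hdx (commute_of_normalized hW.toOT (frame_two hW hgen hO hno hd hx hdx ha had hax) hd hx h2
      (frameCore_conj (Subgroup.subset_closure (Or.inr rfl)) h2))

/-- The line group centralises the core of the frame group. -/
theorem line_centralizes_core
    (hsz : Cfsg.Lie.IsoSuzuki (lineGrp D d x ⧸ Cfsg.pCore 2 (lineGrp D d x))) :
    ∀ g ∈ lineGrp D d x, ∀ r ∈ frameCore D d x a, Commute g r := by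
  have hle := line_le_frame hW hgen hO hno hd hx hdx ha had hax
  set X := lineGrp D d x with hX
  set π : X →* X ⧸ Cfsg.pCore 2 X := QuotientGroup.mk' _ with hπ
  have hdX : d ∈ X := mem_lineGrp (self_mem_sameCls hd)
  have hdd : d * d = 1 := hW.sq hd
  have hπ1 : ∀ g : X, π g = 1 ↔ (g : G) ∈ lineCore D d x := by
    intro g
    rw [hπ, QuotientGroup.mk'_apply, QuotientGroup.eq_one_iff]
    constructor
    · exact fun h => ⟨g, h, rfl⟩
    · rintro ⟨g', hg', e⟩; rwa [← Subtype.ext e]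
  have hdc : ∀ g ∈ lineCore D d x, ∀ h ∈ X, Commute g h := fun g hg h hh =>
    (lineCore_central hW hgen hO hd hx hdx hg hh).symm
  have hord : orderOf (π ⟨d, hdX⟩) = 2 := by
    refine orderOf_eq_prime ?_ fun h1 => ?_
    · rw [← map_pow]
      exact (hπ1 _).2 (by rw [SubgroupClass.coe_pow, pow_two]; show d * d ∈ _; rw [hdd]; exact one_mem _)
    · exact hdx (hdc d ((hπ1 _).1 h1) x self_mem_lineGrp)
  obtain ⟨s', t', hs2, ht5, hst⟩ := sz_pair hsz hord
  obtain ⟨s, rfl⟩ := QuotientGroup.mk'_surjective (Cfsg.pCore 2 X) s'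
  obtain ⟨t₀, rfl⟩ := QuotientGroup.mk'_surjective (Cfsg.pCore 2 X) t'
  obtain ⟨k, hk⟩ : ∃ k : ℕ, ((t₀ : G) ^ 5) ^ 2 ^ k = 1 :=
    pgroup_pow lineCore_two ((hπ1 (t₀ ^ 5)).1 (by
      rw [map_pow]; exact ht5 ▸ pow_orderOf_eq_one _) |> fun h => (by simpa using h))
  set t : X := t₀ ^ 2 ^ k with ht
  have hsd : (s : G) * s * d ∈ lineCore D d x := by
    refine (hπ1 (s * s * ⟨d, hdX⟩)).1 ?_
    rw [map_mul, map_mul, hs2, ← map_mul]
    exact (hπ1 _).2 (by show d * d ∈ _; rw [hdd]; exact one_mem _)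
  have hsc : Commute (s : G) d := by
    have h1 : Commute (s : G) ((s : G) * s * d) := (hdc _ hsd _ s.2).symm
    have h2 : (d : G) = ((s : G) * s)⁻¹ * ((s : G) * s * d) := by simp [mul_assoc]
    rw [h2]
    exact ((Commute.refl (s : G)).mul_right (Commute.refl _)).inv_right.mul_right h1
  have hN : IsPGroup 2 (starCore D d) := (Cores.pCore_isPGroup 2).map _
  refine trace_trivial (frame_two hW hgen hO hno hd hx hdx ha had hax)
    (fun g hg r hr => frameCore_conj (hle hg) hr) (lineGrp_perfect hW hgen hO hd hx hdx) lineCore_le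
    lineCore_two (fun z hz g hg => hdc z hz g hg) ?_ (d := d) (s := s) (t := t) hdX s.2 t.2 hdd hsd
    ?_ ?_ ?_ ?_ ?_
  · intro K hK hKn
    haveI : (K.subgroupOf X).Normal := ⟨fun n hn g => hKn g g.2 n hn⟩
    haveI := sz_simple hsz
    haveI : ((K.subgroupOf X).map π).Normal :=
      Subgroup.Normal.map inferInstance _ (QuotientGroup.mk'_surjective _)
    rcases Subgroup.Normal.eq_bot_or_eq_top (H := (K.subgroupOf X).map π) inferInstance with h | h
    · left
      intro g hg
      exact (hπ1 ⟨g, hK hg⟩).1 (by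
        rw [← Subgroup.mem_bot, ← h]; exact ⟨⟨g, hK hg⟩, hg, rfl⟩)
    · right
      refine le_antisymm (sup_le hK lineCore_le) fun g hg => ?_
      obtain ⟨k', hk', e⟩ : π ⟨g, hg⟩ ∈ (K.subgroupOf X).map π := h ▸ Subgroup.mem_top _
      have h1 : ((k'⁻¹ * ⟨g, hg⟩ : X) : G) ∈ lineCore D d x :=
        (hπ1 _).1 (by rw [map_mul, map_inv, e, inv_mul_cancel])
      have h2 := mul_mem (Subgroup.mem_sup_left (T := lineCore D d x) hk') (Subgroup.mem_sup_right h1)
      simpa using h2
  · rw [ht]; push_cast; rw [← pow_mul, mul_comm, pow_mul]; exact hk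
  · intro hmem
    have h1 : π t = 1 := (hπ1 t).2 hmem
    rw [ht, map_pow] at h1
    have h2 := orderOf_dvd_of_pow_eq_one h1
    rw [ht5] at h2
    exact absurd ((Nat.Prime.dvd_of_dvd_pow (by norm_num) h2)) (by norm_num)
  · refine (hπ1 (s * t * s⁻¹ * (t ^ 2)⁻¹)).1 ?_
    rw [map_mul, map_inv, map_pow, mul_inv_eq_one, map_mul, map_mul, map_inv, ht, map_pow,
      ← conj_pow, hst, ← pow_mul, mul_comm, pow_mul]
  · intro r hr
    set d' := r⁻¹ * d * r with hd'
    have hd'D : d' ∈ D := by simpa using hW.conj d hd r⁻¹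
    have h1 : d' * d ∈ frameCore D d x a := by
      have h := mul_mem (inv_mem hr) (frameCore_conj (hle hdX) hr)
      rwa [hW.inv hd, show r⁻¹ * (d * r * d) = d' * d by simp only [hd', mul_assoc]] at h
    have hc := commute_of_mem_two hW.toOT (frame_two hW hgen hO hno hd hx hdx ha had hax) hd'D hd h1
    rw [pow_two]
    exact sq_mul (hW.sq hd'D) hdd hc
  · intro r hr hcr
    set d' := r⁻¹ * d * r with hd'
    have hd'D : d' ∈ D := by simpa using hW.conj d hd r⁻¹
    have h1 : d' * d ∈ frameCore D d x a := by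
      have h := mul_mem (inv_mem hr) (frameCore_conj (hle hdX) hr)
      rwa [hW.inv hd, show r⁻¹ * (d * r * d) = d' * d by simp only [hd', mul_assoc]] at h
    have hc := commute_of_mem_two hW.toOT (frame_two hW hgen hO hno hd hx hdx ha had hax) hd'D hd h1
    set e := (s : G)⁻¹ * d' * s with he
    have heD : e ∈ D := by simpa using hW.conj d' hd'D (s : G)⁻¹
    have hse : ∀ w, (s : G)⁻¹ * w * (s : G)⁻¹⁻¹ = (s : G)⁻¹ * w * s := fun w => by rw [inv_inv]
    have hed : Commute e d := by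
      have := (commute_conj_iff (s : G)⁻¹).2 hc
      rwa [conj_eq_self hsc.inv_left, hse, ← he] at this
    have hkN : d' * e ∈ starCore D d := by
      have := prod_mem_core hW hgen hO hno hd hx hdx (inv_mem s.2) hsc.inv_left hd'D hc.symm
      rwa [hse, ← he] at this
    have hkQ : d' * e ∈ frameCore D d x a := by
      have h2 := mul_mem h1 (frameCore_conj (inv_mem (hle s.2)) h1)
      rw [hse, show (s : G)⁻¹ * (d' * d) * s = e * d by
        rw [he]; simp only [mul_assoc]; rw [← hsc.eq]] at h2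
      rwa [show d' * d * (e * d) = d' * (d * e) * d by simp only [mul_assoc], ← hed.eq,
        show d' * (e * d) * d = d' * e * (d * d) by simp only [mul_assoc], hdd, mul_one] at h2
    set g0 := r * e * r⁻¹ with hg0
    have hg0D : g0 ∈ D := hW.conj e heD r
    have hk0 : d' * e = d * g0 := by
      have h2 : r * (d' * e) * r⁻¹ = d' * e := conj_eq_self hcr.symm
      rw [← h2, hd', hg0]; simp [mul_assoc]
    have hg0N : g0 ∈ starCore D d := by
      have h2 := mul_mem (mem_core_of_class hW hd (self_mem_sameCls hd)) hkN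
      rwa [hk0, ← mul_assoc, hdd, one_mul] at h2
    have hg0E : g0 ∈ sameCls D d := class_of_mem_core hW hd hg0D hg0N
    by_contra hne
    have hdg : d ≠ g0 := fun h => hne (by rw [hk0, ← h, hdd])
    have hkD : d * g0 ∈ D := hW.mul_mem_D hgen hO hd (self_mem_sameCls hd) hg0E hdg
    have hkx : Commute (d * g0) x := commute_of_normalized hW.toOT
      (frame_two hW hgen hO hno hd hx hdx ha had hax) hkD hx (hk0 ▸ hkQ)
      (frameCore_conj (Subgroup.subset_closure (Or.inr rfl)) (hk0 ▸ hkQ))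
    have hkE := tri_mem_sameCls hW.toOT hd (GenA.OddTransp.tri_third hW.toOT hd
      ⟨hg0D, OddTranspX.commute_sameCls (self_mem_sameCls hd) hg0E, hkD⟩)
    exact hdx ((hkE.2 x hx).1 hkx)

/-- The core of the frame group is central in it. -/
theorem frameCore_central (hsz : Cfsg.Lie.IsoSuzuki (lineGrp D d x ⧸ Cfsg.pCore 2 (lineGrp D d x)))
    {g r : G} (hg : g ∈ frameGrp D d x a) (hr : r ∈ frameCore D d x a) : Commute g r := by
  have hxc : ∀ r ∈ frameCore D d x a, Commute x r :=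
    line_centralizes_core hW hgen hO hno hd hx hdx ha had hax hsz x self_mem_lineGrp
  have hle : frameGrp D d x a ≤ Subgroup.centralizer {r} := by
    refine (Subgroup.closure_le _).2 ?_
    rintro α (hα | rfl)
    · refine Subgroup.mem_centralizer_singleton_iff.2 ?_
      have hαx : ¬ Commute x α := fun h => hdx ((frameA_commute hW hgen hO hno hd hx hdx ha had hax
        hα hx (Subgroup.subset_closure (Or.inr rfl))).1 h.symm)
      obtain ⟨m, -, hmc, hm, -⟩ := exists_swapper hW.toOT hx hα.1.1 hαx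
      have hmH : m ∈ frameGrp D d x a := (Subgroup.closure_le _).2 (by
        rintro z (rfl | rfl)
        exacts [Subgroup.subset_closure (Or.inr rfl), Subgroup.subset_closure (Or.inl hα)]) hmc
      have h2 := (commute_conj_iff m).2 (hxc _ (frameCore_conj (inv_mem hmH) hr))
      rw [hm, conj_conj_inv] at h2
      exact h2.eq
    · exact Subgroup.mem_centralizer_singleton_iff.2 (hxc r hr).eq
  exact Subgroup.mem_centralizer_singleton_iff.1 (hle hg)

/-- No Suzuki line group in a frame. -/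
theorem frame_not_sz {f : G} (hf : f ∈ Dd D d) (hfx : ¬ Commute f x) (haf : Commute a f) :
    ¬ Cfsg.Lie.IsoSuzuki (lineGrp D d x ⧸ Cfsg.pCore 2 (lineGrp D d x)) := by
  intro hsz
  classical
  have hsz' := frame_sz hW hgen hO hno hd hx hdx ha had hax hsz
  have hQc : ∀ g ∈ frameGrp D d x a, ∀ r ∈ frameCore D d x a, Commute g r := fun g hg r hr =>
    frameCore_central hW hgen hO hno hd hx hdx ha had hax hsz hg hr
  have hxH : x ∈ frameGrp D d x a := Subgroup.subset_closure (Or.inr rfl)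
  have hle := line_le_frame hW hgen hO hno hd hx hdx ha had hax
  have hdS := d_mem_Dd hW hgen hO hno hd hx hdx ha had hax
  have hxS := x_mem_Dd hW hgen hO hno hd hx hdx ha had hax
  set V : Set G := {m | m ∈ D ∧ m ∈ frameGrp D d x a ∧ Commute d m ∧ ¬ Commute m x} with hV
  have hVS : ∀ m ∈ V, m ∈ Dd D a := fun m hm =>
    mem_Dd_of_nc hW hgen hO hno hd hx hdx ha had hax hm.1 hm.2.1 hx hxH hm.2.2.2
  have hVc : ∀ m ∈ V, ∀ m' ∈ V, Commute m m' := fun m hm m' hm' =>
    hno.comm_trans ha (hVS m hm) hdS (hVS m' hm') hm.2.2.1.symm hm'.2.2.1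
  have hEV : ∀ e ∈ sameCls D d, e ∈ V := fun e he => ⟨he.1, hle (mem_lineGrp he),
    ((he.2 d hd).2 (Commute.refl d)).symm, fun h => hdx ((he.2 x hx).1 h)⟩
  have hdV := hEV d (self_mem_sameCls hd)
  have huniq : ∀ m ∈ V, ∀ m' ∈ V, m * m' ∈ frameCore D d x a → m = m' := by
    intro m hm m' hm' hmm
    by_contra hne
    exact hm.2.2.2 (split hW.toOT hx hm.1 hm'.1 (hVc m hm m' hm') hne (hQc x hxH _ hmm)).1.symm
  have hmove : ∀ g ∈ frameGrp D d x a, ∀ m ∈ V, g * m * g⁻¹ ∈ V → ∀ m' ∈ V,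
      g * m' * g⁻¹ ∈ V := by
    intro g hg m hm hgm m' hm'
    have hD' := hW.conj m' hm'.1 g
    have hH' : g * m' * g⁻¹ ∈ frameGrp D d x a := mul_mem (mul_mem hg hm'.2.1) (inv_mem hg)
    have hS' : g * m' * g⁻¹ ∈ Dd D a :=
      mem_Dd_of_nc hW hgen hO hno hd hx hdx ha had hax hD' hH' (hW.conj x hx g)
        (mul_mem (mul_mem hg hxH) (inv_mem hg)) fun h => hm'.2.2.2 ((commute_conj_iff g).1 h)
    have hc : Commute d (g * m' * g⁻¹) := hno.comm_trans ha hdS (hVS _ hgm) hS' hgm.2.2.1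
      ((commute_conj_iff g).2 (hVc m hm m' hm'))
    exact ⟨hD', hH', hc, fun h => hdx (hno.comm_trans ha hdS hS' hxS hc h)⟩
  let P : Subgroup (Equiv.Perm V) :=
    { carrier := {σ | ∃ g ∈ frameGrp D d x a, ∀ m : V, ((σ m : V) : G) = g * m * g⁻¹}
      one_mem' := ⟨1, one_mem _, fun m => by simp⟩
      mul_mem' := by
        rintro σ τ ⟨g, hg, hσ⟩ ⟨g', hg', hτ⟩
        exact ⟨g * g', mul_mem hg hg', fun m => by
          rw [Equiv.Perm.mul_apply, hσ, hτ]; simp [mul_assoc]⟩
      inv_mem' := by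
        rintro σ ⟨g, hg, hσ⟩
        refine ⟨g⁻¹, inv_mem hg, fun m => ?_⟩
        have := hσ (σ⁻¹ m)
        rw [show σ (σ⁻¹ m) = m from σ.apply_symm_apply m] at this
        rw [this, conj_inv_conj] }
  have htrans : ∀ m m' : V, ∃ p : P, (p : Equiv.Perm V) m = m' := by
    intro m m'
    obtain ⟨h₁, -, hc₁, hm₁, -⟩ := exists_swapper hW.toOT m.2.1 hx m.2.2.2.2
    obtain ⟨h₂, -, hc₂, hm₂, -⟩ := exists_swapper hW.toOT hx m'.2.1 (fun h => m'.2.2.2.2 h.symm)
    have hh : h₂ * h₁ ∈ frameGrp D d x a := mul_mem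
      ((Subgroup.closure_le _).2 (by
        rintro z (rfl | rfl)
        exacts [hxH, m'.2.2.1]) hc₂)
      ((Subgroup.closure_le _).2 (by
        rintro z (rfl | rfl)
        exacts [m.2.2.1, hxH]) hc₁)
    have heq : h₂ * h₁ * m * (h₂ * h₁)⁻¹ = m' := by
      rw [← hm₂, ← hm₁]; simp [mul_assoc]
    let σ : V → V := fun z =>
      ⟨h₂ * h₁ * z * (h₂ * h₁)⁻¹, hmove _ hh m m.2 (by rw [heq]; exact m'.2) z z.2⟩
    have hinj : Function.Injective σ := fun z z' e =>
      Subtype.ext (mul_left_cancel (mul_right_cancel (congrArg Subtype.val e)))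
    exact ⟨⟨Equiv.ofBijective σ (Finite.injective_iff_bijective.1 hinj),
      h₂ * h₁, hh, fun z => rfl⟩, Subtype.ext heq⟩
  set π := QuotientGroup.mk' (Cfsg.pCore 2 (frameGrp D d x a)) with hπ
  have hodd : Odd (Nat.card P) := by
    by_contra hev
    rw [Nat.not_odd_iff_even, even_iff_two_dvd] at hev
    haveI : Fact (Nat.Prime 2) := ⟨Nat.prime_two⟩
    obtain ⟨σ, hσ⟩ := exists_prime_orderOf_dvd_card' 2 hev
    obtain ⟨g, hg, hgσ⟩ := σ.2
    obtain ⟨k, m₀, hm₀, hkm⟩ := Nat.exists_eq_two_pow_mul_odd (orderOf_pos g).ne'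
    have hpow : ∀ (n : ℕ) (m : V),
        ((((σ ^ n : P) : Equiv.Perm V) m : V) : G) = g ^ n * m * (g ^ n)⁻¹ := by
      intro n
      induction n with
      | zero => intro m; simp
      | succ n ih =>
        intro m
        rw [pow_succ', Subgroup.coe_mul, Equiv.Perm.mul_apply, hgσ, ih, pow_succ']
        simp [mul_assoc]
    have hσm : σ ^ m₀ = σ := by
      obtain ⟨l, rfl⟩ := hm₀
      rw [pow_succ, pow_mul, show σ ^ 2 = 1 from hσ ▸ pow_orderOf_eq_one σ, one_pow, one_mul]
    have hg2 : ∃ j : ℕ, π ⟨g ^ m₀, pow_mem hg m₀⟩ ^ 2 ^ j = 1 :=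
      ⟨k, by
        rw [← map_pow, show (⟨g ^ m₀, pow_mem hg m₀⟩ : frameGrp D d x a) ^ 2 ^ k = 1 from
          Subtype.ext (by
            rw [SubgroupClass.coe_pow, ← pow_mul, mul_comm, ← hkm, pow_orderOf_eq_one]; rfl),
          map_one]⟩
    have hkey := sz_fix hsz' hg2 (I := π '' {z | (z : G) ∈ V})
      (by
        rintro _ ⟨z, hz, rfl⟩
        rw [← map_mul, show z * z = 1 from Subtype.ext (hW.sq hz.1), map_one])
      (by
        rintro _ ⟨z, hz, rfl⟩ _ ⟨z', hz', rfl⟩
        exact (show Commute z z' from Subtype.ext (hVc _ hz _ hz')).map π)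
      (by
        rintro _ ⟨z, hz, rfl⟩
        refine ⟨⟨g ^ m₀, pow_mem hg m₀⟩ * z * ⟨g ^ m₀, pow_mem hg m₀⟩⁻¹, ?_,
          by rw [map_mul, map_mul, map_inv]⟩
        show g ^ m₀ * (z : G) * (g ^ m₀)⁻¹ ∈ V
        rw [← hpow m₀ ⟨z, hz⟩]; exact Subtype.mem _)
    have hσ1 : σ = 1 := by
      refine Subtype.ext (Equiv.ext fun m => Subtype.ext ?_)
      have hc := hkey (π ⟨m, m.2.2.1⟩) ⟨_, m.2, rfl⟩
      set g' : frameGrp D d x a := ⟨g ^ m₀, pow_mem hg m₀⟩
      have h1 : π (g' * ⟨m, m.2.2.1⟩ * g'⁻¹ * ⟨m, m.2.2.1⟩) = 1 := by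
        rw [map_mul, map_mul, map_mul, map_inv, hc.eq, mul_inv_cancel_right, ← map_mul,
          show (⟨m, m.2.2.1⟩ : frameGrp D d x a) * ⟨m, m.2.2.1⟩ = 1 from Subtype.ext (hW.sq m.2.1),
          map_one]
      have h2 : g ^ m₀ * m * (g ^ m₀)⁻¹ * m ∈ frameCore D d x a :=
        ⟨_, (QuotientGroup.eq_one_iff _).1 h1, rfl⟩
      rw [← hpow] at h2
      have h3 := huniq _ (Subtype.mem _) _ m.2 h2
      rw [hσm] at h3
      exact h3
    rw [hσ1, orderOf_one] at hσ
    omega
  -- the averaged product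
  haveI hWc : IsMulCommutative (closure V) := ⟨⟨fun p q => Subtype.ext (by
    obtain ⟨p, hp⟩ := p
    obtain ⟨q, hq⟩ := q
    show Commute p q
    induction hp, hq using Subgroup.closure_induction₂ with
    | mem a b ha hb => exact hVc a ha b hb
    | one_left y => exact Commute.one_left y
    | one_right y => exact Commute.one_right y
    | mul_left a b c _ _ _ h1 h2 => exact Commute.mul_left h1 h2
    | mul_right a b c _ _ _ h1 h2 => exact Commute.mul_right h1 h2
    | inv_left a b _ _ h1 => exact Commute.inv_left h1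
    | inv_right a b _ _ h1 => exact Commute.inv_right h1)⟩⟩
  haveI : Fintype P := Fintype.ofFinite P
  open scoped IsMulCommutative in
  let w : V → closure V := fun m => ⟨m, Subgroup.subset_closure m.2⟩
  let avg : V → closure V := fun m => ∏ p : P, w ((p : Equiv.Perm V) m)
  have hconst : ∀ m m' : V, avg m' = avg m := by
    intro m m'
    obtain ⟨q, hq⟩ := htrans m m'
    refine Fintype.prod_equiv (Equiv.mulRight q) _ _ fun p => ?_
    simp [hq]
  have hww : ∀ m : V, w m * w m = 1 := fun m => Subtype.ext (hW.sq m.2.1)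
  have havg2 : ∀ m, avg m * avg m = 1 := fun m => by
    simp only [avg, ← Finset.prod_mul_distrib, hww, Finset.prod_const_one]
  -- a good member
  obtain ⟨d₂, t⟩ := hW.tri d hd
  obtain ⟨v, hv, hgood⟩ : ∃ v ∈ sameCls D d, ¬ Commute x (v * f * x * (v * f)) := by
    by_cases h1 : Commute x (d * f * x * (d * f))
    · exact ⟨d₂, tri_mem_sameCls hW.toOT hd t,
        two hW.toOT hd t hf.1 hx hf.2.1.symm (fun h => hdx h.symm) h1⟩
    · exact ⟨d, self_mem_sameCls hd, h1⟩
  have hvf : Commute v f := (hv.2 f hf.1).2 hf.2.1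
  have hvf' : v ≠ f := fun h => hf.2.2 (h ▸ hv)
  have huu : v * f * (v * f) = 1 := sq_mul (hW.sq hv.1) (hW.sq hf.1) hvf
  have hyD : v * f * x * (v * f) ∈ D := hW.conj2 hx huu
  obtain ⟨n, hn, hnx, huniq', hfix⟩ := GenA.OddTransp.swap hW.toOT hx hyD hgood
  have hun : Commute (v * f) n := hfix _ (Or.inr ⟨by rw [inv_eq_of_mul_eq_one_right huu],
    by rw [inv_eq_of_mul_eq_one_right huu, conj_conj huu]⟩)
  obtain ⟨hnv, hnf⟩ := split hW.toOT hn hv.1 hf.1 hvf hvf' hun.symm
  have hfS : f ∈ frameA D d a :=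
    ⟨⟨hf.1, hf.2.1⟩, hf.1, haf, fun h => hfx ((h.2 x hx).2 hax)⟩
  have hfV : f ∈ V := ⟨hf.1, Subgroup.subset_closure (Or.inl hfS), hf.2.1, hfx⟩
  have hnV : n ∈ V := by
    obtain ⟨n', hn', hnc, hn'x, -⟩ := exists_swapper hW.toOT hx hyD hgood
    rw [hW.inv hn'] at hn'x
    refine ⟨hn, ?_, (hv.2 n hn).1 hnv.symm, fun h => hgood ?_⟩
    · rw [← huniq' n' hn' hn'x]
      refine (Subgroup.closure_le _).2 ?_ hnc
      have hu : v * f ∈ frameGrp D d x a :=
        mul_mem (hle (mem_lineGrp hv)) (Subgroup.subset_closure (Or.inl hfS))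
      rintro z (rfl | rfl)
      exacts [hxH, mul_mem (mul_mem hu hxH) hu]
    · rw [← hnx, GenA.OddTransp.fix_of_commute (hW.sq hn) h]
  set z := v * f * n with hz
  have hzz : z * z = 1 := sq_mul huu (hW.sq hn) hun
  have hzx : Commute z x := by
    refine commute_of_fix hzz ?_
    calc z * x * z = v * f * n * x * (n * (v * f)) := by
          rw [hz]; conv_lhs => rhs; rw [hun.eq]
      _ = v * f * (n * x * n) * (v * f) := by simp only [mul_assoc]
      _ = x := by rw [hnx, conj_conj huu]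
  have hzc : ∀ g ∈ frameGrp D d x a, Commute g z := by
    have hle' : frameGrp D d x a ≤ Subgroup.centralizer {z} := by
      refine (Subgroup.closure_le _).2 ?_
      rintro α (hα | rfl)
      · refine Subgroup.mem_centralizer_singleton_iff.2 ?_
        have key : ∀ m ∈ V, Commute α m := fun m hm =>
          (frameA_commute hW hgen hO hno hd hx hdx ha had hax hα hm.1 hm.2.1).2 hm.2.2.1
        exact (((key v (hEV v hv)).mul_right (key f hfV)).mul_right (key n hnV)).eq
      · exact Subgroup.mem_centralizer_singleton_iff.2 hzx.symm.eq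
    exact fun g hg => Subgroup.mem_centralizer_singleton_iff.1 (hle' hg)
  set v' : V := ⟨v, hEV v hv⟩
  set f' : V := ⟨f, hfV⟩
  set n' : V := ⟨n, hnV⟩
  have hsum : avg v' * avg f' * avg n' = (w v' * w f' * w n') ^ Nat.card P := by
    rw [Nat.card_eq_fintype_card, ← Finset.card_univ, ← Finset.prod_const]
    simp only [avg, ← Finset.prod_mul_distrib]
    refine Finset.prod_congr rfl fun p _ => Subtype.ext ?_
    obtain ⟨g, hg, hp⟩ := p.2
    show ((p : Equiv.Perm V) v' : G) * ((p : Equiv.Perm V) f' : G) * ((p : Equiv.Perm V) n' : G) = z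
    rw [hp, hp, hp]
    rw [show g * v * g⁻¹ * (g * f * g⁻¹) * (g * n * g⁻¹) = g * z * g⁻¹ by simp [hz, mul_assoc]]
    exact conj_eq_self (hzc g hg)
  have hzw : (w v' * w f' * w n') ^ Nat.card P = w v' * w f' * w n' := by
    obtain ⟨l, hl⟩ := hodd
    have h2 : (w v' * w f' * w n') ^ 2 = 1 := Subtype.ext (by
      rw [SubgroupClass.coe_pow, pow_two]; exact hzz)
    rw [hl, pow_succ, pow_mul, h2, one_pow, one_mul]
  rw [hconst ⟨d, hdV⟩ v', hconst ⟨d, hdV⟩ f', hconst ⟨d, hdV⟩ n', havg2, one_mul, hzw] at hsum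
  have hone : avg ⟨d, hdV⟩ = 1 := by
    have ht₃ := tri_mem_sameCls hW.toOT hd (GenA.OddTransp.tri_third hW.toOT hd t)
    set d₂' : V := ⟨d₂, hEV _ (tri_mem_sameCls hW.toOT hd t)⟩
    set d₃' : V := ⟨d * d₂, hEV _ ht₃⟩
    have h3 : avg d₃' = avg ⟨d, hdV⟩ * avg d₂' := by
      simp only [avg, ← Finset.prod_mul_distrib]
      refine Finset.prod_congr rfl fun p _ => Subtype.ext ?_
      obtain ⟨g, -, hp⟩ := p.2
      show ((p : Equiv.Perm V) d₃' : G) =
        ((p : Equiv.Perm V) ⟨d, hdV⟩ : G) * ((p : Equiv.Perm V) d₂' : G)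
      rw [hp, hp, hp]
      simp [d₃', d₂', mul_assoc]
    rw [hconst ⟨d, hdV⟩ d₃', hconst ⟨d, hdV⟩ d₂', havg2] at h3
    exact h3
  rw [hone] at hsum
  have hz1 : z = 1 := (congrArg Subtype.val hsum).symm
  have hvn : v * f = n := by rw [eq_inv_of_mul_eq_one_left hz1, hW.inv hn]
  have hfE := tri_mem_sameCls hW.toOT hv.1 ⟨hf.1, hvf, hvn ▸ hn⟩
  rw [sameCls_eq hv] at hfE
  exact hf.2.2 hfE

end

/-- No Suzuki line group when no pair crosses. -/
theorem not_sz_of_noCross [Finite G] (hW : World D) (hgen : closure D = ⊤)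
    (hO : Cfsg.pCore 2 G = ⊥) (hno : NoCross D) {d x : G} (hd : d ∈ D) (hx : x ∈ D)
    (hdx : ¬ Commute d x) :
    ¬ Cfsg.Lie.IsoSuzuki (lineGrp D d x ⧸ Cfsg.pCore 2 (lineGrp D d x)) := by
  obtain ⟨f, hf, hfx⟩ := hW.exists_Dd_nc hd hx hdx
  obtain ⟨a, ha, had, hax, haf⟩ := hW.common_three hd hx hf.1 hf.2.1
  exact frame_not_sz hW hgen hO hno hd hx hdx ha had hax hf hfx haf

end Cfsg.Agent.OddTranspC
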