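import Cfsg.Agent.Lib.OddTranspX.SuzukiFacts
import Cfsg.Agent.Lib.Suzuki.Sylow
import Cfsg.Agent.Lib.Classical.GL2
import Cfsg.Agent.Lib.Classical.Linear
import Cfsg.Agent.Lib.GL2.Counts
import Mathlib

/-!
# Small facts on the Suzuki groups and on `PSL(2, 2 ^ n)`

Simplicity, an element of order four acting as a square root of `-1` on one of order five, and the Sylow
2-subgroups, in the forms used by the line lemma of S5052.
-/

set_option autoImplicit false
set_option linter.style.haveILetI false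
set_option linter.unusedSectionVars false

namespace Cfsg.Agent.OddTranspC

open Subgroup
open Cfsg.Agent.Suzuki
open scoped MatrixGroups

universe u

variable {S : Type u} [Group S] [Finite S]

/-- A Suzuki group is simple. -/
theorem sz_simple (h : Cfsg.Lie.IsoSuzuki S) : IsSimpleGroup S := by
  obtain ⟨F, _, _, m, hm, hF, ⟨e₀⟩⟩ := h
  haveI : CharP F 2 := Cfsg.Agent.Suzuki.charTwo hF
  obtain ⟨f⟩ : Nonempty (Cfsg.Sz F m ≃* Cfsg.Lie.Sz F (2 ^ (m + 1))) := Cfsg.Agent.Suzuki.lieEquiv hm hF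
  haveI : IsSimpleGroup (Cfsg.Sz F m) := Cfsg.Agent.Suzuki.isSimple hm hF
  exact (e₀.trans f.symm).isSimpleGroup

/-- Every involution is the square of an element inducing the automorphism `t ↦ t²` on some element of order
five. -/
theorem sz_pair (h : Cfsg.Lie.IsoSuzuki S) {i : S} (hi : orderOf i = 2) :
    ∃ s t : S, s * s = i ∧ orderOf t = 5 ∧ s * t * s⁻¹ = t ^ 2 := by
  obtain ⟨F, _, _, m, hm, hF, ⟨e₀⟩⟩ := h
  haveI : CharP F 2 := Cfsg.Agent.Suzuki.charTwo hF
  obtain ⟨f⟩ : Nonempty (Cfsg.Sz F m ≃* Cfsg.Lie.Sz F (2 ^ (m + 1))) := Cfsg.Agent.Suzuki.lieEquiv hm hF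
  set φ : S ≃* Cfsg.Sz F m := e₀.trans f.symm
  have h5 : 5 ∣ Fintype.card F ^ 2 + 1 := by
    rw [hF, ← pow_mul, mul_comm, pow_mul, Nat.dvd_iff_mod_eq_zero, Nat.add_mod, Nat.pow_mod]
    norm_num [pow_succ, pow_mul, Nat.mul_mod, Nat.pow_mod]
  obtain ⟨y, hy, hf⟩ := exists_fpf_of_prime hm hF (p := 5) (by norm_num) h5
  obtain ⟨s, μ, hs4, hs2, hsy, hμ, -⟩ :=
    OddTranspX.exists_square_root_neg_one hm hF (r := 5) (by norm_num) (by norm_num) hy hf
  -- a power `2` of the action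
  obtain ⟨σ, hσ4, hσ2, hσy⟩ : ∃ σ : Cfsg.Sz F m, σ ^ 4 = 1 ∧ σ * σ ≠ 1 ∧ σ * y * σ⁻¹ = y ^ 2 := by
    have hμ5 : μ % 5 = 2 ∨ μ % 5 = 3 := by
      have h1 : (μ % 5) * (μ % 5) % 5 = 4 := by
        rw [← Nat.mul_mod]
        omega
      have h2 : μ % 5 < 5 := Nat.mod_lt _ (by norm_num)
      interval_cases (μ % 5) <;> simp_all
    have hpow : y ^ μ = y ^ (μ % 5) := by rw [← hy, pow_mod_orderOf]
    rcases hμ5 with e | e
    · exact ⟨s, hs4, hs2, by rw [hsy, hpow, e]⟩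
    · have hs4' : s * s * (s * s) = 1 := by rw [← pow_two, ← pow_two, ← pow_mul]; exact hs4
      refine ⟨s⁻¹, by rw [inv_pow, hs4, inv_one], fun e' => hs2 (inv_eq_one.1 (by rw [mul_inv_rev]; exact e')), ?_⟩
      have h1 : s * y ^ 2 * s⁻¹ = y := by
        rw [← conj_pow, hsy, hpow, e, ← pow_mul, ← pow_mod_orderOf, hy]
        norm_num
      calc s⁻¹ * y * s⁻¹⁻¹ = s⁻¹ * (s * y ^ 2 * s⁻¹) * s := by rw [h1, inv_inv]
        _ = y ^ 2 := by group
  have ho : σ * σ * (σ * σ) = 1 := by rw [← pow_two, ← pow_two, ← pow_mul]; exact hσ4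
  obtain ⟨g, hg⟩ := OddTranspX.exists_conj_involution hm hF ho hσ2
  obtain ⟨k, hk⟩ := OddTranspX.exists_conj_involution hm hF (t := φ i)
    (by rw [← map_mul, ← pow_two, ← hi, pow_orderOf_eq_one, map_one])
    (fun e => by
      rw [φ.map_eq_one_iff] at e
      rw [e, orderOf_one] at hi
      omega)
  set c := k⁻¹ * g with hc
  have hci : c * (σ * σ) * c⁻¹ = φ i := by
    rw [hc, show k⁻¹ * g * (σ * σ) * (k⁻¹ * g)⁻¹ = k⁻¹ * (g * (σ * σ) * g⁻¹) * k by group, hg, ← hk]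
    group
  refine ⟨φ.symm (c * σ * c⁻¹), φ.symm (c * y * c⁻¹), φ.injective ?_, ?_, φ.injective ?_⟩
  · rw [map_mul, φ.apply_symm_apply, ← hci]
    group
  · rw [φ.symm.orderOf_eq]
    exact ((MulAut.conj c).orderOf_eq y).trans hy
  · rw [map_mul, map_mul, map_inv, map_pow, φ.apply_symm_apply, φ.apply_symm_apply, conj_pow, ← hσy]
    group

/-- A 2-element normalising a commuting set of involutions centralises it. -/
theorem sz_fix (h : Cfsg.Lie.IsoSuzuki S) {g : S} (hg : ∃ k : ℕ, g ^ 2 ^ k = 1) {I : Set S}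
    (h1 : ∀ i ∈ I, i * i = 1) (h2 : ∀ i ∈ I, ∀ j ∈ I, Commute i j) (h3 : ∀ i ∈ I, g * i * g⁻¹ ∈ I) :
    ∀ i ∈ I, Commute g i := by
  obtain ⟨F, _, _, m, hm, hF, ⟨e₀⟩⟩ := h
  haveI : CharP F 2 := Cfsg.Agent.Suzuki.charTwo hF
  haveI : Fact (Nat.Prime 2) := ⟨Nat.prime_two⟩
  obtain ⟨f⟩ : Nonempty (Cfsg.Sz F m ≃* Cfsg.Lie.Sz F (2 ^ (m + 1))) := Cfsg.Agent.Suzuki.lieEquiv hm hF
  set φ : S ≃* Cfsg.Sz F m := e₀.trans f.symm
  set E := closure I with hE
  have hcomm : E ≤ centralizer (E : Set S) := by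
    rw [hE, centralizer_closure, closure_le]
    intro i hi
    exact mem_centralizer_iff.2 fun j hj => (h2 j hj i hi).eq
  have hsq : ∀ x ∈ E, x * x = 1 := by
    intro x hx
    induction hx using closure_induction with
    | mem x hx => exact h1 x hx
    | one => exact one_mul 1
    | mul a b ha hb iha ihb =>
      rw [show a * b * (a * b) = a * (b * a) * b by group, mem_centralizer_iff.1 (hcomm ha) b hb,
        show a * (a * b) * b = a * a * (b * b) by group, iha, ihb, one_mul]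
    | inv a _ iha => rw [← mul_inv_rev, iha, inv_one]
  have hEp : IsPGroup 2 ↥E := fun x => ⟨1, Subtype.ext (by simpa [pow_two] using hsq x x.2)⟩
  have hgN : zpowers g ≤ normalizer (E : Set S) := by
    refine zpowers_le.2 (mem_normalizer_iff_map_conj_eq.2 (eq_of_le_of_card_ge ?_ ?_))
    · rw [hE, MonoidHom.map_closure, closure_le]
      rintro _ ⟨i, hi, rfl⟩
      exact subset_closure (h3 i hi)
    · rw [card_map_of_injective (MulAut.conj g).injective]
  have hgp : IsPGroup 2 ↥(zpowers g) := by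
    obtain ⟨k, hk⟩ := hg
    obtain ⟨a, -, ha⟩ := (Nat.dvd_prime_pow Nat.prime_two).1 (orderOf_dvd_of_pow_eq_one hk)
    exact IsPGroup.of_card (n := a) (by rw [Nat.card_zpowers, ha])
  obtain ⟨P, hP⟩ := ((hgp.to_sup_of_normal_right' hEp hgN).map φ.toMonoidHom).exists_le_sylow
  obtain ⟨u⟩ := sylow_equiv hm hF P
  intro i hi
  have hiP : φ i ∈ (P : Subgroup (Cfsg.Sz F m)) := hP (mem_map_of_mem _ (mem_sup_right (subset_closure hi)))
  have hgP : φ g ∈ (P : Subgroup (Cfsg.Sz F m)) := hP (mem_map_of_mem _ (mem_sup_left (mem_zpowers g)))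
  obtain ⟨a, b, hab⟩ := ut_surjective hF (u.symm ⟨φ i, hiP⟩)
  have h4 : ut hF a b * ut hF a b = (1 : U (m := m) hF) := by
    rw [← hab, ← map_mul, ← map_one u.symm]
    exact congrArg u.symm (Subtype.ext (by
      show φ i * φ i = 1
      rw [← map_mul, h1 i hi, map_one]))
  rw [ut_mul, ← ut_zero hF] at h4
  obtain ⟨-, h5⟩ := ut_injective hF h4
  have ha : a = 0 := by
    rw [CharTwo.add_self_eq_zero, zero_add, mul_eq_zero] at h5
    rcases h5 with h5 | h5
    · exact eq_zero_of_pow_eq_zero h5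
    · exact h5
  have hz : ut hF a b ∈ Subgroup.center (U (m := m) hF) := (mem_center_iff' hm hF).2 ha
  rw [← hab] at hz
  have h6 := Subgroup.mem_center_iff.1 hz (u.symm ⟨φ g, hgP⟩)
  rw [← map_mul, ← map_mul] at h6
  exact φ.injective (by rw [map_mul, map_mul]; exact congrArg Subtype.val (u.symm.injective h6))

/-- Involutions and Sylow 2-subgroups of `PSL(2, 2 ^ n)`. -/
theorem l2_facts {F : Type} [Field F] [Fintype F] [CharP F 2]
    (e : S ≃* Matrix.ProjectiveSpecialLinearGroup (Fin 2) F) :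
    (∀ g : S, g ^ 4 = 1 → g * g = 1) ∧
      (∀ i j : S, orderOf i = 2 → orderOf j = 2 → ∃ g, g * i * g⁻¹ = j) ∧
      ∀ P : Sylow 2 S, Nat.card P = Fintype.card F ∧
        ∀ a ∈ (P : Subgroup S), ∀ b ∈ (P : Subgroup S), Commute a b := by
  haveI : Fact (Nat.Prime 2) := ⟨Nat.prime_two⟩
  -- the centre of `SL(2, F)` is trivial
  have hcen : Subgroup.center (Matrix.SpecialLinearGroup (Fin 2) F) = ⊥ := by
    refine card_eq_one.1 ?_
    obtain ⟨n, -, hn⟩ := FiniteField.card F 2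
    rw [Classical.Linear.natCard_center_SL, Fintype.card_fin]
    refine Nat.prime_two.coprime_iff_not_dvd.2 fun hd => ?_
    have h1 : 1 ≤ Fintype.card F := Fintype.card_pos
    have h2 : 2 ∣ Fintype.card F := hn ▸ dvd_pow_self 2 n.ne_zero
    omega
  let π : SL(2, F) ≃* Matrix.ProjectiveSpecialLinearGroup (Fin 2) F :=
    MulEquiv.ofBijective (QuotientGroup.mk' (Subgroup.center SL(2, F)))
      ⟨(MonoidHom.ker_eq_bot_iff _).1 ((QuotientGroup.ker_mk' _).trans hcen), QuotientGroup.mk'_surjective _⟩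
  set φ : S ≃* SL(2, F) := e.trans π.symm
  -- every 2-subgroup is in a conjugate of the unitriangular group
  have hin : ∀ H : Subgroup S, IsPGroup 2 ↥H → ∃ c : SL(2, F), ∀ x ∈ H, ∃ r : F,
      c * φ x * c⁻¹ = Classical.GL2.uniSL r := by
    intro H hH
    obtain ⟨Q, hQ⟩ := (hH.map φ.toMonoidHom).exists_le_sylow
    obtain ⟨g, rfl⟩ := Classical.GL2.exists_eq_conj_U 2 Q
    refine ⟨g⁻¹, fun x hx => ?_⟩
    have h1 := hQ (mem_map_of_mem _ hx)
    rw [Sylow.coe_subgroup_smul, Subgroup.mem_pointwise_smul_iff_inv_smul_mem,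
      Classical.GL2.coe_sylowSL] at h1
    obtain ⟨r, hr⟩ := h1
    refine ⟨r.toAdd, ?_⟩
    simpa [MulAut.smul_def, Classical.GL2.uniHom] using hr.symm
  have hinj : ∀ (c : SL(2, F)) (x y : S), c * φ x * c⁻¹ = c * φ y * c⁻¹ → x = y := fun c x y h =>
    φ.injective (mul_left_cancel (mul_right_cancel h))
  refine ⟨fun g hg => ?_, fun i j hi hj => ?_, fun P => ⟨?_, fun a ha b hb => ?_⟩⟩
  · obtain ⟨a, -, ha⟩ := (Nat.dvd_prime_pow Nat.prime_two).1 (orderOf_dvd_of_pow_eq_one (show g ^ 2 ^ 2 = 1 from hg))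
    obtain ⟨c, hc⟩ := hin (zpowers g) (IsPGroup.of_card (n := a) (by rw [Nat.card_zpowers, ha]))
    obtain ⟨r, hr⟩ := hc g (mem_zpowers g)
    refine hinj c _ _ ?_
    rw [map_mul, map_one, show c * (φ g * φ g) * c⁻¹ = c * φ g * c⁻¹ * (c * φ g * c⁻¹) by group, hr,
      Classical.GL2.uniSL_mul, CharTwo.add_self_eq_zero, Classical.GL2.uniSL_zero, mul_one, mul_inv_cancel]
  · have key : ∀ i : S, orderOf i = 2 → ∃ c : SL(2, F), c * φ i * c⁻¹ = Classical.GL2.uniSL 1 := by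
      intro i hi
      obtain ⟨c, hc⟩ := hin (zpowers i) (IsPGroup.of_card (n := 1) (by rw [Nat.card_zpowers, hi, pow_one]))
      obtain ⟨r, hr⟩ := hc i (mem_zpowers i)
      have hr0 : r ≠ 0 := fun e0 => by
        rw [e0, Classical.GL2.uniSL_zero, conj_eq_one_iff, φ.map_eq_one_iff] at hr
        rw [hr, orderOf_one] at hi
        omega
      obtain ⟨a, ha⟩ := FiniteField.isSquare_of_char_two (ringChar.eq F 2) r⁻¹
      have ha0 : a ≠ 0 := fun e0 => inv_ne_zero hr0 (by rw [ha, e0, mul_zero])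
      let d : SL(2, F) := ⟨!![a, 0; 0, a⁻¹], by simp [Matrix.det_fin_two, ha0]⟩
      refine ⟨d * c, ?_⟩
      rw [show d * c * φ i * (d * c)⁻¹ = d * (c * φ i * c⁻¹) * d⁻¹ by group, hr, mul_inv_eq_iff_eq_mul]
      apply Subtype.ext
      have har : a * r = a⁻¹ := by
        field_simp
        have := congrArg (· * r) ha
        simp [inv_mul_cancel₀ hr0] at this
        linear_combination -this
      show d.1 * (Classical.GL2.uniSL r).1 = (Classical.GL2.uniSL 1).1 * d.1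
      ext p q
      fin_cases p <;> fin_cases q <;> simp [d, Classical.GL2.uniSL, Matrix.mul_apply, Fin.sum_univ_two, har]
    obtain ⟨c, hc⟩ := key i hi
    obtain ⟨k, hk⟩ := key j hj
    refine ⟨φ.symm (k⁻¹ * c), φ.injective ?_⟩
    rw [map_mul, map_mul, map_inv, φ.apply_symm_apply,
      show k⁻¹ * c * φ i * (k⁻¹ * c)⁻¹ = k⁻¹ * (c * φ i * c⁻¹) * k by group, hc, ← hk]
    group
  · obtain ⟨Q⟩ := (inferInstance : Nonempty (Sylow 2 SL(2, F)))
    rw [P.card_eq_multiplicity, Nat.card_congr φ.toEquiv,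
      ← (Classical.GL2.sylowSL (F := F) 2).card_eq_multiplicity, Classical.GL2.coe_sylowSL,
      Classical.GL2.natCard_U, Nat.card_eq_fintype_card]
  · obtain ⟨c, hc⟩ := hin (P : Subgroup S) P.2
    obtain ⟨r, hr⟩ := hc a ha
    obtain ⟨r', hr'⟩ := hc b hb
    refine hinj c _ _ ?_
    rw [map_mul, map_mul, show c * (φ a * φ b) * c⁻¹ = c * φ a * c⁻¹ * (c * φ b * c⁻¹) by group,
      show c * (φ b * φ a) * c⁻¹ = c * φ b * c⁻¹ * (c * φ a * c⁻¹) by group, hr, hr',
      Classical.GL2.uniSL_mul, Classical.GL2.uniSL_mul, add_comm]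

end Cfsg.Agent.OddTranspC
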