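import Cfsg.Agent.Lib.OddTranspC.Line
import Cfsg.Agent.Lib.OddTranspC.SzFacts
import Cfsg.Agent.Lib.EqConjOdd.Basic

/-!
# Lines of type `L2(2^n)`

If the factor group of the line group over its largest normal 2-subgroup is `L2(q)`, then the latter is
trivial, `q` is the order of `E(d)`, and the line group has no element of order four.
-/

set_option autoImplicit false
set_option linter.style.haveILetI false

namespace Cfsg.Agent.OddTranspC

open Cfsg.Agent.GenA.OddTransp (OT Tri)
open Cfsg.Agent.OddTranspX (sameCls Concl)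
open Subgroup (closure)

universe u

variable {G : Type u} [Group G]

theorem line_no_four {D : Set G} {d x : G} (h : LineConcl D d x) :
    ∀ g ∈ lineGrp D d x, g ^ 4 = 1 → g * g = 1 := by
  obtain ⟨F, _, _, hF, -, ⟨e⟩⟩ := h
  haveI := hF
  haveI : Finite (lineGrp D d x) := Finite.of_equiv _ e.symm.toEquiv
  intro g hg h4
  exact congrArg Subtype.val ((l2_facts e).1 ⟨g, hg⟩ (Subtype.ext h4))

theorem line_l2 [Finite G] {D : Set G} (hW : World D) (hgen : closure D = ⊤) (hO : Cfsg.pCore 2 G = ⊥)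
    {d x : G} (hd : d ∈ D) (hx : x ∈ D) (hdx : ¬ Commute d x) {F : Type} [Field F] [Fintype F] [CharP F 2]
    (e : lineGrp D d x ⧸ Cfsg.pCore 2 (lineGrp D d x) ≃* Matrix.ProjectiveSpecialLinearGroup (Fin 2) F) :
    LineConcl D d x := by
  classical
  haveI : Fact (Nat.Prime 2) := ⟨Nat.prime_two⟩
  obtain ⟨hexp, hconj, hsyl⟩ := l2_facts e
  set X := lineGrp D d x with hXdef
  set N := Cfsg.pCore 2 X with hNdef
  have hNp : IsPGroup 2 N := Cores.pCore_isPGroup 2
  set π := QuotientGroup.mk' N with hπ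
  have hxX : x ∈ X := self_mem_lineGrp
  have hcen : ∀ r ∈ N, ∀ g : X, Commute g r := fun r hr g => Subtype.ext
    (lineCore_central hW hgen hO hd hx hdx (Subgroup.mem_map_of_mem _ hr) g.2).eq
  have hcls := classGrp_coe hW hgen hO hd
  set E := (closure (sameCls D d)).subgroupOf X with hEdef
  have hEX : closure (sameCls D d) ≤ X :=
    (Subgroup.closure_le _).2 fun a ha => mem_lineGrp ha
  have hEmem : ∀ z ∈ E, (z : G) ∈ sameCls D d ∨ z = 1 := fun z hz => by
    have h1 : (z : G) ∈ sameCls D d ∪ {1} := hcls ▸ (Subgroup.mem_subgroupOf.1 hz : (z : G) ∈ _)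
    exact h1.imp id fun h => Subtype.ext h
  have hEcomm : ∀ a ∈ E, ∀ b ∈ E, Commute a b := fun a ha b hb => by
    rcases hEmem a ha with h1 | h1
    · rcases hEmem b hb with h2 | h2
      · exact Subtype.ext (OddTranspX.commute_sameCls h1 h2).eq
      · rw [h2]; exact Commute.one_right _
    · rw [h1]; exact Commute.one_left _
  have hEsq : ∀ a ∈ E, a * a = 1 := fun a ha => by
    rcases hEmem a ha with h1 | h1
    · exact Subtype.ext (hW.sq h1.1)
    · rw [h1, one_mul]
  have hEN : ∀ z ∈ E, z ∈ N → z = 1 := fun z hz hzN => by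
    refine (hEmem z hz).resolve_left fun h1 => hdx ((h1.2 x hx).1 ?_)
    exact (congrArg Subtype.val (hcen z hzN ⟨x, hxX⟩).eq : x * (z : G) = z * x).symm
  -- the image of `d`
  set d' : X := ⟨d, mem_lineGrp (self_mem_sameCls hd)⟩ with hd'
  have hd'E : d' ∈ E := Subgroup.subset_closure (self_mem_sameCls hd)
  have hd'1 : d' ≠ 1 := fun h => hdx (by
    rw [show d = 1 from congrArg Subtype.val h]; exact Commute.one_left x)
  have hπd : orderOf (π d') = 2 := orderOf_eq_prime
    (by rw [pow_two, ← map_mul, hEsq d' hd'E, map_one])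
    (fun h => hd'1 (hEN d' hd'E ((QuotientGroup.eq_one_iff _).1 h)))
  have hEp : IsPGroup 2 E := fun a => ⟨1, Subtype.ext (by simpa [pow_two] using hEsq a a.2)⟩
  obtain ⟨P, hP⟩ := (hEp.map π).exists_le_sylow
  obtain ⟨hPcard, hPcomm⟩ := hsyl P
  -- every element of `P` comes from `E(d)`
  have hPE : (P : Subgroup (X ⧸ N)) ≤ E.map π := by
    intro p hp
    by_cases hp1 : p = 1
    · rw [hp1]; exact one_mem _
    obtain ⟨k, hk⟩ := P.2 ⟨p, hp⟩
    have hk' : p ^ 2 ^ k = 1 := congrArg Subtype.val hk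
    have hp2 : p * p = 1 := by
      have key : ∀ n : ℕ, ∀ y : X ⧸ N, y ^ 2 ^ n = 1 → y * y = 1 := by
        intro n
        induction n with
        | zero => intro y hy; rw [pow_zero, pow_one] at hy; rw [hy, one_mul]
        | succ n ih =>
          intro y hy
          refine hexp y ?_
          have h1 := ih (y ^ 2) (by rw [← pow_mul, ← pow_succ']; exact hy)
          rwa [← pow_two, ← pow_mul] at h1
      exact key k p hk'
    obtain ⟨g, hg⟩ := hconj (π d') p hπd (orderOf_eq_prime (by rw [pow_two]; exact hp2) hp1)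
    obtain ⟨g, rfl⟩ := QuotientGroup.mk'_surjective N g
    set m := g * d' * g⁻¹ with hm
    have hπm : π m = p := by rw [hm, map_mul, map_mul, map_inv]; exact hg
    have hmD : (m : G) ∈ D := hW.conj d hd (g : G)
    have hc := hPcomm p hp (π d') (hP (Subgroup.mem_map_of_mem π hd'E))
    have h1 : (d' * m) * (d' * m) ∈ N := by
      refine (QuotientGroup.eq_one_iff _).1 (?_ : π ((d' * m) * (d' * m)) = 1)
      simp only [map_mul, hπm]
      rw [show π d' * p * (π d' * p) = π d' * (p * π d') * p by simp only [mul_assoc], hc.eq,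
        show π d' * (π d' * p) * p = π d' * π d' * (p * p) by simp only [mul_assoc], hp2, mul_one,
        ← map_mul, hEsq d' hd'E, map_one]
    obtain ⟨j, hj⟩ := pgroup_pow hNp h1
    have hdm : Commute d (m : G) := by
      refine commute_of_two_power hW.toOT hd hmD (j := 1) (k := j) ?_
      rw [pow_one, pow_two]
      exact congrArg Subtype.val hj
    exact ⟨m, Subgroup.subset_closure (hW.mem_sameCls_of_line hd hx hdx hmD m.2 hdm), hπm⟩
  have hPeq : (P : Subgroup (X ⧸ N)) = E.map π := le_antisymm hPE hP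
  have hcardE : Nat.card (closure (sameCls D d)) = Fintype.card F := by
    rw [← hPcard]
    refine ((Nat.card_congr (Subgroup.subgroupOfEquivOfLe hEX).toEquiv).symm).trans ?_
    show Nat.card E = _
    rw [show Nat.card P = Nat.card (P : Subgroup (X ⧸ N)) from rfl, hPeq]
    refine Nat.card_eq_of_bijective (fun z : E => (⟨π z, Subgroup.mem_map_of_mem π z.2⟩ : E.map π))
      ⟨fun a b h => ?_, fun z => ?_⟩
    · have h1 : ((a : X))⁻¹ * b ∈ N := QuotientGroup.eq.1 (congrArg Subtype.val h)
      exact Subtype.ext (inv_mul_eq_one.1 (hEN _ (mul_mem (inv_mem a.2) b.2) h1))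
    · obtain ⟨z, w, hw, rfl⟩ := z
      exact ⟨⟨w, hw⟩, rfl⟩
  -- the core is trivial
  have hN : N = ⊥ := by
    rw [eq_bot_iff]
    intro z hz
    obtain ⟨P', hP'⟩ := ((P.2.comap_of_ker_isPGroup π (by rwa [hπ, QuotientGroup.ker_mk'])) :
      IsPGroup 2 ((P : Subgroup (X ⧸ N)).comap π)).exists_le_sylow
    have hP'P : (P' : Subgroup X).map π ≤ P :=
      (P.3 (P'.2.map π) (fun p hp => by
        obtain ⟨w, rfl⟩ := QuotientGroup.mk'_surjective N p
        exact Subgroup.mem_map_of_mem π (hP' hp))).le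
    have hdec : ∀ a ∈ (P' : Subgroup X), ∃ f ∈ E, ∃ r ∈ N, a = f * r := fun a ha => by
      have h1 := hP'P (Subgroup.mem_map_of_mem π ha)
      rw [hPeq] at h1
      obtain ⟨f, hf, hfa⟩ := h1
      exact ⟨f, hf, f⁻¹ * a, QuotientGroup.eq.1 hfa, (mul_inv_cancel_left f a).symm⟩
    refine Subgroup.mem_bot.2 (EqConjOdd.eq_one_of_central P' (fun a ha b hb => ?_)
      (hP' (show π z ∈ P by rw [show π z = 1 from (QuotientGroup.eq_one_iff _).2 hz]; exact one_mem _))
      (Subgroup.mem_center_iff.2 fun g => (hcen z hz g).eq)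
      (by rw [lineGrp_commutator hW hgen hO hd hx hdx]; trivial))
    obtain ⟨f, hf, r, hr, rfl⟩ := hdec a ha
    obtain ⟨f', hf', r', hr', rfl⟩ := hdec b hb
    exact (((hEcomm f hf f' hf').mul_right (hcen r' hr' f)).mul_left
      ((hcen r hr f').symm.mul_right (hcen r hr r').symm)).eq
  exact ⟨F, inferInstance, inferInstance, inferInstance, hcardE.symm,
    ⟨((QuotientGroup.quotientMulEquivOfEq hN).trans QuotientGroup.quotientBot).symm.trans e⟩⟩

end Cfsg.Agent.OddTranspC
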