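import Cfsg.Agent.Lib.OddTranspC.SzFacts

/-!
# A group without elements of order four has no Suzuki section over its normal 2-subgroup
-/

set_option autoImplicit false

namespace Cfsg.Agent.OddTranspC

universe u

/-- If `φ` has kernel inside `O_2(X)` and its image has no element of order four, `X / O_2(X)` is not a Suzuki
group: the latter has elements of order four. -/
theorem not_sz_of_hom {X H : Type u} [Group X] [Finite X] [Group H] (φ : X →* H)
    (hker : φ.ker ≤ Cfsg.pCore 2 X) (h4 : ∀ g : X, φ g ^ 4 = 1 → φ g * φ g = 1) :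
    ¬ Cfsg.Lie.IsoSuzuki (X ⧸ Cfsg.pCore 2 X) := by
  intro h
  haveI : Fact (Nat.Prime 2) := ⟨Nat.prime_two⟩
  have h2 : 2 ∣ Nat.card (X ⧸ Cfsg.pCore 2 X) := by
    obtain ⟨F, _, _, m, hm, hF, ⟨e₀⟩⟩ := h
    haveI : CharP F 2 := Suzuki.charTwo hF
    obtain ⟨f⟩ : Nonempty (Cfsg.Sz F m ≃* Cfsg.Lie.Sz F (2 ^ (m + 1))) := Suzuki.lieEquiv hm hF
    rw [Nat.card_congr (e₀.trans f.symm).toEquiv]
    refine Nat.dvd_of_factorization_pos ?_
    rw [Suzuki.two_pow_factorization hm hF]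
    omega
  obtain ⟨i, hi⟩ := exists_prime_orderOf_dvd_card' 2 h2
  obtain ⟨σ, -, hσ, -, -⟩ := sz_pair h hi
  obtain ⟨g, rfl⟩ := QuotientGroup.mk'_surjective (Cfsg.pCore 2 X) σ
  obtain ⟨a, b, hb, hab⟩ := Nat.exists_eq_two_pow_mul_odd (n := orderOf g) (orderOf_pos g).ne'
  -- the odd power of `g` is a 2-element with the same square modulo `O_2(X)`
  have hg : (g ^ b) ^ 2 ^ a = 1 := by rw [← pow_mul, mul_comm, ← hab, pow_orderOf_eq_one]
  have key : ∀ n : ℕ, ∀ y : X, y ^ 2 ^ n = 1 → φ y * φ y = 1 := by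
    intro n
    induction n with
    | zero =>
      intro y hy
      rw [pow_zero, pow_one] at hy
      rw [hy, map_one, one_mul]
    | succ n ih =>
      intro y hy
      refine h4 y ?_
      have h1 := ih (y ^ 2) (by rw [← pow_mul, ← pow_succ']; exact hy)
      rw [← pow_two, map_pow, ← pow_mul] at h1
      exact h1
  have h3 : g ^ b * g ^ b ∈ φ.ker := by
    rw [MonoidHom.mem_ker, map_mul]
    exact key a _ hg
  have h5 : i ^ b = 1 := by
    rw [← hσ, ← map_mul, ← map_pow, Commute.mul_pow (Commute.refl g)]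
    exact (QuotientGroup.eq_one_iff _).2 (hker h3)
  obtain ⟨c, rfl⟩ := hb
  have h6 : i ^ 2 = 1 := orderOf_dvd_iff_pow_eq_one.1 (dvd_of_eq hi)
  rw [pow_succ, pow_mul, h6, one_pow, one_mul] at h5
  rw [h5, orderOf_one] at hi
  exact absurd hi (by norm_num)

end Cfsg.Agent.OddTranspC
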