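import Cfsg.Agent.Lib.OddTranspC.Line
import Cfsg.Agent.Lib.OddTranspC.NotSz

/-!
# All pairs crossing: no Suzuki lines

When all non-commuting pairs cross, a line group acts inside the group of the members around a common
neighbour, so by induction it has no Suzuki quotient.
-/

set_option autoImplicit false
set_option linter.style.haveILetI false

namespace Cfsg.Agent.OddTranspC

open Cfsg.Agent.GenA.OddTransp (OT Tri)
open Cfsg.Agent.OddTranspX (sameCls)
open Subgroup (closure)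

universe u

variable {U : Type u} [Group U] [Finite U] {D : Set U}

/-- Members with commuting images modulo the largest normal 2-subgroup commute. -/
theorem commute_of_commute_quot (h : OT D) {a b : U} (ha : a ∈ D) (hb : b ∈ D)
    (hc : Commute (QuotientGroup.mk' (Cfsg.pCore 2 U) a) (QuotientGroup.mk' (Cfsg.pCore 2 U) b)) :
    Commute a b := by
  have h1 : (a * b) * (a * b) ∈ Cfsg.pCore 2 U := by
    refine (QuotientGroup.eq_one_iff _).1 (?_ : QuotientGroup.mk' (Cfsg.pCore 2 U) (a * b * (a * b)) = 1)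
    calc QuotientGroup.mk' (Cfsg.pCore 2 U) (a * b * (a * b))
        = QuotientGroup.mk' _ a * (QuotientGroup.mk' _ b * QuotientGroup.mk' _ a) *
          QuotientGroup.mk' _ b := by simp only [map_mul, mul_assoc]
      _ = QuotientGroup.mk' _ (a * a * (b * b)) := by rw [← hc.eq]; simp only [map_mul, mul_assoc]
      _ = 1 := by rw [h.sq ha, h.sq hb, one_mul, map_one]
  obtain ⟨k, hk⟩ := pgroup_pow (Cores.pCore_isPGroup 2) h1
  exact commute_of_two_power h ha hb (j := 1) (k := k) (by rwa [pow_one, pow_two])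

/-- The image of a world modulo the largest normal 2-subgroup is a world. -/
theorem world_quot (hW : World D) : World (QuotientGroup.mk' (Cfsg.pCore 2 U) '' D) := by
  set π := QuotientGroup.mk' (Cfsg.pCore 2 U)
  have hne : ∀ a ∈ D, π a ≠ 1 := fun a ha e => by
    obtain ⟨b, hb, hab⟩ := hW.exists_nc ha
    exact hab (commute_of_commute_quot hW.toOT ha hb
      (show Commute (π a) (π b) by rw [e]; exact Commute.one_left _))
  refine ⟨⟨?_, ?_, ?_⟩, ?_, ?_, ?_⟩
  · rintro _ ⟨a, ha, rfl⟩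
    exact orderOf_eq_prime (by rw [pow_two, ← map_mul, hW.sq ha, map_one]) (hne a ha)
  · rintro _ ⟨a, ha, rfl⟩ g
    obtain ⟨g, rfl⟩ := QuotientGroup.mk'_surjective (Cfsg.pCore 2 U) g
    exact ⟨g * a * g⁻¹, hW.conj a ha g, by rw [map_mul, map_mul, map_inv]⟩
  · rintro _ ⟨a, ha, rfl⟩ _ ⟨b, hb, rfl⟩
    rcases hW.pair a ha b hb with h1 | h1
    · exact Or.inl (h1.map π)
    · refine Or.inr ?_
      rw [← map_mul]
      exact h1.of_dvd_nat (orderOf_map_dvd π _)
  · rintro _ ⟨a, ha, rfl⟩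
    obtain ⟨b, t⟩ := hW.tri a ha
    exact ⟨π b, ⟨b, t.1, rfl⟩, t.2.1.map π, ⟨a * b, t.2.2, map_mul π a b⟩⟩
  · rintro _ ⟨a, ha, rfl⟩ _ ⟨b, hb, rfl⟩
    exact (hW.nconn a ha b hb).lift π fun p q hpq =>
      ⟨⟨p, hpq.1, rfl⟩, ⟨q, hpq.2.1, rfl⟩,
        fun e => hpq.2.2 (commute_of_commute_quot hW.toOT hpq.1 hpq.2.1 e)⟩
  · rintro _ ⟨a, ha, rfl⟩ _ ⟨b, hb, rfl⟩
    exact (hW.cconn a ha b hb).lift π fun p q hpq =>
      ⟨⟨p, hpq.1, rfl⟩, ⟨q, hpq.2.1, rfl⟩, hpq.2.2.map π⟩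

/-- When all non-commuting pairs cross, no line group has a Suzuki quotient. -/
theorem not_sz_of_allCross {G : Type u} [Group G] [Finite G]
    (IH : ∀ (H : Type u) [Group H] [Finite H], Nat.card H < Nat.card G → LineStmt H)
    {D : Set G} (hW : World D) (hgen : closure D = ⊤) (hO : Cfsg.pCore 2 G = ⊥) (hall : AllCross D)
    {d x : G} (hd : d ∈ D) (hx : x ∈ D) (hdx : ¬ Commute d x) :
    ¬ Cfsg.Lie.IsoSuzuki (lineGrp D d x ⧸ Cfsg.pCore 2 (lineGrp D d x)) := by
  obtain ⟨a, ha, hda, hxa⟩ := hW.common hd hx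
  have hcls : sameCls D d ⊆ Dd D a := sameCls_subset_Dd ha hx hdx hda.symm hxa.symm
  have hxS : x ∈ Dd D a := ⟨hx, hxa.symm, fun h => hdx ((h.2 d hd).2 hda.symm).symm⟩
  set H₀ := closure (Dd D a)
  have hle : lineGrp D d x ≤ H₀ := (Subgroup.closure_le _).2 (by
    rintro e (he | rfl)
    exacts [Subgroup.subset_closure (hcls he), Subgroup.subset_closure hxS])
  set D' : Set H₀ := (↑) ⁻¹' Dd D a with hD'
  have hW' : World D' := hW.world_Dd hall ha
  set N := Cfsg.pCore 2 H₀ with hN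
  set π := QuotientGroup.mk' N with hπ
  have hgen' : closure (π '' D') = ⊤ := by
    rw [← MonoidHom.map_closure, hD', Subgroup.closure_closure_coe_preimage, ← MonoidHom.range_eq_map,
      QuotientGroup.range_mk']
  have hlt : Nat.card (H₀ ⧸ N) < Nat.card G :=
    lt_of_le_of_lt (Nat.le_of_dvd Nat.card_pos (Subgroup.card_quotient_dvd_card N))
      (closure_lt_of_centralized hW ha fun z hz => hz.2.1)
  have hdH : d ∈ H₀ := hle (mem_lineGrp (self_mem_sameCls hd))
  have hxH : x ∈ H₀ := hle self_mem_lineGrp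
  have hndx : ¬ Commute (π ⟨d, hdH⟩) (π ⟨x, hxH⟩) := fun e =>
    hdx (congrArg Subtype.val
      (commute_of_commute_quot hW'.toOT (hcls (self_mem_sameCls hd)) hxS e).eq)
  have hIH := IH (H₀ ⧸ N) hlt (π '' D') (world_quot hW') hgen' (Cores.pCore_quotient_self 2)
    (π ⟨d, hdH⟩) ⟨⟨d, hdH⟩, hcls (self_mem_sameCls hd), rfl⟩ (π ⟨x, hxH⟩) ⟨⟨x, hxH⟩, hxS, rfl⟩ hndx
  set φ := π.comp (Subgroup.inclusion hle) with hφ
  haveI : Fact (Nat.Prime 2) := ⟨Nat.prime_two⟩
  have hker : φ.ker ≤ Cfsg.pCore 2 (lineGrp D d x) := by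
    refine Cores.le_pCore fun g => ?_
    have hg : Subgroup.inclusion hle (g : lineGrp D d x) ∈ N := (QuotientGroup.eq_one_iff _).1 g.2
    obtain ⟨k, hk⟩ := pgroup_pow (Cores.pCore_isPGroup 2) hg
    refine ⟨k, Subtype.ext (Subgroup.inclusion_injective hle ?_)⟩
    rw [SubgroupClass.coe_pow, map_pow, hk]
    rfl
  refine not_sz_of_hom φ hker fun g h4 => hIH _ ?_ h4
  obtain ⟨g, hg⟩ := g
  show π ⟨g, hle hg⟩ ∈ lineGrp (π '' D') (π ⟨d, hdH⟩) (π ⟨x, hxH⟩)
  have hsub : lineGrp D d x ≤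
      ((lineGrp (π '' D') (π ⟨d, hdH⟩) (π ⟨x, hxH⟩)).comap π).map H₀.subtype := by
    refine (Subgroup.closure_le _).2 ?_
    rintro e (he | rfl)
    · refine ⟨⟨e, hle (mem_lineGrp he)⟩, Subgroup.subset_closure (Or.inl ⟨⟨_, hcls he, rfl⟩, ?_⟩), rfl⟩
      rintro _ ⟨v, hv, rfl⟩
      constructor
      · exact fun h1 => (show Commute (⟨d, hdH⟩ : H₀) v from Subtype.ext ((he.2 _ hv.1).1
          (congrArg Subtype.val (commute_of_commute_quot hW'.toOT (hcls he) hv h1).eq))).map π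
      · exact fun h1 => (show Commute (⟨e, hle (mem_lineGrp he)⟩ : H₀) v from Subtype.ext
          ((he.2 _ hv.1).2 (congrArg Subtype.val
            (commute_of_commute_quot hW'.toOT (hcls (self_mem_sameCls hd)) hv h1).eq))).map π
    · exact ⟨⟨e, hxH⟩, Subgroup.subset_closure (Or.inr rfl), rfl⟩
  obtain ⟨w, hw, hwg⟩ := hsub hg
  have e : w = ⟨g, hle hg⟩ := Subtype.ext hwg
  exact e ▸ hw

end Cfsg.Agent.OddTranspC
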