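import Cfsg.Agent.Lib.OddTranspC.Top
import Cfsg.Agent.Lib.OddTranspC.Frame
import Cfsg.Agent.Lib.OddTranspC.LineL2
import Cfsg.Agent.Lib.OddTranspC.NoSzAll

/-!
# Odd transpositions with connected commuting graph: every line group is `L2(q)`

By induction on the group order the Suzuki groups are excluded.
-/

set_option autoImplicit false

namespace Cfsg.Agent.OddTranspC

open Subgroup (closure)

universe u

theorem line_step {G : Type u} [Group G] [Finite G]
    (IH : ∀ (H : Type u) [Group H] [Finite H], Nat.card H < Nat.card G → LineStmt H)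
    {D : Set G} (hW : World D) (hgen : closure D = ⊤) (hO : Cfsg.pCore 2 G = ⊥) {d x : G}
    (hd : d ∈ D) (hx : x ∈ D) (hdx : ¬ Commute d x) : LineConcl D d x := by
  rcases line_concl hW hgen hO hd hx hdx with ⟨F, _, _, _, -, ⟨e⟩⟩ | hsz
  · exact line_l2 hW hgen hO hd hx hdx e
  · exfalso
    rcases hW.uniform with hall | hno
    · exact not_sz_of_allCross IH hW hgen hO hall hd hx hdx hsz
    · exact not_sz_of_noCross hW hgen hO hno hd hx hdx hsz

theorem line_all : ∀ (G : Type u) [Group G] [Finite G], LineStmt G := by
  suffices h : ∀ (n : ℕ) (G : Type u) [Group G] [Finite G], Nat.card G ≤ n → LineStmt G from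
    fun G _ _ => h _ G le_rfl
  intro n
  induction n with
  | zero =>
    intro G _ _ hG
    have : 0 < Nat.card G := Nat.card_pos
    omega
  | succ n ih =>
    intro G _ _ hG D hW hgen hO d hd x hx hdx
    exact line_no_four (line_step (fun H _ _ hH => ih H (by omega)) hW hgen hO hd hx hdx)

/-- Every line group of a world without normal 2-subgroups is `L2(q)`. -/
theorem line_final {G : Type u} [Group G] [Finite G] {D : Set G} (hW : World D)
    (hgen : closure D = ⊤) (hO : Cfsg.pCore 2 G = ⊥) {d x : G} (hd : d ∈ D) (hx : x ∈ D)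
    (hdx : ¬ Commute d x) : LineConcl D d x :=
  line_step (fun H _ _ _ => line_all H) hW hgen hO hd hx hdx

end Cfsg.Agent.OddTranspC
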