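import Cfsg.Agent.Lib.OddTranspC.Defs

/-!
# A relation between odd transpositions without crossing pairs

`r` is an invariant equivalence on a connected class `D` of odd transpositions, triangles lie inside classes
and commuting between two different classes is a relation between the classes.  If no two non-commuting members
of different classes have two commuting common neighbours of different classes, and some class has a
non-commuting pair, then `r` is universal (`kill`; step 2 of `notes/s5052-h21.md`).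
-/

set_option autoImplicit false
set_option linter.unusedSectionVars false

namespace Cfsg.Agent.OddTranspC

open Cfsg.Agent.GenA.OddTransp (OT Tri split swap tri_comm tri_symm tri_third two fix_of_commute sq_mul
  conj_conj comm_of_four comm_conj_self goal common)

universe u

variable {G : Type u} [Group G]

/-- The hypotheses on the relation. -/
structure RelWorld (D : Set G) (r : G → G → Prop) : Prop where
  hot : OT D
  refl : ∀ a ∈ D, r a a
  symm : ∀ a ∈ D, ∀ b ∈ D, r a b → r b a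
  trans : ∀ a ∈ D, ∀ b ∈ D, ∀ c ∈ D, r a b → r b c → r a c
  inv : ∀ a ∈ D, ∀ b ∈ D, ∀ g : G, r a b → r (g * a * g⁻¹) (g * b * g⁻¹)
  tri : ∀ e ∈ D, ∃ e₂, Tri D e e₂
  tri_rel : ∀ a ∈ D, ∀ b, Tri D a b → r a b
  full : ∀ c ∈ D, ∀ x ∈ D, ¬ r c x → Commute c x → ∀ c' ∈ D, r c c' → Commute x c'
  conj : ∀ a ∈ D, ∀ b ∈ D, ∃ g : G, g * a * g⁻¹ = b
  conn : ∀ a ∈ D, ∀ b ∈ D, Relation.ReflTransGen (fun u v => u ∈ D ∧ v ∈ D ∧ Commute u v) a b
  nconn : ∀ a ∈ D, ∀ b ∈ D, Relation.ReflTransGen (fun u v => u ∈ D ∧ v ∈ D ∧ ¬ Commute u v) a b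

/-- `x`, `z` is a crossing pair: two commuting common neighbours lie in different classes. -/
def Crossing (D : Set G) (r : G → G → Prop) (x z : G) : Prop :=
  ¬ Commute x z ∧ ¬ r x z ∧ ∃ u ∈ D, ∃ v ∈ D, Commute u x ∧ Commute u z ∧ Commute v x ∧ Commute v z ∧
    Commute u v ∧ ¬ r u v

variable {D : Set G} {r : G → G → Prop} (W : RelWorld D r)

namespace RelWorld

include W

theorem mono {a b : G} (ha : a ∈ D) (hb : b ∈ D) (hab : Commute a b) (hn : ¬ r a b) {a' b' : G}
    (ha' : a' ∈ D) (hb' : b' ∈ D) (h1 : r a a') (h2 : r b b') : Commute a' b' := by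
  have e1 : Commute b a' := W.full a ha b hb hn hab a' ha' h1
  refine (W.full b hb a' ha' (fun e => hn ?_) e1 b' hb' h2)
  exact W.trans a ha a' ha' b hb h1 (W.symm b hb a' ha' e)

theorem not_rel {a b : G} (ha : a ∈ D) (hb : b ∈ D) (hn : ¬ r a b) {a' b' : G}
    (ha' : a' ∈ D) (hb' : b' ∈ D) (h1 : r a a') (h2 : r b b') : ¬ r a' b' := fun e => hn
  (W.trans a ha b' hb' b hb (W.trans a ha a' ha' b' hb' h1 e) (W.symm b hb b' hb' h2))

variable [Finite G]

/-- Three members with two commuting have a common neighbour. -/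
theorem common_three {f d y : G} (hf : f ∈ D) (hd : d ∈ D) (hy : y ∈ D) (hfd : Commute f d) :
    ∃ a ∈ D, Commute a f ∧ Commute a d ∧ Commute a y := by
  obtain ⟨c, hc, hcd, hcy⟩ := common W.hot W.tri hd hy (W.conn d hd y hy)
  obtain ⟨d₂, td⟩ := W.tri d hd
  exact goal (Nat.card G) G le_rfl D W.hot f d d₂ c y hf hd hc hy td hfd hcd.symm hcy

/-- The members commuting with `d` and those in the class of `d`. -/
def nbhd (D : Set G) (r : G → G → Prop) (d : G) : Set G := {e | e ∈ D ∧ (Commute d e ∨ r d e)}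

theorem nbhd_card {c d : G} (hc : c ∈ D) (hd : d ∈ D) : (nbhd D r c).ncard ≤ (nbhd D r d).ncard := by
  obtain ⟨g, hg⟩ := W.conj c hc d hd
  refine Set.ncard_le_ncard_of_injOn (fun e => g * e * g⁻¹) ?_ ((MulAut.conj g).injective.injOn) (Set.toFinite _)
  rintro e ⟨he, h'⟩
  refine ⟨W.hot.conj e he g, ?_⟩
  rcases h' with h' | h'
  · left
    rw [← hg]
    exact h'.map (MulAut.conj g).toMonoidHom
  · right
    rw [← hg]
    exact W.inv c hc e he g h'

variable (hno : ∀ x ∈ D, ∀ z ∈ D, ¬ Crossing D r x z)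

include hno

/-- Common neighbours in different classes do not commute. -/
theorem no_square {x z u v : G} (hx : x ∈ D) (hz : z ∈ D) (hu : u ∈ D) (hv : v ∈ D) (hxz : ¬ r x z)
    (h1 : Commute u x) (h2 : Commute u z) (h3 : Commute v x) (h4 : Commute v z) (h5 : Commute u v)
    (huv : ¬ r u v) : Commute x z :=
  not_not.1 fun h => hno x hx z hz ⟨h, hxz, u, hu, v, hv, h1, h2, h3, h4, h5, huv⟩

/-- Of two commuting classes, the first has a neighbour outside the second one's neighbourhood. -/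
theorem exists_outside {c d y : G} (hc : c ∈ D) (hd : d ∈ D) (hy : y ∈ D) (hdc : Commute d c) (hn : ¬ r d c)
    (hyd : ¬ Commute y d) (hyc : ¬ Commute y c) :
    ∃ e ∈ D, Commute d e ∧ ¬ Commute c e ∧ ¬ r c e := by
  by_contra hcon
  push Not at hcon
  have hsub : nbhd D r d ⊆ nbhd D r c := by
    rintro e ⟨he, h1 | h1⟩
    · exact ⟨he, or_iff_not_imp_left.2 fun h2 => hcon e he h1 h2⟩
    · exact ⟨he, Or.inl (W.full d hd c hc hn hdc e he h1)⟩
  have heq : nbhd D r d = nbhd D r c := Set.eq_of_subset_of_ncard_le hsub (W.nbhd_card hc hd) (Set.toFinite _)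
  -- different classes around `d` commute
  have hclique : ∀ e ∈ D, ∀ f ∈ D, Commute d e → Commute d f → ¬ r e f → Commute e f := by
    intro e he f hf hde hdf hef
    by_cases hed : r d e
    · exact W.mono hd hf hdf (fun h => hef (W.trans e he d hd f hf (W.symm d hd e he hed) h)) he hf hed
        (W.refl f hf)
    by_cases hfd : r d f
    · exact (W.mono hd he hde (fun h => hef (W.trans e he d hd f hf (W.symm d hd e he h) hfd)) hf he hfd
        (W.refl e he)).symm
    have hin : ∀ g ∈ D, Commute d g → Commute c g ∨ r c g := fun g hg hdg =>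
      ((heq.le : nbhd D r d ⊆ nbhd D r c) (show g ∈ nbhd D r d from ⟨hg, Or.inl hdg⟩)).2
    by_cases hce : r c e
    · have hcf : ¬ r c f := fun h => hef (W.trans e he c hc f hf (W.symm c hc e he hce) h)
      exact W.mono hc hf ((hin f hf hdf).resolve_right hcf) hcf he hf hce (W.refl f hf)
    by_cases hcf : r c f
    · exact (W.mono hc he ((hin e he hde).resolve_right hce) hce hf he hcf (W.refl e he)).symm
    exact W.no_square hno he hf hd hc hef hde hdf ((hin e he hde).resolve_right hce)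
      ((hin f hf hdf).resolve_right hcf) hdc hn
  obtain ⟨a, ha, had, hay⟩ := common W.hot W.tri hd hy (W.conn d hd y hy)
  have hnyd : ¬ r d y := fun h => hyc (W.full d hd c hc hn hdc y hy h).symm
  obtain ⟨g, hg⟩ := W.conj d hd a ha
  have hback : ∀ e, Commute a e → Commute d (g⁻¹ * e * g⁻¹⁻¹) := fun e he => by
    have := he.map (MulAut.conj g⁻¹).toMonoidHom
    rwa [MulEquiv.coe_toMonoidHom, MulAut.conj_apply, MulAut.conj_apply, ← hg,
      show g⁻¹ * (g * d * g⁻¹) * g⁻¹⁻¹ = d by group] at this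
  have h1 := hclique _ (W.hot.conj d hd g⁻¹) _ (W.hot.conj y hy g⁻¹) (hback d had) (hback y hay) (fun h => hnyd (by
    have := W.inv _ (W.hot.conj d hd g⁻¹) _ (W.hot.conj y hy g⁻¹) g h
    rwa [show g * (g⁻¹ * d * g⁻¹⁻¹) * g⁻¹ = d by group, show g * (g⁻¹ * y * g⁻¹⁻¹) * g⁻¹ = y by group] at this))
  have h2 := h1.map (MulAut.conj g).toMonoidHom
  rw [MulEquiv.coe_toMonoidHom, MulAut.conj_apply, MulAut.conj_apply,
    show g * (g⁻¹ * d * g⁻¹⁻¹) * g⁻¹ = d by group, show g * (g⁻¹ * y * g⁻¹⁻¹) * g⁻¹ = y by group] at h2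
  exact hyd h2.symm

/-- The common neighbours of `d` and `y` do not all commute with `c`. -/
theorem exists_side {c d y : G} (hc : c ∈ D) (hd : d ∈ D) (hy : y ∈ D) (hdc : Commute d c) (hn : ¬ r d c)
    (hyd : ¬ Commute y d) (hyc : ¬ Commute y c) :
    ∃ b ∈ D, Commute b d ∧ Commute b y ∧ ¬ Commute b c := by
  obtain ⟨e, he, hde, hce, hnce⟩ := W.exists_outside hno hc hd hy hdc hn hyd hyc
  by_cases hey : Commute e y
  · exact ⟨e, he, hde.symm, hey, fun h => hce h.symm⟩
  obtain ⟨f, hf, hfe, hfd, hfy⟩ := W.common_three he hd hy hde.symm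
  refine ⟨f, hf, hfd, hfy, fun hfc => hce ?_⟩
  refine W.no_square hno hc he hd hf hnce hdc hde hfc hfe hfd.symm fun hdf => hyd ?_
  have hnyd : ¬ r d y := fun h => hyc (W.full d hd c hc hn hdc y hy h).symm
  exact W.full f hf y hy (fun h => hnyd (W.trans d hd f hf y hy hdf h)) hfy d hd (W.symm d hd f hf hdf)

/-- The interchanging member is in a third class. -/
theorem not_same {p c y n : G} (hp : p ∈ D) (hc : c ∈ D) (hy : y ∈ D) (hn : n ∈ D) (hpc : Commute p c)
    (hrpc : ¬ r p c) (hyp : ¬ Commute y p) (hyc : ¬ Commute y c) (hnp : Commute n p) (hnc : Commute n c)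
    (hfix : p * c * n * y * (p * c * n)⁻¹ = y) : ¬ r p n := by
  intro hpn
  obtain ⟨b, hb, hbp, hby, hbc⟩ := W.exists_side hno hc hp hy hpc hrpc hyp hyc
  have hnyp : ¬ r p y := fun h => hyc (W.full p hp c hc hrpc hpc y hy h).symm
  have hrpb : ¬ r p b := fun h =>
    hyp (W.full b hb y hy (fun h' => hnyp (W.trans p hp b hb y hy h h')) hby p hp (W.symm p hp b hb h))
  have hbn : Commute b n := W.full p hp b hb hrpb hbp.symm n hn hpn
  have e1 : p * c * n * b * (p * c * n)⁻¹ = c * b * c := by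
    rw [show p * c * n * b * (p * c * n)⁻¹ = (p * c) * (n * b * n⁻¹) * (p * c)⁻¹ by group, ← hbn.eq,
      mul_inv_cancel_right, hpc.eq, show c * p * b * (c * p)⁻¹ = c * (p * b * p⁻¹) * c⁻¹ by group, ← hbp.eq,
      mul_inv_cancel_right, W.hot.inv hc]
  have h2 : Commute (c * b * c) y := by
    have := hby.map (MulAut.conj (p * c * n)).toMonoidHom
    rwa [MulEquiv.coe_toMonoidHom, MulAut.conj_apply, MulAut.conj_apply, e1, hfix] at this
  have hbb : ¬ Commute b (c * b * c) := fun h => hbc (comm_conj_self W.hot hc hb h).symm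
  obtain ⟨m, -, -, huniq, hfixm⟩ := swap W.hot hb (W.hot.conj2 hb (W.hot.sq hc)) hbb
  have h3 := hfixm y (Or.inl ⟨by rw [hby.symm.eq, mul_inv_cancel_right],
    by rw [h2.symm.eq, mul_inv_cancel_right]⟩)
  rw [← huniq c hc rfl] at h3
  exact hyc h3

end RelWorld

/-- A class, a neighbouring member and a member outside. -/
structure Config (D : Set G) (r : G → G → Prop) (d c y : G) : Prop where
  hd : d ∈ D
  hc : c ∈ D
  hy : y ∈ D
  dc : Commute d c
  ndc : ¬ r d c
  yd : ¬ Commute y d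
  yc : ¬ Commute y c

/-- `n` interchanges `y` and its image under `p c`. -/
structure Mate (D : Set G) (c y p n : G) : Prop where
  mem : n ∈ D
  np : Commute n p
  nc : Commute n c
  ny : ¬ Commute y n
  swp : n * y * n = p * c * y * (p * c)
  fix : p * c * n * y * (p * c * n)⁻¹ = y

namespace Config

variable {d c y : G} (C : Config D r d c y) [Finite G]

include W C

theorem pc {p : G} (hp : p ∈ D) (hdp : r d p) : Commute p c :=
  (W.full d C.hd c C.hc C.ndc C.dc p hp hdp).symm

theorem npc {p : G} (hp : p ∈ D) (hdp : r d p) : ¬ r p c := fun h => C.ndc (W.trans d C.hd p hp c C.hc hdp h)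

theorem yp {p : G} (hp : p ∈ D) (hdp : r d p) : ¬ Commute y p := fun h => by
  refine C.yd (W.full p hp y C.hy (fun h' => ?_) h.symm d C.hd (W.symm d C.hd p hp hdp))
  exact C.yc (W.full d C.hd c C.hc C.ndc C.dc y C.hy (W.trans d C.hd p hp y C.hy hdp h')).symm

theorem exists_mate {p : G} (hp : p ∈ D) (hdp : r d p) (hgood : ¬ Commute y (p * c * y * (p * c))) :
    ∃ n, Mate D c y p n := by
  have hpc := C.pc W hp hdp
  have hsq : p * c * (p * c) = 1 := sq_mul (W.hot.sq hp) (W.hot.sq C.hc) hpc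
  obtain ⟨n, hn, hsw, -, hfix⟩ := swap W.hot C.hy (W.hot.conj2 C.hy hsq) hgood
  have hinv : (p * c)⁻¹ = p * c := inv_eq_of_mul_eq_one_right hsq
  have hcm : Commute (p * c) n := hfix _ (Or.inr ⟨by rw [hinv], by rw [hinv, conj_conj hsq]⟩)
  have hne : p ≠ c := fun e => C.npc W hp hdp (e ▸ W.refl p hp)
  obtain ⟨hnp, hnc⟩ := split W.hot hn hp C.hc hpc hne hcm.symm
  refine ⟨n, hn, hnp, hnc, fun h => ?_, hsw, ?_⟩
  · rw [fix_of_commute (W.hot.sq hn) h.symm] at hsw
    exact hgood (hsw ▸ Commute.refl y)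
  · rw [show p * c * n * y * (p * c * n)⁻¹ = p * c * (n * y * n⁻¹) * (p * c)⁻¹ by group, W.hot.inv hn, hsw,
      hinv, conj_conj hsq]

theorem good_pair {p : G} (hp : p ∈ D) (hdp : r d p) :
    ∃ u v, u ∈ D ∧ v ∈ D ∧ r d u ∧ r d v ∧ Tri D u v ∧ ¬ Commute y (u * c * y * (u * c)) ∧
      ¬ Commute y (v * c * y * (v * c)) ∧
      ∀ x ∈ D, ¬ Commute x p → ¬ Commute x u ∧ ¬ Commute x v ∧ ¬ Commute x (u * v) := by
  obtain ⟨q, tq⟩ := W.tri p hp
  have hq := tq.1
  have tk := tri_third W.hot hp tq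
  have hrq : r d q := W.trans d C.hd p hp q hq hdp (W.tri_rel p hp q tq)
  have hrk : r d (p * q) := W.trans d C.hd p hp (p * q) tk.1 hdp (W.tri_rel p hp _ tk)
  have hx : ∀ x ∈ D, ¬ Commute x p → ¬ Commute x q ∧ ¬ Commute x (p * q) := fun x hx h =>
    ⟨fun h' => h (tri_comm W.hot hq (tri_symm hp tq) hx h'), fun h' => h (tri_comm W.hot tk.1 (tri_symm hp tk) hx h')⟩
  by_cases h1 : Commute y (p * c * y * (p * c))
  · refine ⟨q, p * q, hq, tk.1, hrq, hrk, ?_, fun h => two W.hot hp tq C.hc C.hy (C.pc W hp hdp).symm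
      (C.yp W hp hdp) h1 h, fun h => two W.hot hp tk C.hc C.hy (C.pc W hp hdp).symm (C.yp W hp hdp) h1 h,
      fun x hxD h => ⟨(hx x hxD h).1, (hx x hxD h).2, ?_⟩⟩
    · have := tri_third W.hot hq (tri_symm hp tq)
      rwa [← tq.2.1.eq] at this
    · rwa [← mul_assoc, ← tq.2.1.eq, mul_assoc, W.hot.sq hq, mul_one]
  by_cases h2 : Commute y (q * c * y * (q * c))
  · refine ⟨p, p * q, hp, tk.1, hdp, hrk, tk, h1, fun h => two W.hot hq ?_ C.hc C.hy
      (C.pc W hq hrq).symm (C.yp W hq hrq) h2 h, fun x hxD h => ⟨h, (hx x hxD h).2, ?_⟩⟩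
    · have := tri_third W.hot hq (tri_symm hp tq)
      rwa [← tq.2.1.eq] at this
    · rw [← mul_assoc, W.hot.sq hp, one_mul]
      exact (hx x hxD h).1
  exact ⟨p, q, hp, hq, hdp, hrq, tq, h1, h2, fun x hxD h => ⟨h, (hx x hxD h).1, (hx x hxD h).2⟩⟩

variable (hno : ∀ x ∈ D, ∀ z ∈ D, ¬ Crossing D r x z)

include hno

theorem mate_rel {p n : G} (hp : p ∈ D) (hdp : r d p) (M : Mate D c y p n) : ¬ r d n ∧ ¬ r c n := by
  have hpc := C.pc W hp hdp
  refine ⟨fun h => W.not_same hno hp C.hc C.hy M.mem hpc (C.npc W hp hdp) (C.yp W hp hdp) C.yc M.np M.nc M.fix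
    (W.trans p hp d C.hd n M.mem (W.symm d C.hd p hp hdp) h), fun h => ?_⟩
  refine W.not_same hno C.hc hp C.hy M.mem hpc.symm (fun e => C.npc W hp hdp (W.symm c C.hc p hp e)) C.yc
    (C.yp W hp hdp) M.nc M.np ?_ h
  rw [← hpc.eq]
  exact M.fix

theorem mate_comm {p n q : G} (hp : p ∈ D) (hdp : r d p) (M : Mate D c y p n) (hq : q ∈ D) (hdq : r d q) :
    Commute n q :=
  W.full p hp n M.mem (fun h => (C.mate_rel W hno hp hdp M).1 (W.trans d C.hd p hp n M.mem hdp h)) M.np.symm q hq
    (W.trans p hp d C.hd q hq (W.symm d C.hd p hp hdp) hdq)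

/-- Non-commuting good members have mates in one class. -/
theorem mate_class {p q n m : G} (hp : p ∈ D) (hq : q ∈ D) (hdp : r d p) (hdq : r d q) (hpq : ¬ Commute p q)
    (M : Mate D c y p n) (M' : Mate D c y q m) : r n m := by
  by_contra hnm
  have hnq := C.mate_comm W hno hp hdp M hq hdq
  have hmp := C.mate_comm W hno hq hdq M' hp hdp
  have hdn := C.mate_comm W hno hp hdp M C.hd (W.refl d C.hd)
  have hdm := C.mate_comm W hno hq hdq M' C.hd (W.refl d C.hd)
  have hnmc : Commute n m := W.no_square hno M.mem M'.mem C.hd C.hc hnm hdn.symm hdm.symm M.nc.symm M'.nc.symm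
    C.dc C.ndc
  have hcp := C.pc W hp hdp
  have hcq := C.pc W hq hdq
  -- the square of `p q` fixes `y`
  set S := MulAction.stabilizer (ConjAct G) y with hS
  have hmem : ∀ g : G, g * y * g⁻¹ = y → ConjAct.toConjAct g ∈ S := fun g hg => by
    rw [hS, MulAction.mem_stabilizer_iff, ConjAct.toConjAct_smul, hg]
  have key : p * c * n * (q * c * m) * (p * c * n) * (q * c * m) = (p * q) ^ 2 := by
    have e1 : p * c * n * (q * c * m) = (p * q) * (n * m) := by
      calc p * c * n * (q * c * m) = p * c * (n * q) * c * m := by group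
        _ = p * (c * q) * (n * c) * m := by rw [hnq.eq]; group
        _ = p * q * (c * c) * (n * m) := by rw [← hcq.eq, M.nc.eq]; group
        _ = p * q * (n * m) := by rw [W.hot.sq C.hc, mul_one]
    have hc1 : Commute (n * m) (p * q) :=
      (Commute.mul_left M.np hmp).mul_right (Commute.mul_left hnq M'.np)
    rw [mul_assoc _ (p * c * n), e1, (hc1.mul_mul_mul_comm (p * q) (n * m)),
      sq_mul (W.hot.sq M.mem) (W.hot.sq M'.mem) hnmc, mul_one, pow_two]
  have h1 : ConjAct.toConjAct ((p * q) ^ 2) ∈ S := by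
    rw [← key, map_mul, map_mul, map_mul]
    exact mul_mem (mul_mem (mul_mem (hmem _ M.fix) (hmem _ M'.fix)) (hmem _ M.fix)) (hmem _ M'.fix)
  obtain ⟨k, hk⟩ : Odd (orderOf (p * q)) := (W.hot.pair p hp q hq).resolve_left hpq
  have h2 : ConjAct.toConjAct (p * q) ∈ S := by
    have e : p * q = ((p * q) ^ 2) ^ (k + 1) := by
      rw [← pow_mul, show 2 * (k + 1) = orderOf (p * q) + 1 by omega, pow_succ, pow_orderOf_eq_one, one_mul]
    rw [e, map_pow]
    exact pow_mem h1 _
  have h3 : p * (q * y * q) * p = y := by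
    have := MulAction.mem_stabilizer_iff.1 h2
    rw [ConjAct.toConjAct_smul] at this
    rwa [show p * q * y * (p * q)⁻¹ = p * (q * y * q⁻¹) * p⁻¹ by group, W.hot.inv hp, W.hot.inv hq] at this
  have h4 : q * y * q = p * y * p := by
    have := congrArg (fun g => p * g * p) h3
    simpa only [conj_conj (W.hot.sq hp)] using this
  obtain ⟨m₀, -, -, huniq, -⟩ := swap W.hot C.hy (W.hot.conj2 C.hy (W.hot.sq hp))
    (fun h => C.yp W hp hdp (comm_conj_self W.hot hp C.hy h).symm)
  exact hpq (by rw [huniq p hp rfl, huniq q hq h4])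

/-- A class with a non-commuting pair cannot sit in a configuration. -/
theorem false_of {x : G} (hx : x ∈ D) (hdx : r d x) (hnx : ¬ Commute d x) : False := by
  obtain ⟨p, q, hp, hq, hdp, hdq, tpq, gp, gq, hpq⟩ := C.good_pair W C.hd (W.refl d C.hd)
  obtain ⟨x₁, x₂, hx₁, hx₂, hdx₁, hdx₂, -, gx₁, -, hxx⟩ := C.good_pair W hx hdx
  have nxp := hpq x hx fun h => hnx h.symm
  obtain ⟨n, M⟩ := C.exists_mate W hp hdp gp
  obtain ⟨n', M'⟩ := C.exists_mate W hq hdq gq
  obtain ⟨m, Mx⟩ := C.exists_mate W hx₁ hdx₁ gx₁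
  have hA : r n n' := W.trans n M.mem m Mx.mem n' M'.mem
    (C.mate_class W hno hp hx₁ hdp hdx₁ (hxx p hp fun h => nxp.1 h.symm).1 M Mx)
    (W.symm n' M'.mem m Mx.mem
      (C.mate_class W hno hq hx₁ hdq hdx₁ (hxx q hq fun h => nxp.2.1 h.symm).1 M' Mx))
  obtain ⟨hdn, hcn⟩ := C.mate_rel W hno hp hdp M
  -- the second configuration
  have C' : Config D r d n y := ⟨C.hd, M.mem, C.hy, (C.mate_comm W hno hp hdp M C.hd (W.refl d C.hd)).symm, hdn,
    C.yd, M.ny⟩
  have e1 : c * y * c = p * n * y * (p * n) := by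
    have hcp := C.pc W hp hdp
    calc c * y * c = p * (p * c * y * (p * c)) * p := by
          rw [show p * (p * c * y * (p * c)) * p = (p * p) * c * y * (p * (c * p)) by group, ← hcp.eq,
            ← mul_assoc p p c, W.hot.sq hp, one_mul]
      _ = p * (n * y * n) * p := by rw [M.swp]
      _ = p * n * y * (n * p) := by group
      _ = p * n * y * (p * n) := by rw [M.np.eq]
  have Mc : Mate D n y p c := by
    refine ⟨C.hc, (C.pc W hp hdp).symm, M.nc.symm, C.yc, e1, ?_⟩
    rw [show p * n * c = p * c * n by rw [mul_assoc, M.nc.eq, ← mul_assoc]]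
    exact M.fix
  obtain ⟨u, v, hu, hv, hdu, hdv, tuv, gu, gv, huv⟩ := C'.good_pair W hx hdx
  obtain ⟨cu, Mu⟩ := C'.exists_mate W hu hdu gu
  obtain ⟨cv, Mv⟩ := C'.exists_mate W hv hdv gv
  have hu' := C'.mate_class W hno hp hu hdp hdu (huv p hp fun h => nxp.1 h.symm).1 Mc Mu
  have hv' := C'.mate_class W hno hp hv hdp hdv (huv p hp fun h => nxp.1 h.symm).2.1 Mc Mv
  -- the mates commute crosswise
  have hncn : Commute c n := M.nc.symm
  have k1 : Commute cu n := W.mono C.hc M.mem hncn hcn Mu.mem M.mem hu' (W.refl n M.mem)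
  have k2 : Commute cu n' := W.mono C.hc M.mem hncn hcn Mu.mem M'.mem hu' hA
  have k3 : Commute cv n := W.mono C.hc M.mem hncn hcn Mv.mem M.mem hv' (W.refl n M.mem)
  have k4 : Commute cv n' := W.mono C.hc M.mem hncn hcn Mv.mem M'.mem hv' hA
  set A := p * q with hAdef
  set B := u * v with hBdef
  have hAD : A ∈ D := tpq.2.2
  have hBD : B ∈ D := tuv.2.2
  have hAB : ¬ Commute A B :=
    (huv A hAD fun h => nxp.2.2 h.symm).2.2
  set ρ := n * n' with hρ
  set σ := cu * cv with hσ
  have hρσ : Commute ρ σ :=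
    ((k1.symm.mul_right k3.symm).mul_left (k2.symm.mul_right k4.symm))
  have e2 : p * c * n * (q * c * n') = A * ρ := by
    calc p * c * n * (q * c * n') = p * c * (n * q) * c * n' := by group
      _ = p * (c * q) * (n * c) * n' := by rw [(C.mate_comm W hno hp hdp M hq hdq).eq]; group
      _ = p * q * (c * c) * (n * n') := by rw [← (C.pc W hq hdq).eq, M.nc.eq]; group
      _ = A * ρ := by rw [W.hot.sq C.hc, mul_one, hAdef, hρ]
  have e3 : u * n * cu * (v * n * cv) = B * σ := by
    calc u * n * cu * (v * n * cv) = u * n * (cu * v) * n * cv := by group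
      _ = u * (n * v) * (cu * n) * cv := by rw [(C'.mate_comm W hno hu hdu Mu hv hdv).eq]; group
      _ = u * v * (n * n) * (cu * cv) := by rw [← (C'.pc W hv hdv).eq, k1.eq]; group
      _ = B * σ := by rw [W.hot.sq M.mem, mul_one, hBdef, hσ]
  have hρA : Commute ρ A :=
    Commute.mul_left (M.np.mul_right (C.mate_comm W hno hp hdp M hq hdq))
      ((C.mate_comm W hno hq hdq M' hp hdp).mul_right M'.np)
  have hρB : Commute ρ B :=
    Commute.mul_left ((C.mate_comm W hno hp hdp M hu hdu).mul_right (C.mate_comm W hno hp hdp M hv hdv))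
      ((C.mate_comm W hno hq hdq M' hu hdu).mul_right (C.mate_comm W hno hq hdq M' hv hdv))
  have hσA : Commute σ A :=
    Commute.mul_left ((C'.mate_comm W hno hu hdu Mu hp hdp).mul_right (C'.mate_comm W hno hu hdu Mu hq hdq))
      ((C'.mate_comm W hno hv hdv Mv hp hdp).mul_right (C'.mate_comm W hno hv hdv Mv hq hdq))
  have hσB : Commute σ B :=
    Commute.mul_left (Mu.np.mul_right (C'.mate_comm W hno hu hdu Mu hv hdv))
      ((C'.mate_comm W hno hv hdv Mv hu hdu).mul_right Mv.np)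
  -- the commutator of `A` and `B` fixes `y`
  set S := MulAction.stabilizer (ConjAct G) y with hS
  have hmem : ∀ g : G, g * y * g⁻¹ = y → ConjAct.toConjAct g ∈ S := fun g hg => by
    rw [hS, MulAction.mem_stabilizer_iff, ConjAct.toConjAct_smul, hg]
  have s1 : ConjAct.toConjAct (A * ρ) ∈ S := by
    rw [← e2, map_mul]
    exact mul_mem (hmem _ M.fix) (hmem _ M'.fix)
  have s2 : ConjAct.toConjAct (B * σ) ∈ S := by
    rw [← e3, map_mul]
    exact mul_mem (hmem _ Mu.fix) (hmem _ Mv.fix)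
  set w := A * B * A * B with hw
  have hwcomm : A * ρ * (B * σ) * (A * ρ)⁻¹ * (B * σ)⁻¹ = w := by
    calc A * ρ * (B * σ) * (A * ρ)⁻¹ * (B * σ)⁻¹
        = A * (ρ * B) * σ * ρ⁻¹ * A⁻¹ * σ⁻¹ * B⁻¹ := by group
      _ = A * B * (ρ * σ) * ρ⁻¹ * A⁻¹ * σ⁻¹ * B⁻¹ := by rw [hρB.eq]; group
      _ = A * B * (σ * A⁻¹) * σ⁻¹ * B⁻¹ := by rw [hρσ.eq]; group
      _ = A * B * A⁻¹ * B⁻¹ := by rw [(hσA.inv_right).eq]; group
      _ = w := by rw [W.hot.inv hAD, W.hot.inv hBD, hw]
  have s3 : w * y * w⁻¹ = y := by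
    have : ConjAct.toConjAct w ∈ S := by
      rw [← hwcomm, map_mul, map_mul, map_mul, map_inv, map_inv]
      exact mul_mem (mul_mem (mul_mem s1 s2) (inv_mem s1)) (inv_mem s2)
    have h := MulAction.mem_stabilizer_iff.1 this
    rwa [ConjAct.toConjAct_smul] at h
  -- so it commutes with the good members
  have hwp : ∀ g m, g ∈ D → r d g → Mate D c y g m → (∀ a ∈ D, r d a → Commute m a) → Commute w g := by
    intro g m hg hdg Mg hma
    have hw' : ∀ e : G, Commute e A → Commute e B → Commute e w := fun e h1 h2 =>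
      ((h1.mul_right h2).mul_right h1).mul_right h2
    have hcw : Commute c w := hw' c
      ((C.pc W hp hdp).symm.mul_right (C.pc W hq hdq).symm) ((C.pc W hu hdu).symm.mul_right (C.pc W hv hdv).symm)
    have hmw : Commute m w := hw' m ((hma p hp hdp).mul_right (hma q hq hdq))
      ((hma u hu hdu).mul_right (hma v hv hdv))
    have hgy : g * y * g = (c * m) * y * (c * m)⁻¹ := by
      have hfx := Mg.fix
      have hcm : (c * m) * y * (c * m)⁻¹ = g⁻¹ * y * g := by
        have := congrArg (fun t => g⁻¹ * t * g) hfx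
        rw [← this]
        group
      rw [hcm, W.hot.inv hg]
    obtain ⟨m₀, -, -, huniq, hfixm⟩ := swap W.hot C.hy (W.hot.conj2 C.hy (W.hot.sq hg))
      (fun h => C.yp W hg hdg (comm_conj_self W.hot hg C.hy h).symm)
    have h5 := hfixm w (Or.inl ⟨s3, by
      rw [hgy]
      have hcmw : Commute (c * m) w := hcw.mul_left hmw
      calc w * ((c * m) * y * (c * m)⁻¹) * w⁻¹ = (w * (c * m)) * y * ((c * m)⁻¹ * w⁻¹) := by group
        _ = ((c * m) * w) * y * (w⁻¹ * (c * m)⁻¹) := by rw [hcmw.eq, (hcmw.inv_inv).eq]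
        _ = (c * m) * (w * y * w⁻¹) * (c * m)⁻¹ := by group
        _ = _ := by rw [s3]⟩)
    rwa [← huniq g hg rfl] at h5
  have hwA : Commute w A := (hwp p n hp hdp M fun a ha h => C.mate_comm W hno hp hdp M ha h).mul_right
    (hwp q n' hq hdq M' fun a ha h => C.mate_comm W hno hq hdq M' ha h)
  refine hAB (comm_of_four W.hot hAD hBD ?_)
  have e4 : A * w * A = w := fix_of_commute (W.hot.sq hAD) hwA.symm
  have e5 : A * (A * B * A * B) * A = B * A * B * A := by
    rw [show A * (A * B * A * B) * A = (A * A) * B * A * B * A by group, W.hot.sq hAD, one_mul]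
  rw [hw, e5] at e4
  calc (A * B) ^ 4 = A * B * A * B * (A * B * A * B) := by
        simp only [pow_succ, pow_zero, one_mul, mul_assoc]
    _ = A * B * A * B * (B * A * B * A) := by rw [e4]
    _ = A * B * A * B * (A * B * A * B)⁻¹ := by
        simp only [mul_inv_rev, W.hot.inv hAD, W.hot.inv hBD, mul_assoc]
    _ = 1 := mul_inv_cancel _

end Config

/-- A relation without crossing pairs and with a non-commuting pair inside a class is universal. -/
theorem universal_of_no_crossing [Finite G] {D : Set G} {r : G → G → Prop} (W : RelWorld D r)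
    (hno : ∀ x ∈ D, ∀ z ∈ D, ¬ Crossing D r x z) {d x : G} (hd : d ∈ D) (hx : x ∈ D) (hdx : r d x)
    (hnx : ¬ Commute d x) : ∀ a ∈ D, ∀ b ∈ D, r a b := by
  classical
  -- the pair `d`, `x` has all other classes for neighbours
  suffices h : ∀ e ∈ D, r d e by
    exact fun a ha b hb => W.trans a ha d hd b hb (W.symm d hd a ha (h a ha)) (h b hb)
  by_contra hcon
  push Not at hcon
  obtain ⟨e₀, he₀, hne₀⟩ := hcon
  -- a neighbour outside the class
  obtain ⟨c₀, hc₀, hdc₀, hnc₀⟩ : ∃ c ∈ D, Commute d c ∧ ¬ r d c := by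
    by_contra hc
    push Not at hc
    have key : ∀ a ∈ D, r d a → ∀ b, b ∈ D → Commute a b → r d b := by
      intro a ha hda b hb hab
      by_contra hdb
      exact hdb (hc b hb (W.mono ha hb hab (fun h => hdb (W.trans d hd a ha b hb hda h)) hd hb
        (W.symm d hd a ha hda) (W.refl b hb)))
    refine hne₀ ?_
    have h1 : ∀ z, Relation.ReflTransGen (fun u v => u ∈ D ∧ v ∈ D ∧ Commute u v) d z → r d z := by
      intro z hz
      induction hz with
      | refl => exact W.refl d hd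
      | tail _ h ih => exact key _ h.1 ih _ h.2.1 h.2.2
    exact h1 e₀ (W.conn d hd e₀ he₀)
  -- some such neighbour has a non-neighbour outside the neighbourhood of `d`
  have hex : ∃ c ∈ D, ∃ y ∈ D, Commute d c ∧ ¬ r d c ∧ ¬ Commute y d ∧ ¬ Commute y c := by
    by_contra hall
    push Not at hall
    have key : ∀ c z, c ∈ D ∧ Commute d c ∧ ¬ r d c → z ∈ D → ¬ Commute c z → z ∈ D ∧ Commute d z ∧ ¬ r d z := by
      rintro c z ⟨hc, hdc, hn⟩ hz hcz
      have hdz : Commute d z := not_not.1 fun h => hcz (hall c hc z hz hdc hn (fun h' => h h'.symm)).symm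
      exact ⟨hz, hdz, fun h => hcz (W.full d hd c hc hn hdc z hz h)⟩
    have h2 : ∀ z, Relation.ReflTransGen (fun u v => u ∈ D ∧ v ∈ D ∧ ¬ Commute u v) c₀ z →
        z ∈ D ∧ Commute d z ∧ ¬ r d z := by
      intro z hz
      induction hz with
      | refl => exact ⟨hc₀, hdc₀, hnc₀⟩
      | tail _ h ih => exact key _ _ ih h.2.1 h.2.2
    exact (h2 d (W.nconn c₀ hc₀ d hd)).2.2 (W.refl d hd)
  obtain ⟨c, hc, y, hy, hdc, hn, hyd, hyc⟩ := hex
  exact Config.false_of W ⟨hd, hc, hy, hdc, hn, hyd, hyc⟩ hno hx hdx hnx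

/-- The members of a world are conjugate. -/
theorem World.kill_conj [Finite G] {D : Set G} (hW : World D) {a b : G} (ha : a ∈ D) (hb : b ∈ D) :
    ∃ g : G, g * a * g⁻¹ = b := by
  induction hW.nconn a ha b hb with
  | refl => exact ⟨1, by group⟩
  | @tail u v _ h ih =>
    obtain ⟨g, hg⟩ := ih h.1
    obtain ⟨m, hm, hmu, -, -⟩ := swap hW.toOT h.1 h.2.1 h.2.2
    refine ⟨m * g, ?_⟩
    rw [← hmu, ← hg, show m * g * a * (m * g)⁻¹ = m * (g * a * g⁻¹) * m⁻¹ by group, hW.toOT.inv hm]

/-- Some pair crosses. -/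
theorem kill [Finite G] {D : Set G} {r : G → G → Prop} (hW : World D) (hr : Rel D r)
    (hne : ∃ a ∈ D, ∃ b ∈ D, ¬ r a b) (hnc : ∃ a b, r a b ∧ ¬ Commute a b) : ∃ x z, Cross D r x z := by
  by_contra hno
  obtain ⟨a, ha, b, hb, hab⟩ := hne
  obtain ⟨d, x, hdx, hc⟩ := hnc
  refine hab (universal_of_no_crossing ?_ ?_ (hr.mem hdx).1 (hr.mem hdx).2 hdx hc a ha b hb)
  · exact {
      hot := hW.toOT
      refl := fun a ha => hr.refl ha
      symm := fun a _ b _ h => hr.symm h
      trans := fun a _ b _ c _ h1 h2 => hr.trans h1 h2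
      inv := fun a _ b _ g h => hr.conj h g
      tri := hW.tri
      tri_rel := fun a ha b t => hr.tri ha t
      full := fun c _ x hx hn h c' _ h' => (hr.ax hx h' hn h).symm
      conj := fun a ha b hb => hW.kill_conj ha hb
      conn := hW.cconn
      nconn := hW.nconn }
  · rintro u hu v hv ⟨h1, h2, p, hp, q, hq, h3, h4, h5, h6, h7, h8⟩
    exact hno ⟨u, v, hu, hv, h1, h2, p, ⟨hp, h3.symm, h4.symm⟩, q, ⟨hq, h5.symm, h6.symm⟩, h7, h8⟩

end Cfsg.Agent.OddTranspC
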