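import Cfsg.Agent.Lib.OddTranspC.Prim
import Cfsg.Agent.Lib.OddTranspC.Kill
import Cfsg.Agent.Lib.Involutions.BaerSuzuki

/-!
# Worlds: uniformity, the class of `d`, generation

In a world the non-commuting pairs are all crossing or none is.  A member of `<E_d, y>` commuting
with `d` lies in the class of `d`, and `C(d)` with any member not commuting with `d` generates all
members.
-/

set_option autoImplicit false

namespace Cfsg.Agent.OddTranspC

open Cfsg.Agent.GenA.OddTransp (OT Tri tri_third)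
open Cfsg.Agent.OddTranspX (sameCls)
open Subgroup (closure)

universe u

variable {G : Type u} [Group G] [Finite G] {D : Set G}

theorem prim_sc_all (H : Type u) [Group H] [Finite H] : PrimStmt H ∧ SCStmt H :=
  prim_sc (fun _ _ _ _ _ hW hr hne hnc => kill hW hr hne hnc) H

theorem World.sc (hW : World D) {u : G} (hu : u ∈ D) : NConn (Dd D u) :=
  (prim_sc_all G).2 D hW u hu

/-- The finest relation: the same commuting members. -/
def r0 (D : Set G) (a b : G) : Prop := a ∈ D ∧ b ∈ sameCls D a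

omit [Finite G] in
theorem r0_rel (h : OT D) : Rel D (r0 D) where
  mem h' := ⟨h'.1, h'.2.1⟩
  refl ha := ⟨ha, self_mem_sameCls ha⟩
  symm h' := ⟨h'.2.1, by rw [sameCls_eq h'.2]; exact self_mem_sameCls h'.1⟩
  trans h' h'' := ⟨h'.1, by rw [← sameCls_eq h'.2]; exact h''.2⟩
  conj h' g := ⟨h.conj _ h'.1 g, by rw [sameCls_conj h]; exact ⟨_, h'.2, rfl⟩⟩
  tri ha t := ⟨ha, tri_mem_sameCls h ha t⟩
  ax hx hcc _ hc := (hcc.2.2 _ hx).2 hc

theorem not_commute_r0 {a b : G} (h : r0 D a b) : Commute a b :=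
  ((h.2.2 a h.1).2 (Commute.refl a)).symm

/-- All non-commuting pairs cross. -/
def AllCross (D : Set G) : Prop := ∀ x ∈ D, ∀ z ∈ D, ¬ Commute x z → Cross D (r0 D) x z

/-- No pair crosses. -/
def NoCross (D : Set G) : Prop := ∀ x z, ¬ Cross D (r0 D) x z

theorem World.uniform (hW : World D) : AllCross D ∨ NoCross D := by
  refine or_iff_not_imp_right.2 fun hno => ?_
  simp only [NoCross, not_forall, not_not] at hno
  obtain ⟨x₀, z₀, h0⟩ := hno
  have hr := r0_rel hW.toOT
  have hr' := coarse_rel hW hr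
  have huniv : ∀ a ∈ D, ∀ b ∈ D, coarse D (r0 D) a b := by
    refine (prim_sc_all G).1 D _ hW hr' (fun u hu a ha b hb => ?_)
      ⟨x₀, z₀, coarse_of_cross h0, h0.2.2.1⟩
    have hsub : ∀ y ∈ Q D (coarse D (r0 D)) u, y ∈ Dd D u :=
      fun y hy => ⟨hy.1, hy.2.1, fun e => hy.2.2 (coarse_of_rel hr ⟨hu, e⟩)⟩
    suffices key : ∀ t, Relation.ReflTransGen (NAdj (Dd D u)) a t →
        t ∈ Q D (coarse D (r0 D)) u ∧
          Relation.ReflTransGen (NAdj (Q D (coarse D (r0 D)) u)) a t from
      (key b (hW.sc hu a (hsub a ha) b (hsub b hb))).2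
    intro t ht
    induction ht with
    | refl => exact ⟨ha, .refl⟩
    | @tail s t _ hst ih =>
      have ht' : t ∈ Q D (coarse D (r0 D)) u := ⟨hst.2.1.1, hst.2.1.2.1,
        fun e => hst.2.2 (hr'.ax ih.1.1 e ih.1.2.2 ih.1.2.1).symm⟩
      exact ⟨ht', ih.2.tail ⟨ih.1, ht', hst.2.2⟩⟩
  exact fun a ha b hb hab =>
    (coarse_cases hW hr (huniv a ha b hb) hab).resolve_left fun e => hab (not_commute_r0 e)

omit [Finite G] in
theorem Dd_eq_Q {u : G} (hu : u ∈ D) : Dd D u = Q D (r0 D) u :=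
  Set.ext fun _ => ⟨fun h => ⟨h.1, h.2.1, fun e => h.2.2 e.2⟩,
    fun h => ⟨h.1, h.2.1, fun e => h.2.2 ⟨hu, e⟩⟩⟩

omit [Finite G] in
theorem Dd_inv (h : OT D) {u : G} (hu : u ∈ D) :
    ∀ a ∈ Dd D u, ∀ g ∈ Dd D u, g * a * g⁻¹ ∈ Dd D u := by
  rw [Dd_eq_Q hu]; exact (r0_rel h).Q_inv h

/-- The members around `a`, when all non-commuting pairs cross, form a world. -/
theorem World.world_Dd (hW : World D) (hall : AllCross D) {a : G} (ha : a ∈ D) :
    World ((↑) ⁻¹' Dd D a : Set (closure (Dd D a))) := by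
  have hr := r0_rel hW.toOT
  refine hW.restrict (fun y hy => hy.1) (Dd_inv hW.toOT ha) (fun y hy => ?_) (hW.sc ha) ?_
  · obtain ⟨b, t⟩ := hW.tri y hy.1
    rw [Dd_eq_Q ha] at hy ⊢
    exact ⟨b, hr.Q_tri hW.toOT ha hy t⟩
  · intro x hx z hz
    by_cases hxz : Commute x z
    · exact .single ⟨hx, hz, hxz⟩
    obtain ⟨v, hv, hav, hn⟩ := (hall x hx.1 z hz.1 hxz).partner hW.toOT hr
      (c := a) ⟨ha, hx.2.1.symm, hz.2.1.symm⟩
    have hvS : v ∈ Dd D a := ⟨hv.1, hav, fun e => hn ⟨ha, e⟩⟩
    exact Relation.ReflTransGen.trans (.single ⟨hx, hvS, hv.2.1⟩)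
      (.single ⟨hvS, hz, hv.2.2.symm⟩)

omit [Finite G] in
theorem sameCls_subset_Dd {d a x : G} (ha : a ∈ D) (hx : x ∈ D) (hdx : ¬ Commute d x)
    (had : Commute a d) (hax : Commute a x) : sameCls D d ⊆ Dd D a := fun e he =>
  ⟨he.1, ((he.2 a ha).2 had.symm).symm,
    fun h => hdx ((he.2 x hx).1 ((h.2 x hx).2 hax))⟩

/-- A member of `<E_d, y>` commuting with `d` is in the class of `d`. -/
def MStmt (G : Type u) [Group G] : Prop :=
  ∀ D : Set G, World D → ∀ d ∈ D, ∀ y ∈ D, ¬ Commute d y → ∀ m ∈ D,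
    m ∈ closure (sameCls D d ∪ {y}) → Commute d m → m ∈ sameCls D d

theorem line_mem_step (IH : ∀ (H : Type u) [Group H] [Finite H], Nat.card H < Nat.card G → MStmt H) :
    MStmt G := by
  intro D hW d hd y hy hdy m hm hmX hdm
  refine hW.mem_sameCls hd hm fun f hf hdf => ?_
  obtain ⟨a, ha, had, hay, haf⟩ := hW.common_three hd hy hf hdf
  have hsub := sameCls_subset_Dd ha hy hdy had hay
  have ham : Commute a m := by
    have hle : closure (sameCls D d ∪ {y}) ≤ Subgroup.centralizer {a} := by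
      refine (Subgroup.closure_le _).2 ?_
      rintro e (he | rfl)
      · exact Subgroup.mem_centralizer_singleton_iff.2 (hsub he).2.1.eq.symm
      · exact Subgroup.mem_centralizer_singleton_iff.2 hay.eq.symm
    exact (Subgroup.mem_centralizer_singleton_iff.1 (hle hmX)).symm
  by_contra hmf
  rcases hW.uniform with hall | hno
  · have hH := hW.world_Dd hall ha
    have hdS : d ∈ Dd D a := hsub (self_mem_sameCls hd)
    have hyS : y ∈ Dd D a := ⟨hy, hay, fun h => hdy ((h.2 d hd).2 had).symm⟩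
    have hmS : m ∈ Dd D a := ⟨hm, ham, fun h => hmf ((h.2 f hf).2 haf)⟩
    have hfS : f ∈ Dd D a := ⟨hf, haf, fun h => hmf ((h.2 m hm).2 ham).symm⟩
    have hlt : Nat.card (closure (Dd D a)) < Nat.card G :=
      closure_lt_of_centralized hW ha fun z hz => hz.2.1
    have h1 : (⟨m, Subgroup.subset_closure hmS⟩ : closure (Dd D a)) ∈
        sameCls ((↑) ⁻¹' Dd D a) ⟨d, Subgroup.subset_closure hdS⟩ := by
      refine IH _ hlt _ hH ⟨d, Subgroup.subset_closure hdS⟩ hdS ⟨y, Subgroup.subset_closure hyS⟩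
        hyS (fun e => hdy (congrArg Subtype.val e)) _ hmS ?_ (Subtype.ext hdm)
      set S' : Set (closure (Dd D a)) := (↑) ⁻¹' (sameCls D d ∪ {y}) with hS'
      have himg : (closure (Dd D a)).subtype '' S' = sameCls D d ∪ {y} := by
        ext z
        constructor
        · rintro ⟨w, hw, rfl⟩; exact hw
        · intro hz
          have hzS : z ∈ Dd D a := by
            rcases hz with hz | rfl
            exacts [hsub hz, hyS]
          exact ⟨⟨z, Subgroup.subset_closure hzS⟩, hz, rfl⟩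
      have h2 : m ∈ (closure S').map (closure (Dd D a)).subtype := by
        rw [MonoidHom.map_closure, himg]; exact hmX
      obtain ⟨m', hm', hmm⟩ := h2
      have e : m' = ⟨m, Subgroup.subset_closure hmS⟩ := Subtype.ext hmm
      rw [← e]
      refine Subgroup.closure_mono ?_ hm'
      rintro ⟨w, hwU⟩ (hw | hw)
      · exact Or.inl ⟨hsub hw, fun v hv => ⟨fun c => Subtype.ext ((hw.2 _ hv.1).1
          (congrArg Subtype.val c)), fun c => Subtype.ext ((hw.2 _ hv.1).2 (congrArg Subtype.val c))⟩⟩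
      · exact Or.inr (Subtype.ext hw)
    exact hmf (congrArg Subtype.val
      ((h1.2 ⟨f, Subgroup.subset_closure hfS⟩ hfS).2 (Subtype.ext hdf)))
  · exact hno m f ⟨hm, hf, hmf, fun e => hmf (not_commute_r0 e), d, ⟨hd, hdm.symm, hdf.symm⟩, a,
      ⟨ha, ham.symm, haf.symm⟩, had.symm,
      fun e => hdy ((e.2.2 y hy).1 hay)⟩

theorem line_mem_all (H : Type u) [Group H] [Finite H] : MStmt H := by
  suffices h : ∀ (n : ℕ) (H : Type u) [Group H] [Finite H], Nat.card H ≤ n → MStmt H from
    h _ H le_rfl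
  intro n
  induction n with
  | zero =>
    intro H _ _ hH
    have : 0 < Nat.card H := Nat.card_pos
    omega
  | succ n ih =>
    intro H _ _ hH
    exact line_mem_step fun K _ _ hK => ih K (by omega)

theorem World.mem_sameCls_of_line (hW : World D) {d y m : G} (hd : d ∈ D) (hy : y ∈ D)
    (hdy : ¬ Commute d y) (hm : m ∈ D) (hmX : m ∈ closure (sameCls D d ∪ {y}))
    (hdm : Commute d m) : m ∈ sameCls D d :=
  line_mem_all G D hW d hd y hy hdy m hm hmX hdm

/-- Some member commuting with `d` outside its class does not commute with `y`. -/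
theorem World.exists_Dd_nc (hW : World D) {d y : G} (hd : d ∈ D) (hy : y ∈ D)
    (hdy : ¬ Commute d y) : ∃ f ∈ Dd D d, ¬ Commute f y := by
  by_contra hno
  push Not at hno
  have hne : (Dd D d).Nonempty := by
    rw [Set.nonempty_iff_ne_empty]
    intro he
    suffices key : ∀ t, Relation.ReflTransGen (CAdj D) d t → t ∈ sameCls D d from
      hdy (not_commute_r0 ⟨hd, key y (hW.cconn d hd y hy)⟩)
    intro t ht
    induction ht with
    | refl => exact self_mem_sameCls hd
    | @tail s t _ hst ih =>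
      by_contra hnt
      have h1 : t ∈ Dd D d := ⟨hst.2.1, (ih.2 t hst.2.1).1 hst.2.2, hnt⟩
      rw [he] at h1; exact h1.elim
  have hsub : Dd D d ⊆ Dd D y := fun c hc => ⟨hc.1, (hno c hc).symm,
    fun h => hdy (((h.2 d hd).1 hc.2.1.symm).symm)⟩
  have heq : Dd D d = Dd D y := by
    obtain ⟨g, hg⟩ := hW.conjugate hd hy
    refine Set.eq_of_subset_of_ncard_le hsub ?_ (Set.toFinite _)
    rw [← hg, Dd_conj hW.toOT]
    exact Set.ncard_image_le (Set.toFinite _)
  let r : G → G → Prop := fun a b => a ∈ D ∧ b ∈ D ∧ Dd D a = Dd D b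
  have hr : Rel D r :=
    { mem := fun h => ⟨h.1, h.2.1⟩
      refl := fun ha => ⟨ha, ha, rfl⟩
      symm := fun h => ⟨h.2.1, h.1, h.2.2.symm⟩
      trans := fun h h' => ⟨h.1, h'.2.1, h.2.2.trans h'.2.2⟩
      conj := fun h g => ⟨hW.conj _ h.1 g, hW.conj _ h.2.1 g, by
        rw [Dd_conj hW.toOT, Dd_conj hW.toOT, h.2.2]⟩
      tri := fun ha t => ⟨ha, t.1, (Dd_eq (tri_mem_sameCls hW.toOT ha t)).symm⟩
      ax := fun {c c' x} hx hcc hcx hc => by
        have h1 : x ∈ Dd D c :=
          ⟨hx, hc, fun h => hcx ⟨hcc.1, hx, (Dd_eq h).symm⟩⟩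
        rw [hcc.2.2] at h1; exact h1.2.1 }
  have hQ : ∀ u ∈ D, Q D r u = Dd D u := fun u hu => Set.ext fun f =>
    ⟨fun h => ⟨h.1, h.2.1, fun h' => h.2.2 ⟨hu, h.1, (Dd_eq h').symm⟩⟩,
      fun h => ⟨h.1, h.2.1, fun h' => by
        have h'' : f ∈ Dd D f := h'.2.2 ▸ h
        exact h''.2.2 (self_mem_sameCls h.1)⟩⟩
  have huniv := (prim_sc_all G).1 D r hW hr (fun u hu => by rw [hQ u hu]; exact hW.sc hu)
    ⟨d, y, ⟨hd, hy, heq⟩, hdy⟩
  obtain ⟨c, hc⟩ := hne
  have : c ∈ Dd D c := (huniv d hd c hc.1).2.2 ▸ hc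
  exact this.2.2 (self_mem_sameCls hc.1)

/-- `C(d)` and one member not commuting with `d` generate all members. -/
theorem World.subset_closure_cset (hW : World D) {d y : G} (hd : d ∈ D) (hy : y ∈ D)
    (hdy : ¬ Commute d y) : D ⊆ closure (cset D d ∪ {y}) := by
  set G0 := closure (cset D d ∪ {y}) with hG0
  have hC : ∀ c ∈ D, Commute d c → c ∈ G0 :=
    fun c hc h => Subgroup.subset_closure (Or.inl ⟨hc, h⟩)
  have hyG : y ∈ G0 := Subgroup.subset_closure (Or.inr rfl)
  -- non-commuting members in `G0` have the same status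
  have htrans : ∀ p ∈ D, ∀ q ∈ D, p ∈ G0 → q ∈ G0 → ¬ Commute p q →
      (∀ w ∈ D, Commute p w → w ∈ G0) → ∀ w ∈ D, Commute q w → w ∈ G0 := by
    intro p hp q hq hpG hqG hpq hall w hw hqw
    obtain ⟨m, -, hmc, hm, -⟩ := exists_swapper hW.toOT hp hq hpq
    have hmG : m ∈ G0 := (Subgroup.closure_le _).2 (by
      rintro z (rfl | rfl) <;> assumption) hmc
    have h1 : m⁻¹ * w * m⁻¹⁻¹ ∈ G0 := hall _ (hW.conj w hw _) ((commute_conj_iff m).1 (by
      rw [conj_conj_inv, hm]; exact hqw))
    have := G0.mul_mem (G0.mul_mem hmG h1) (G0.inv_mem hmG)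
    rwa [conj_conj_inv] at this
  have hA : ∀ t ∈ D, t ∈ G0 → ¬ Commute d t → ∀ w ∈ D, Commute t w → w ∈ G0 :=
    fun t ht htG hdt => htrans d hd t ht (hC d hd (Commute.refl d)) htG hdt hC
  have hB : ∀ c ∈ Dd D d, ∀ w ∈ D, Commute c w → w ∈ G0 := by
    intro c hc
    by_cases hno : ∀ t ∈ D, t ∈ G0 → ¬ Commute d t → Commute c t
    · exfalso
      obtain ⟨f, hf, hfy⟩ := hW.exists_Dd_nc hd hy hdy
      suffices key : ∀ q, Relation.ReflTransGen (NAdj (Dd D d)) c q →
          ∀ t ∈ D, t ∈ G0 → ¬ Commute d t → Commute q t from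
        hfy (key f (hW.sc hd c hc f hf) y hy hyG hdy)
      intro q hq
      induction hq with
      | refl => exact hno
      | @tail p q _ hpq ih =>
        intro t ht htG hdt
        obtain ⟨m, hm, hmc, hmpq, hfix⟩ :=
          exists_swapper hW.toOT hpq.1.1 hpq.2.1.1 hpq.2.2
        have hmG : m ∈ G0 := (Subgroup.closure_le _).2 (by
          rintro z (rfl | rfl)
          exacts [hC _ hpq.1.1 hpq.1.2.1, hC _ hpq.2.1.1 hpq.2.1.2.1]) hmc
        have hdm : Commute d m := hfix d hpq.1.2.1 hpq.2.1.2.1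
        have h1 := ih (m⁻¹ * t * m⁻¹⁻¹) (hW.conj t ht _)
          (G0.mul_mem (G0.mul_mem (G0.inv_mem hmG) htG) (G0.inv_mem (G0.inv_mem hmG)))
          (fun e => hdt (by
            have h2 := (commute_conj_iff m).2 e
            rwa [conj_eq_self hdm.symm, conj_conj_inv] at h2))
        have h2 := (commute_conj_iff m).2 h1
        rwa [hmpq, conj_conj_inv] at h2
    · push Not at hno
      obtain ⟨t, ht, htG, hdt, hct⟩ := hno
      exact htrans t ht c hc.1 htG (hC c hc.1 hc.2.1) (fun e => hct e.symm) (hA t ht htG hdt)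
  intro w hw
  induction hW.cconn d hd w hw with
  | refl => exact hC d hd (Commute.refl d)
  | @tail s t _ hst ih =>
    by_cases hds : Commute d s
    · by_cases hsE : s ∈ sameCls D d
      · exact hC t hst.2.1 ((hsE.2 t hst.2.1).1 hst.2.2)
      · exact hB s ⟨hst.1, hds, hsE⟩ t hst.2.1 hst.2.2
    · exact hA s hst.1 (ih hst.1) hds t hst.2.1 hst.2.2

/-- In a world generating the group, without normal 2-subgroups, `E(d) = E_d ∪ 1`. -/
theorem World.mul_mem_D (hW : World D) (hgen : closure D = ⊤) (hO : Cfsg.pCore 2 G = ⊥)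
    {d a b : G} (hd : d ∈ D) (ha : a ∈ sameCls D d) (hb : b ∈ sameCls D d) (hne : a ≠ b) :
    a * b ∈ D := by
  by_contra hnot
  have hab : Commute a b := OddTranspX.commute_sameCls ha hb
  have huu : a * b * (a * b) = 1 := GenA.OddTransp.sq_mul (hW.sq ha.1) (hW.sq hb.1) hab
  have hu1 : a * b ≠ 1 := fun e => hne (by rw [eq_inv_of_mul_eq_one_left e, hW.inv hb.1])
  have huC : ∀ c ∈ D, Commute d c → Commute (a * b) c :=
    fun c hc h => ((ha.2 c hc).2 h).mul_left ((hb.2 c hc).2 h)
  have hbad : ∀ y ∈ D, ¬ Commute d y → Commute y (a * b * y * (a * b)) := by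
    intro y hy hdy
    by_contra hgood
    have huyu : a * b * y * (a * b) ∈ D := hW.conj2 hy huu
    obtain ⟨m, hm, hmy, huniq, hfix⟩ := GenA.OddTransp.swap hW.toOT hy huyu hgood
    have hum : Commute (a * b) m := hfix _ (Or.inr ⟨by rw [inv_eq_of_mul_eq_one_right huu],
      by rw [inv_eq_of_mul_eq_one_right huu, GenA.OddTransp.conj_conj huu]⟩)
    have hmd : Commute d m :=
      (ha.2 m hm).1 (GenA.OddTransp.split hW.toOT hm ha.1 hb.1 hab hne hum.symm).1.symm
    obtain ⟨m', hm', hmc, hm'y, -⟩ := exists_swapper hW.toOT hy huyu hgood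
    have hmm : m' = m := huniq m' hm' (by rw [hW.inv hm'] at hm'y; exact hm'y)
    have hU : closure ({y, a * b * y * (a * b)} : Set G) ≤ closure (sameCls D d ∪ {y}) := by
      refine (Subgroup.closure_le _).2 ?_
      have h1 : y ∈ closure (sameCls D d ∪ {y}) := Subgroup.subset_closure (Or.inr rfl)
      have h2 : a * b ∈ closure (sameCls D d ∪ {y}) :=
        mul_mem (Subgroup.subset_closure (Or.inl ha)) (Subgroup.subset_closure (Or.inl hb))
      rintro z (rfl | rfl)
      exacts [h1, mul_mem (mul_mem h2 h1) h2]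
    have hmE : m ∈ sameCls D d :=
      hW.mem_sameCls_of_line hd hy hdy hm (hmm ▸ hU hmc) hmd
    set z := a * b * m with hz
    have hzz : z * z = 1 := GenA.OddTransp.sq_mul huu (hW.sq hm) hum
    have hzy : Commute z y := by
      refine GenA.OddTransp.commute_of_fix hzz ?_
      calc z * y * z = a * b * m * y * (m * (a * b)) := by
            rw [hz]; conv_lhs => rhs; rw [hum.eq]
        _ = a * b * (m * y * m) * (a * b) := by simp only [mul_assoc]
        _ = y := by rw [hmy, GenA.OddTransp.conj_conj huu]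
    have hle : closure (cset D d ∪ {y}) ≤ Subgroup.centralizer {z} := by
      refine (Subgroup.closure_le _).2 ?_
      rintro c (hc | rfl)
      · exact Subgroup.mem_centralizer_singleton_iff.2
          ((huC c hc.1 hc.2).mul_left ((hmE.2 c hc.1).2 hc.2)).eq.symm
      · exact Subgroup.mem_centralizer_singleton_iff.2 hzy.eq.symm
    have htop : (⊤ : Subgroup G) ≤ Subgroup.centralizer {z} := by
      rw [← hgen]
      exact ((Subgroup.closure_le _).2 (hW.subset_closure_cset hd hy hdy)).trans hle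
    have hcent : z ∈ Subgroup.center G :=
      Subgroup.mem_center_iff.2 fun g => Subgroup.mem_centralizer_singleton_iff.1 (htop trivial)
    haveI : (Subgroup.zpowers z).Normal := ⟨fun n hn g => by
      rw [Subgroup.mem_center_iff.1 (Subgroup.zpowers_le.2 hcent hn) g, mul_inv_cancel_right]
      exact hn⟩
    have hp : IsPGroup 2 (Subgroup.zpowers z) := by
      intro n
      obtain ⟨k, hk⟩ := Subgroup.mem_zpowers_iff.1 n.2
      refine ⟨1, Subtype.ext ?_⟩
      rw [SubgroupClass.coe_pow, ← hk, pow_one, pow_two, ← (Commute.refl z).mul_zpow, hzz,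
        one_zpow]
      rfl
    have hz1 : z = 1 := by
      have := (Cores.le_pCore hp).trans (le_of_eq hO)
      rwa [le_bot_iff, Subgroup.zpowers_eq_bot] at this
    exact hnot (by
      rw [eq_inv_of_mul_eq_one_left hz1, hW.inv hm]; exact hm)
  have hord : orderOf (a * b) = 2 := orderOf_eq_prime (by rw [pow_two, huu]) hu1
  obtain ⟨h, hh1, hodd, hinv⟩ := Involutions.BaerSuzuki.exists_inverted_odd (a * b) hord
    (fun N hN hp hmem => hu1 ((Subgroup.eq_bot_iff_forall _).1
      (le_bot_iff.1 ((Cores.le_pCore (hN := hN) hp).trans (le_of_eq hO))) _ hmem))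
  have h4 : (a * b * (h * (a * b) * h⁻¹)) ^ 4 = 1 := by
    set p := h * a * h⁻¹ with hp
    set q := h * b * h⁻¹ with hq
    have e : h * (a * b) * h⁻¹ = p * q := by simp [hp, hq, mul_assoc]
    have hpD : p ∈ D := hW.conj a ha.1 h
    have hqD : q ∈ D := hW.conj b hb.1 h
    have hpq : Commute p q := (commute_conj_iff h).2 hab
    have hpqc : ∀ w ∈ D, Commute p w ↔ Commute q w := by
      intro w hw
      have h1 : ∀ v ∈ D, Commute a v ↔ Commute b v :=
        fun v hv => (ha.2 v hv).trans (hb.2 v hv).symm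
      have := h1 (h⁻¹ * w * h⁻¹⁻¹) (hW.conj w hw _)
      rwa [← commute_conj_iff h, ← commute_conj_iff h (a := b), conj_conj_inv, ← hp, ← hq] at this
    have hqq : p * q * (p * q) = 1 := GenA.OddTransp.sq_mul (hW.sq hpD) (hW.sq hqD) hpq
    rw [e]
    by_cases hdp : Commute d p
    · have h1 : Commute (a * b) (p * q) := (huC p hpD hdp).mul_right (huC q hqD (by
        exact ((hpqc d hd).1 hdp.symm).symm))
      rw [show 4 = 2 * 2 from rfl, pow_mul, h1.mul_pow, pow_two (a * b), huu, pow_two (p * q), hqq,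
        one_mul, one_pow]
    · have hdq : ¬ Commute d q := fun hc => hdp ((hpqc d hd).2 hc.symm).symm
      have h1 := hbad p hpD hdp
      have h2 := hbad q hqD hdq
      set p' := a * b * p * (a * b) with hp'
      set q' := a * b * q * (a * b) with hq'
      have hp'D : p' ∈ D := hW.conj2 hpD huu
      have hq'D : q' ∈ D := hW.conj2 hqD huu
      have h3 : Commute q p' := (hpqc p' hp'D).1 h1
      have h4 : Commute p q' := (hpqc q' hq'D).2 h2
      have h5 : Commute p' q' := GenA.OddTransp.cconj huu hpq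
      have hsq : (a * b * (p * q)) ^ 2 = (p' * q') * (p * q) := by
        rw [pow_two, hp', hq']
        rw [show a * b * p * (a * b) * (a * b * q * (a * b)) * (p * q) =
          a * b * p * (a * b * (a * b)) * q * (a * b) * (p * q) by simp only [mul_assoc], huu,
          mul_one]
        simp only [mul_assoc]
      have hc : Commute (p' * q') (p * q) :=
        ((h1.symm.mul_right h3.symm).mul_left (h4.symm.mul_right h2.symm))
      rw [show 4 = 2 * 2 from rfl, pow_mul, hsq, hc.mul_pow, pow_two (p' * q'),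
        GenA.OddTransp.sq_mul (hW.sq hp'D) (hW.sq hq'D) h5, pow_two (p * q), hqq, one_mul]
  have he : a * b * (h * (a * b) * h⁻¹) = h⁻¹ * h⁻¹ := by
    rw [← hinv, inv_eq_of_mul_eq_one_right huu]
    simp only [mul_assoc]
  rw [he] at h4
  refine hh1 (RootInvolutions.Basic.eq_one_of_odd hodd (n := 3) (inv_eq_one.1 ?_))
  rw [← inv_pow, show (2 ^ 3 : ℕ) = 2 * 4 from rfl, pow_mul, pow_two]
  exact h4

end Cfsg.Agent.OddTranspC
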