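import Cfsg.Agent.Lib.OddTranspC.Group
import Cfsg.Agent.Lib.OddTranspX.Main

/-!
# The group on a line

For `d` and `x` not commuting in a world generating a group without normal 2-subgroups,
`X = <E_d, x>` is perfect, its largest normal 2-subgroup is central, and the factor group is
`L2(2^n)` or a Suzuki group.
-/

set_option autoImplicit false

namespace Cfsg.Agent.OddTranspC

open Cfsg.Agent.GenA.OddTransp (OT Tri sq_mul)
open Cfsg.Agent.OddTranspX (sameCls Concl)
open Subgroup (closure)

universe u

variable {G : Type u} [Group G] {D : Set G}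

/-- The group on the line through `d` and `x`. -/
def lineGrp (D : Set G) (d x : G) : Subgroup G := closure (sameCls D d ∪ {x})

/-- Its largest normal 2-subgroup. -/
def lineCore (D : Set G) (d x : G) : Subgroup G :=
  (Cfsg.pCore 2 (lineGrp D d x)).map (lineGrp D d x).subtype

theorem OT_preimage (h : OT D) (U : Subgroup G) : OT ((↑) ⁻¹' D : Set U) := by
  refine ⟨fun a ha => ?_, fun a ha g => h.conj _ ha g, fun a ha b hb => ?_⟩
  · rw [← orderOf_injective U.subtype Subtype.val_injective]
    exact h.ord _ ha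
  · rcases h.pair _ ha _ hb with h1 | h1
    · exact Or.inl (Subtype.ext h1)
    · refine Or.inr ?_
      rwa [← orderOf_injective U.subtype Subtype.val_injective]

/-- Members whose product, or its square, is a 2-element commute. -/
theorem commute_of_two_power (h : OT D) {a b : G} (ha : a ∈ D) (hb : b ∈ D) {k j : ℕ}
    (hk : ((a * b) ^ 2 ^ j) ^ 2 ^ k = 1) : Commute a b := by
  rcases h.pair a ha b hb with hc | hodd
  · exact hc
  · rw [← pow_mul, ← pow_add] at hk
    have h1 := RootInvolutions.Basic.eq_one_of_odd hodd hk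
    rw [eq_inv_of_mul_eq_one_left h1, h.inv hb]

theorem pgroup_pow {N : Subgroup G} (hN : IsPGroup 2 N) {g : G} (hg : g ∈ N) :
    ∃ k : ℕ, g ^ 2 ^ k = 1 := by
  obtain ⟨k, hk⟩ := hN ⟨g, hg⟩
  exact ⟨k, congrArg Subtype.val hk⟩

theorem commute_of_mem_two (h : OT D) {N : Subgroup G} (hN : IsPGroup 2 N) {a b : G} (ha : a ∈ D)
    (hb : b ∈ D) (hab : a * b ∈ N) : Commute a b := by
  obtain ⟨k, hk⟩ := pgroup_pow hN hab
  exact commute_of_two_power h ha hb (j := 0) (k := k) (by simpa using hk)

/-- A member in a 2-subgroup commutes with each member normalising it. -/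
theorem commute_of_normalized (h : OT D) {N : Subgroup G} (hN : IsPGroup 2 N) {a b : G}
    (ha : a ∈ D) (hb : b ∈ D) (haN : a ∈ N) (hnorm : b * a * b⁻¹ ∈ N) : Commute a b := by
  rw [h.inv hb] at hnorm
  obtain ⟨k, hk⟩ := pgroup_pow hN (mul_mem haN hnorm)
  refine commute_of_two_power h ha hb (j := 1) (k := k) ?_
  rw [pow_one, pow_two, show a * b * (a * b) = a * (b * a * b) by simp only [mul_assoc]]
  exact hk

theorem lineCore_le {d x : G} : lineCore D d x ≤ lineGrp D d x := Subgroup.map_subtype_le _

theorem lineCore_two [Finite G] {d x : G} : IsPGroup 2 (lineCore D d x) :=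
  (Cores.pCore_isPGroup 2).map _

theorem lineCore_conj {d x g r : G} (hg : g ∈ lineGrp D d x) (hr : r ∈ lineCore D d x) :
    g * r * g⁻¹ ∈ lineCore D d x := by
  obtain ⟨r', hr', rfl⟩ := hr
  have hn : (Cfsg.pCore 2 (lineGrp D d x)).Normal := inferInstance
  exact ⟨⟨g, hg⟩ * r' * ⟨g, hg⟩⁻¹, hn.conj_mem r' hr' _, rfl⟩

theorem mem_lineGrp {d x e : G} (he : e ∈ sameCls D d) : e ∈ lineGrp D d x :=
  Subgroup.subset_closure (Or.inl he)

theorem self_mem_lineGrp {d x : G} : x ∈ lineGrp D d x := Subgroup.subset_closure (Or.inr rfl)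

theorem lineGrp_eq {d x e : G} (he : e ∈ sameCls D d) : lineGrp D e x = lineGrp D d x := by
  rw [lineGrp, sameCls_eq he, lineGrp]

section Facts

variable [Finite G] (hW : World D) (hgen : closure D = ⊤) (hO : Cfsg.pCore 2 G = ⊥)
  {d x : G} (hd : d ∈ D) (hx : x ∈ D) (hdx : ¬ Commute d x)
include hW hgen hO hd hx hdx

theorem lineCore_central {r g : G} (hr : r ∈ lineCore D d x) (hg : g ∈ lineGrp D d x) :
    Commute g r := by
  have key : ∀ e ∈ sameCls D d, ∀ r ∈ lineCore D d x, Commute e r := by
    intro e he r hr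
    have heX := mem_lineGrp (x := x) he
    have hrX := lineCore_le hr
    set f := r * e * r⁻¹ with hf
    have hfD : f ∈ D := hW.conj e he.1 r
    have hfX : f ∈ lineGrp D d x := mul_mem (mul_mem hrX heX) (inv_mem hrX)
    have hef' : e * f ∈ lineCore D d x := by
      have h1 := mul_mem (lineCore_conj heX hr) (inv_mem hr)
      rw [hW.inv he.1] at h1
      rwa [hf, show e * (r * e * r⁻¹) = e * r * e * r⁻¹ by simp only [mul_assoc]]
    have hef : Commute e f := commute_of_mem_two hW.toOT lineCore_two he.1 hfD hef'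
    have hde : ¬ Commute e x := fun h => hdx ((he.2 x hx).1 h)
    have hfE : f ∈ sameCls D e :=
      hW.mem_sameCls_of_line he.1 hx hde hfD (by rwa [← lineGrp, lineGrp_eq he]) hef
    by_cases hne : e = f
    · show e * r = r * e
      conv_lhs => rw [hne, hf, inv_mul_cancel_right]
    · have hkD : e * f ∈ D :=
        hW.mul_mem_D hgen hO he.1 (self_mem_sameCls he.1) hfE hne
      have hkx : Commute (e * f) x := commute_of_normalized hW.toOT lineCore_two hkD hx hef'
        (lineCore_conj self_mem_lineGrp hef')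
      have hkE : e * f ∈ sameCls D e := tri_mem_sameCls hW.toOT he.1
        (GenA.OddTransp.tri_third hW.toOT he.1 ⟨hfD, hef, hkD⟩)
      exact absurd ((hkE.2 x hx).1 hkx) hde
  obtain ⟨m, -, hmc, hm, -⟩ := exists_swapper hW.toOT hd hx hdx
  have hmX : m ∈ lineGrp D d x := (Subgroup.closure_le _).2 (by
    rintro z (rfl | rfl)
    exacts [mem_lineGrp (self_mem_sameCls hd), self_mem_lineGrp]) hmc
  have hxr : ∀ r ∈ lineCore D d x, Commute x r := by
    intro r hr
    have h1 := key d (self_mem_sameCls hd) (m⁻¹ * r * m⁻¹⁻¹)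
      (lineCore_conj (inv_mem hmX) hr)
    have h2 := (commute_conj_iff m).2 h1
    rwa [hm, conj_conj_inv] at h2
  have hle : lineGrp D d x ≤ Subgroup.centralizer {r} := by
    refine (Subgroup.closure_le _).2 ?_
    rintro e (he | rfl)
    · exact Subgroup.mem_centralizer_singleton_iff.2 (key e he r hr).eq
    · exact Subgroup.mem_centralizer_singleton_iff.2 (hxr r hr).eq
  exact Subgroup.mem_centralizer_singleton_iff.1 (hle hg)

theorem lineGrp_perfect : ⁅lineGrp D d x, lineGrp D d x⁆ = lineGrp D d x := by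
  refine le_antisymm ?_ ?_
  · exact Subgroup.commutator_le.2 fun a ha b hb => mul_mem (mul_mem (mul_mem ha hb) (inv_mem ha))
      (inv_mem hb)
  set C := ⁅lineGrp D d x, lineGrp D d x⁆ with hC
  have hex : ∀ e ∈ sameCls D d, e * x ∈ C := by
    intro e he
    have hde : ¬ Commute x e := fun h => hdx ((he.2 x hx).1 h.symm)
    obtain ⟨m, -, hmc, hm, -⟩ := exists_swapper hW.toOT hx he.1 hde
    have hmX : m ∈ lineGrp D d x := (Subgroup.closure_le _).2 (by
      rintro z (rfl | rfl)
      exacts [self_mem_lineGrp, mem_lineGrp he]) hmc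
    have h1 := Subgroup.commutator_mem_commutator hmX (self_mem_lineGrp (D := D) (d := d) (x := x))
    rwa [commutatorElement_def, hm, hW.inv hx] at h1
  obtain ⟨d₂, t⟩ := hW.tri d hd
  have ht₂ := tri_mem_sameCls hW.toOT hd t
  have ht₃ := tri_mem_sameCls hW.toOT hd (GenA.OddTransp.tri_third hW.toOT hd t)
  have h3 : d * d₂ ∈ C := by
    have := mul_mem (hex d (self_mem_sameCls hd)) (inv_mem (hex d₂ ht₂))
    rwa [mul_inv_rev, ← mul_assoc, mul_inv_cancel_right, hW.inv t.1] at this
  have hxC : x ∈ C := by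
    have := mul_mem (inv_mem h3) (hex _ ht₃)
    rwa [inv_mul_cancel_left] at this
  refine (Subgroup.closure_le _).2 ?_
  rintro e (he | rfl)
  · have := mul_mem (hex e he) (inv_mem hxC)
    rwa [mul_inv_cancel_right] at this
  · exact hxC

theorem lineGrp_commutator : commutator (lineGrp D d x) = ⊤ := by
  apply Subgroup.map_injective (lineGrp D d x).subtype_injective
  rw [commutator_def, Subgroup.map_commutator, ← MonoidHom.range_eq_map, Subgroup.range_subtype,
    lineGrp_perfect hW hgen hO hd hx hdx]

theorem line_concl : Concl (lineGrp D d x ⧸ Cfsg.pCore 2 (lineGrp D d x)) := by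
  classical
  have hdX : d ∈ lineGrp D d x := mem_lineGrp (self_mem_sameCls hd)
  set A : Set (lineGrp D d x) := (↑) ⁻¹' sameCls D d with hA
  have hA' : A ⊆ sameCls ((↑) ⁻¹' D : Set (lineGrp D d x)) ⟨d, hdX⟩ := fun a ha =>
    ⟨ha.1, fun y hy => by
      rw [← commute_coe_iff, ← commute_coe_iff]; exact ha.2 _ hy⟩
  have htop : closure (A ∪ {⟨x, self_mem_lineGrp⟩}) = ⊤ := by
    have e : A ∪ {⟨x, self_mem_lineGrp⟩} =
        ((↑) ⁻¹' (sameCls D d ∪ {x}) : Set (lineGrp D d x)) := by
      ext z
      simp [hA, Subtype.ext_iff]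
    rw [e]
    exact Subgroup.closure_closure_coe_preimage
  rcases OddTranspX.concl_or_dihedral (OT_preimage hW.toOT _) (A := A) (d := ⟨d, hdX⟩)
    (x := ⟨x, self_mem_lineGrp⟩) hd (self_mem_sameCls hd) hA' hx
    (fun h => hdx (congrArg Subtype.val h)) htop (fun H _ _ _ => OddTranspX.main H) with h | ⟨n, ⟨e⟩⟩
  · exact h
  exfalso
  set N := Cfsg.pCore 2 (lineGrp D d x)
  let χ : DihedralGroup n →* Multiplicative (ZMod 2) :=
    { toFun := fun g => match g with
        | .r _ => 1
        | .sr _ => Multiplicative.ofAdd 1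
      map_one' := rfl
      map_mul' := fun a b => by
        rcases a with a | a <;> rcases b with b | b <;> simp <;> decide }
  let φ := χ.comp (e.toMonoidHom.comp (QuotientGroup.mk' N))
  have hsurj : Function.Surjective (e.toMonoidHom.comp (QuotientGroup.mk' N)) :=
    e.surjective.comp (QuotientGroup.mk'_surjective N)
  obtain ⟨g, hg⟩ := hsurj (DihedralGroup.sr 0)
  have h1 : g ∈ φ.ker :=
    Abelianization.commutator_subset_ker φ (by
      rw [lineGrp_commutator hW hgen hO hd hx hdx]; trivial)
  rw [MonoidHom.mem_ker] at h1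
  simp only [φ, MonoidHom.comp_apply] at h1
  rw [MonoidHom.comp_apply] at hg
  rw [hg] at h1
  change Multiplicative.ofAdd (1 : ZMod 2) = 1 at h1
  exact absurd h1 (by decide)

omit hx hdx in
/-- `E(d) = E_d ∪ 1`. -/
theorem classGrp_coe : (closure (sameCls D d) : Set G) = sameCls D d ∪ {1} := by
  refine Set.Subset.antisymm (fun g hg => ?_) ?_
  · induction hg using Subgroup.closure_induction with
    | mem e he => exact Or.inl he
    | one => exact Or.inr rfl
    | inv a _ iha =>
      rcases iha with h | h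
      · exact Or.inl (by rw [hW.inv h.1]; exact h)
      · exact Or.inr (by simpa using h)
    | mul a b _ _ iha ihb =>
      rcases iha with ha | ha
      · rcases ihb with hb | hb
        · by_cases hab : a = b
          · exact Or.inr (by rw [← hab]; exact hW.sq ha.1)
          · left
            have hm := hW.mul_mem_D hgen hO hd ha hb hab
            have h1 := tri_mem_sameCls hW.toOT ha.1 (GenA.OddTransp.tri_third hW.toOT ha.1
              ⟨hb.1, OddTranspX.commute_sameCls ha hb, hm⟩)
            rwa [sameCls_eq ha] at h1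
        · rw [Set.mem_singleton_iff] at hb
          exact Or.inl (by rw [hb, mul_one]; exact ha)
      · rw [Set.mem_singleton_iff] at ha
        rw [ha, one_mul]; exact ihb
  · rintro g (hg | rfl)
    exacts [Subgroup.subset_closure hg, one_mem _]

end Facts


/-- No line group has an element of order four. -/
def LineStmt (G : Type u) [Group G] : Prop :=
  ∀ D : Set G, World D → closure D = ⊤ → Cfsg.pCore 2 G = ⊥ → ∀ d ∈ D, ∀ x ∈ D, ¬ Commute d x →
    ∀ g ∈ lineGrp D d x, g ^ 4 = 1 → g * g = 1

/-- The line group is `L2(q)`, `q` the order of `E(d)`. -/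
def LineConcl (D : Set G) (d x : G) : Prop :=
  ∃ (F : Type) (_ : Field F) (_ : Fintype F), CharP F 2 ∧
    Fintype.card F = Nat.card (closure (sameCls D d)) ∧
    Nonempty (lineGrp D d x ≃* Matrix.ProjectiveSpecialLinearGroup (Fin 2) F)

end Cfsg.Agent.OddTranspC
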