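import Cfsg.Agent.Lib.Coprime.PGroup
import Mathlib

/-!
# A perfect group with a `5 : 4` section acting on a 2-group

If a perfect group `X` acts on a 2-group `Q`, `d` is an involution of `X` all whose quotients `r⁻¹ d r d` on
`Q` square to one, and certain products of four commuting conjugates vanish, then `X` centralises `Q`: on a
minimal non-central section the square root `s` of `d` has zero trace `1 + s + s² + s³`, which makes the
element of order five trivial.
-/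

set_option autoImplicit false
set_option linter.style.haveILetI false
set_option linter.unusedSectionVars false

namespace Cfsg.Agent.OddTranspC

open Subgroup

universe u

/-- The ring identity behind `trace_trivial`. -/
theorem trace_end_trick {R : Type*} [Ring R] (σ τ : R) (h2 : (1 : R) + 1 = 0) (h5 : τ ^ 5 = 1)
    (hr : σ * τ = τ ^ 2 * σ) (h : 1 + σ + σ * σ + σ * σ * σ = 0) : τ = 1 := by
  have hk : ∀ k : ℕ, σ * τ ^ k = τ ^ (2 * k) * σ := by
    intro k
    rw [pow_mul]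
    exact SemiconjBy.pow_right hr k
  have hm : ∀ k : ℕ, τ ^ k = τ ^ (k % 5) := fun k => pow_eq_pow_mod k h5
  have h1 : ∀ i j : ℕ, i + j = 5 →
      1 + τ ^ (i + 2 * j) * σ + τ ^ (i + 4 * j) * (σ * σ) + τ ^ (i + 8 * j) * (σ * σ * σ) = 0 := by
    intro i j hij
    have e2 : σ * σ * τ ^ j = τ ^ (4 * j) * (σ * σ) := by
      rw [mul_assoc, hk, ← mul_assoc, hk, mul_assoc, show 2 * (2 * j) = 4 * j by ring]
    have e3 : σ * σ * σ * τ ^ j = τ ^ (8 * j) * (σ * σ * σ) := by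
      rw [mul_assoc σ σ σ, mul_assoc σ, e2, ← mul_assoc, hk, mul_assoc, show 2 * (4 * j) = 8 * j by ring]
    have e0 : τ ^ i * (1 + σ + σ * σ + σ * σ * σ) * τ ^ j = 0 := by rw [h, mul_zero, zero_mul]
    simp only [mul_add, add_mul, mul_one, mul_assoc (τ ^ i) _ (τ ^ j), hk, e2, e3, ← pow_add, hij, h5,
      ← mul_assoc (τ ^ i) (τ ^ _)] at e0
    exact e0
  have f0 := h1 5 0 rfl
  have f1 := h1 4 1 rfl
  have f2 := h1 3 2 rfl
  have f3 := h1 2 3 rfl
  have f4 := h1 1 4 rfl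
  norm_num at f0 f1 f2 f3 f4
  rw [hm 5] at f0
  rw [hm 6, hm 8, hm 12] at f1
  rw [hm 7, hm 11, hm 19] at f2
  rw [hm 8, hm 14, hm 26] at f3
  rw [hm 9, hm 17, hm 33] at f4
  norm_num at f0 f1 f2 f3 f4
  set N : R := 1 + τ + τ ^ 2 + τ ^ 3 + τ ^ 4 with hN
  have hsum : (5 : R) + N * (σ + σ * σ + σ * σ * σ) = 0 := by
    have e := congrArg₂ (· + ·) (congrArg₂ (· + ·) (congrArg₂ (· + ·) f0 f1) (congrArg₂ (· + ·) f2 f3)) f4
    simp only [add_zero] at e
    rw [← e, hN, show (5 : R) = 1 + 1 + 1 + 1 + 1 by norm_num]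
    simp only [add_mul, mul_add, one_mul]
    abel
  have hNτ : τ * N = N := by
    rw [hN]
    simp only [mul_add, mul_one, ← pow_succ', ← pow_two]
    norm_num [h5]
    abel
  have h50 : (5 : R) = 1 := by
    rw [show (5 : R) = (1 + 1) + (1 + 1) + 1 by norm_num, h2, zero_add, zero_add]
  have e : τ * ((5 : R) + N * (σ + σ * σ + σ * σ * σ)) = τ + N * (σ + σ * σ + σ * σ * σ) := by
    rw [mul_add, h50, mul_one, ← mul_assoc, hNτ]
  rw [hsum, mul_zero] at e
  rw [h50] at hsum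
  exact add_right_cancel (b := N * (σ + σ * σ + σ * σ * σ)) (e.symm.trans hsum.symm)

variable {Y : Type u} [Group Y] [Finite Y]

/-- A finite 2-group acted on: the conjugation homomorphism of a normalising subgroup. -/
def conjHom (M : Subgroup Y) (g : Y) (hg : ∀ r ∈ M, g * r * g⁻¹ ∈ M) : ↥M →* ↥M where
  toFun r := ⟨g * r * g⁻¹, hg r r.2⟩
  map_one' := Subtype.ext (by simp)
  map_mul' a b := Subtype.ext (by simp [mul_assoc])

/-- Minimal-section step: on a 2-group `M` whose squares are fixed by `X` and central, a zero trace kills the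
element of order five. -/
theorem trace_section {M K X : Subgroup Y} (hM : IsPGroup 2 M) (hKM : K ≤ M)
    (hKc : ∀ a ∈ M, ∀ c ∈ K, Commute a c) (hKX : ∀ g ∈ X, ∀ c ∈ K, Commute g c)
    (hsq : ∀ a ∈ M, a * a ∈ K) (hXM : ∀ g ∈ X, ∀ r ∈ M, g * r * g⁻¹ ∈ M)
    {s t z : Y} (hs : s ∈ X) (ht : t ∈ X) (hz : z ∈ X) (hzM : ∀ r ∈ M, Commute z r)
    (ht5 : t ^ 5 = 1) (hst : s * t = z * t ^ 2 * s)
    (htr : ∀ r ∈ M, r * (s * r * s⁻¹) * (s * s * r * (s * s)⁻¹) * (s * s * s * r * (s * s * s)⁻¹) ∈ K) :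
    ∀ r ∈ M, Commute t r := by
  classical
  let N' : Subgroup ↥M := K.subgroupOf M
  haveI : N'.Normal := ⟨fun c hc a => by
    rw [mem_subgroupOf] at hc ⊢
    rw [coe_mul, coe_mul, (hKc _ a.2 _ hc).eq, coe_inv, mul_inv_cancel_right]
    exact hc⟩
  have hcomm : ∀ a b : ↥M ⧸ N', a * b = b * a := by
    intro a b
    induction a using QuotientGroup.induction_on with | H a => ?_
    induction b using QuotientGroup.induction_on with | H b => ?_
    refine QuotientGroup.eq.2 (mem_subgroupOf.2 ?_)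
    have e : ((a : ↥M) * b)⁻¹ * (b * a) = ((b : ↥M)⁻¹ * a⁻¹) * (b⁻¹ * a⁻¹) *
        (a * (b * b) * a⁻¹) * (a * a) := by group
    rw [e]
    simp only [coe_mul, coe_inv]
    refine K.mul_mem (K.mul_mem (hsq _ (M.mul_mem (M.inv_mem b.2) (M.inv_mem a.2))) ?_) (hsq _ a.2)
    rw [(hKc _ a.2 _ (hsq _ b.2)).eq, mul_inv_cancel_right]
    exact hsq _ b.2
  letI : CommGroup (↥M ⧸ N') := { QuotientGroup.Quotient.group N' with mul_comm := hcomm }
  let φ : ↥X →* AddMonoid.End (Additive (↥M ⧸ N')) :=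
    { toFun := fun g => MonoidHom.toAdditive (QuotientGroup.map N' N' (conjHom M g (hXM g g.2)) (fun c hc => by
        rw [mem_comap, mem_subgroupOf] at *
        show (g : Y) * c * (g : Y)⁻¹ ∈ K
        rw [(hKX _ g.2 _ hc).eq, mul_inv_cancel_right]
        exact hc))
      map_one' := AddMonoidHom.ext fun v => by
        induction v using Additive.rec with | ofMul v => ?_
        induction v using QuotientGroup.induction_on with | H a => ?_
        exact congrArg (fun x : ↥M => Additive.ofMul (x : ↥M ⧸ N')) (Subtype.ext (by simp [conjHom]))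
      map_mul' := fun g h => AddMonoidHom.ext fun v => by
        induction v using Additive.rec with | ofMul v => ?_
        induction v using QuotientGroup.induction_on with | H a => ?_
        exact congrArg (fun x : ↥M => Additive.ofMul (x : ↥M ⧸ N'))
          (Subtype.ext (by simp [conjHom, mul_assoc])) }
  have happ : ∀ (g : ↥X) (a : ↥M), φ g (Additive.ofMul (a : ↥M ⧸ N')) =
      Additive.ofMul ((conjHom M g (hXM g g.2) a : ↥M) : ↥M ⧸ N') := fun g a => rfl
  have hext : ∀ f f' : AddMonoid.End (Additive (↥M ⧸ N')),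
      (∀ a : ↥M, f (Additive.ofMul (a : ↥M ⧸ N')) = f' (Additive.ofMul (a : ↥M ⧸ N'))) → f = f' := by
    intro f f' hf
    refine AddMonoidHom.ext fun v => ?_
    induction v using Additive.rec with | ofMul v => ?_
    induction v using QuotientGroup.induction_on with | H a => ?_
    exact hf a
  have hφz : φ ⟨z, hz⟩ = 1 := hext _ _ fun a => by
    rw [happ]
    exact congrArg (fun x : ↥M => Additive.ofMul (x : ↥M ⧸ N'))
      (Subtype.ext (by show z * a * z⁻¹ = a; rw [(hzM a a.2).eq, mul_inv_cancel_right]))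
  have h2 : (1 : AddMonoid.End (Additive (↥M ⧸ N'))) + 1 = 0 := hext _ _ fun a => by
    refine congrArg Additive.ofMul ((QuotientGroup.eq_one_iff _).2 (mem_subgroupOf.2 ?_) :
      ((a * a : ↥M) : ↥M ⧸ N') = 1)
    exact hsq _ a.2
  have hτ := trace_end_trick (φ ⟨s, hs⟩) (φ ⟨t, ht⟩) h2
    (by rw [← map_pow, show (⟨t, ht⟩ : ↥X) ^ 5 = 1 from Subtype.ext ht5, map_one])
    (by rw [← map_mul, show (⟨s, hs⟩ : ↥X) * ⟨t, ht⟩ = ⟨z, hz⟩ * ⟨t, ht⟩ ^ 2 * ⟨s, hs⟩ from Subtype.ext hst,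
          map_mul, map_mul, map_pow, hφz, one_mul])
    (by
      rw [← map_mul, ← map_mul]
      refine hext _ _ fun a => ?_
      refine congrArg Additive.ofMul ((QuotientGroup.eq_one_iff _).2 (mem_subgroupOf.2 ?_) :
        ((a * conjHom M s (hXM s hs) a * conjHom M (s * s) (hXM _ (X.mul_mem hs hs)) a *
          conjHom M (s * s * s) (hXM _ (X.mul_mem (X.mul_mem hs hs) hs)) a : ↥M) : ↥M ⧸ N') = 1)
      exact htr _ a.2)
  intro r hr
  have h1 : (Additive.ofMul ((conjHom M t (hXM t ht) ⟨r, hr⟩ : ↥M) : ↥M ⧸ N')) =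
      Additive.ofMul ((⟨r, hr⟩ : ↥M) : ↥M ⧸ N') := by
    rw [← happ ⟨t, ht⟩ ⟨r, hr⟩, hτ]
    rfl
  have hc : r⁻¹ * (t * r * t⁻¹) ∈ K :=
    mem_subgroupOf.1 (QuotientGroup.eq.1 (Additive.ofMul.injective h1).symm)
  set c := r⁻¹ * (t * r * t⁻¹) with hcd
  have hstep : ∀ n : ℕ, t ^ n * r * (t ^ n)⁻¹ = r * c ^ n := by
    intro n
    induction n with
    | zero => simp
    | succ n ih =>
      have e : t * c * t⁻¹ = c := by rw [(hKX t ht c hc).eq, mul_inv_cancel_right]
      calc t ^ (n + 1) * r * (t ^ (n + 1))⁻¹ = t * (t ^ n * r * (t ^ n)⁻¹) * t⁻¹ := by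
            rw [pow_succ']; group
        _ = (t * r * t⁻¹) * (t * c * t⁻¹) ^ n := by rw [ih, conj_pow]; group
        _ = r * c ^ (n + 1) := by
            rw [e, show t * r * t⁻¹ = r * c by rw [hcd]; group, pow_succ', mul_assoc]
  have hc5 : c ^ 5 = 1 := by simpa [ht5] using (hstep 5).symm
  have hc1 : c = 1 := by
    haveI : Fact (Nat.Prime 2) := ⟨Nat.prime_two⟩
    obtain ⟨k, hk⟩ := hM ⟨c, hKM hc⟩
    have hk' : c ^ 2 ^ k = 1 := congrArg Subtype.val hk
    rw [← orderOf_eq_one_iff, ← Nat.dvd_one,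
      ← (show Nat.Coprime (2 ^ k) 5 from Nat.Coprime.pow_left k (by norm_num))]
    exact Nat.dvd_gcd (orderOf_dvd_of_pow_eq_one hk') (orderOf_dvd_of_pow_eq_one hc5)
  rw [hcd, inv_mul_eq_one] at hc1
  exact eq_mul_inv_iff_mul_eq.1 hc1 |>.symm

/-- A perfect group with a `5 : 4` section, the trace condition, and no proper non-central normal subgroup
centralises the 2-group it acts on. -/
theorem trace_trivial {Q X Z : Subgroup Y} (hQ : IsPGroup 2 Q)
    (hXQ : ∀ g ∈ X, ∀ r ∈ Q, g * r * g⁻¹ ∈ Q) (hperf : ⁅X, X⁆ = X)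
    (hZX : Z ≤ X) (hZ : IsPGroup 2 Z) (hZc : ∀ z ∈ Z, ∀ g ∈ X, Commute z g)
    (hmax : ∀ K : Subgroup Y, K ≤ X → (∀ g ∈ X, ∀ k ∈ K, g * k * g⁻¹ ∈ K) → K ≤ Z ∨ K ⊔ Z = X)
    {d s t : Y} (hd : d ∈ X) (hs : s ∈ X) (ht : t ∈ X) (hd2 : d * d = 1) (hsd : s * s * d ∈ Z)
    (ht5 : t ^ 5 = 1) (htZ : t ∉ Z) (hst : s * t * s⁻¹ * (t ^ 2)⁻¹ ∈ Z)
    (hw : ∀ r ∈ Q, (r⁻¹ * d * r * d) ^ 2 = 1)
    (hk : ∀ r ∈ Q, Commute (r⁻¹ * d * r * (s⁻¹ * (r⁻¹ * d * r) * s)) r →
      r⁻¹ * d * r * (s⁻¹ * (r⁻¹ * d * r) * s) = 1) :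
    ∀ g ∈ X, ∀ r ∈ Q, Commute g r := by
  classical
  haveI : Fact (Nat.Prime 2) := ⟨Nat.prime_two⟩
  by_contra hne
  -- a minimal invariant subgroup with non-trivial action
  obtain ⟨M, ⟨hMQ, hXM, hMne⟩, hmin⟩ := exists_minimal_of_wellFoundedLT (fun M : Subgroup Y =>
    M ≤ Q ∧ (∀ g ∈ X, ∀ r ∈ M, g * r * g⁻¹ ∈ M) ∧ ¬ ∀ g ∈ X, ∀ r ∈ M, Commute g r) ⟨Q, le_rfl, hXQ, hne⟩
  have hsmall : ∀ L : Subgroup Y, L < M → (∀ g ∈ X, ∀ r ∈ L, g * r * g⁻¹ ∈ L) → L ≤ centralizer (X : Set Y) := by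
    intro L hL hXL r hr
    by_contra h
    refine hL.not_ge (hmin ⟨hL.le.trans hMQ, hXL, fun h' => h ?_⟩ hL.le)
    exact mem_centralizer_iff.2 fun g hg => (h' g hg r hr).eq
  have hXMn : X ≤ normalizer (M : Set Y) := by
    intro g hg
    refine mem_normalizer_iff.2 fun n => ⟨fun hn => hXM g hg n hn, fun hn => ?_⟩
    have := hXM g⁻¹ (X.inv_mem hg) _ hn
    simpa [mul_assoc] using this
  have hMp : IsPGroup 2 M := hQ.to_le hMQ
  have hMbot : M ≠ ⊥ := fun h => hMne fun g _ r hr => by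
    rw [h, mem_bot] at hr
    rw [hr]
    exact Commute.one_right g
  -- `⁅M, X⁆ = M`
  have hMX : ⁅M, X⁆ = M := by
    by_contra h
    have hC := hsmall ⁅M, X⁆ (lt_of_le_of_ne (Coprime.commutator_le_of_le_normalizer hXMn) h) fun g hg r hr => by
      have h1 : ⁅M, X⁆.map (MulAut.conj g).toMonoidHom ≤ ⁅M, X⁆ := by
        rw [map_commutator]
        refine commutator_mono ?_ ?_
        · rintro _ ⟨a, ha, rfl⟩; exact hXM g hg a ha
        · rintro _ ⟨a, ha, rfl⟩; exact X.mul_mem (X.mul_mem hg ha) (X.inv_mem hg)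
      exact h1 (mem_map_of_mem _ hr)
    have e1 : ⁅⁅M, X⁆, X⁆ = ⊥ := commutator_eq_bot_iff_le_centralizer.2 hC
    have e2 := commutator_commutator_eq_bot_of_rotate (H₁ := X) (H₂ := X) (H₃ := M)
      (by rw [commutator_comm X M]; exact e1) e1
    rw [hperf, commutator_eq_bot_iff_le_centralizer] at e2
    exact hMne fun g hg r hr => (mem_centralizer_iff.1 (e2 hg) r hr).symm
  -- the subgroup generated by the squares
  set K := closure {x : Y | ∃ a ∈ M, a * a = x} with hKdef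
  have hsq : ∀ a ∈ M, a * a ∈ K := fun a ha => subset_closure ⟨a, ha, rfl⟩
  have hKM : K ≤ M := (closure_le _).2 fun x ⟨a, ha, e⟩ => e ▸ M.mul_mem ha ha
  have hKinv : ∀ g : Y, (∀ a ∈ M, g * a * g⁻¹ ∈ M) → ∀ c ∈ K, g * c * g⁻¹ ∈ K := by
    intro g hg c hc
    induction hc using closure_induction with
    | mem x hx =>
      obtain ⟨a, ha, rfl⟩ := hx
      rw [← conj_mul]
      exact hsq _ (hg a ha)
    | one => simp
    | mul a b _ _ iha ihb => rw [← conj_mul]; exact K.mul_mem iha ihb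
    | inv a _ iha => rw [← conj_inv]; exact K.inv_mem iha
  have hKlt : K < M := by
    refine lt_of_le_of_ne hKM fun hKe => ?_
    obtain ⟨n, hn⟩ := IsPGroup.iff_card.1 hMp
    have hn0 : n ≠ 0 := fun e0 => hMbot (card_eq_one.1 (by rw [hn, e0, pow_zero]))
    obtain ⟨H, hH⟩ := Sylow.exists_subgroup_card_pow_prime 2 (G := ↥M) (n := n - 1)
      (hn ▸ pow_dvd_pow 2 (by omega))
    have hidx : H.index = 2 := by
      have e := H.card_mul_index
      rw [hH, hn, show (2 : ℕ) ^ n = 2 ^ (n - 1) * 2 by rw [← pow_succ]; congr 1; omega] at e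
      exact Nat.eq_of_mul_eq_mul_left (pow_pos (by norm_num) _) e
    have hle : K ≤ H.map M.subtype := (closure_le _).2 fun x ⟨a, ha, e⟩ =>
      ⟨⟨a, ha⟩ * ⟨a, ha⟩, mul_self_mem_of_index_two hidx _, e⟩
    have h1 := card_le_of_le hle
    rw [card_map_of_injective M.subtype_injective, hH, hKe, hn] at h1
    exact absurd h1 (not_le.2 (Nat.pow_lt_pow_right (by norm_num) (by omega)))
  have hKX' : K ≤ centralizer (X : Set Y) := hsmall K hKlt fun g hg => hKinv g (hXM g hg)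
  have hKX : ∀ g ∈ X, ∀ c ∈ K, Commute g c := fun g hg c hc => mem_centralizer_iff.1 (hKX' hc) g hg
  have hKc : ∀ a ∈ M, ∀ c ∈ K, Commute a c := by
    have e1 : ⁅⁅K, X⁆, M⁆ = ⊥ := by
      rw [commutator_eq_bot_iff_le_centralizer.2 hKX', commutator_bot_left]
    have e2 : ⁅⁅M, K⁆, X⁆ = ⊥ := by
      rw [commutator_eq_bot_iff_le_centralizer]
      refine le_trans (commutator_le.2 fun a ha c hc => ?_) hKX'
      rw [commutatorElement_def]
      exact K.mul_mem (hKinv a (fun b hb => M.mul_mem (M.mul_mem ha hb) (M.inv_mem ha)) c hc) (K.inv_mem hc)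
    have e3 := commutator_commutator_eq_bot_of_rotate (H₁ := X) (H₂ := M) (H₃ := K) e2 e1
    rw [commutator_comm X M, hMX, commutator_eq_bot_iff_le_centralizer] at e3
    exact fun a ha c hc => (mem_centralizer_iff.1 (e3 ha) c hc).symm
  -- `Z` acts trivially
  have hzM : ∀ z ∈ Z, ∀ r ∈ M, Commute z r := by
    intro z hz
    have hzn : zpowers z ≤ normalizer (M : Set Y) := zpowers_le.2 (hXMn (hZX hz))
    have hP : IsPGroup 2 ↥(M ⊔ zpowers z) :=
      hMp.to_sup_of_normal_left' (hZ.to_le (zpowers_le.2 hz)) hzn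
    haveI : Group.IsNilpotent ↥(M ⊔ zpowers z) := hP.isNilpotent
    have hlt : ⁅M, M ⊔ zpowers z⁆ < M :=
      Coprime.commutator_lt_of_isNilpotent le_sup_left hMbot (sup_le le_normalizer hzn)
    have hL : ⁅M, zpowers z⁆ < M := lt_of_le_of_lt (commutator_mono le_rfl le_sup_right) hlt
    have hC := hsmall _ hL fun g hg r hr => by
      have h1 : ⁅M, zpowers z⁆.map (MulAut.conj g).toMonoidHom ≤ ⁅M, zpowers z⁆ := by
        rw [map_commutator]
        refine commutator_mono ?_ ?_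
        · rintro _ ⟨a, ha, rfl⟩; exact hXM g hg a ha
        · rw [MonoidHom.map_zpowers, zpowers_le]
          show g * z * g⁻¹ ∈ _
          rw [← (hZc z hz g hg).eq, mul_inv_cancel_right]
          exact mem_zpowers z
      exact h1 (mem_map_of_mem _ hr)
    have e1 : ⁅⁅M, zpowers z⁆, X⁆ = ⊥ := commutator_eq_bot_iff_le_centralizer.2 hC
    have e2 : ⁅⁅zpowers z, X⁆, M⁆ = ⊥ := by
      rw [commutator_eq_bot_iff_le_centralizer.2 (zpowers_le.2 (mem_centralizer_iff.2 fun g hg =>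
        (hZc z hz g hg).symm.eq)), commutator_bot_left]
    have e3 := commutator_commutator_eq_bot_of_rotate (H₁ := X) (H₂ := M) (H₃ := zpowers z) e1 e2
    rw [commutator_comm X M, hMX, commutator_eq_bot_iff_le_centralizer] at e3
    exact fun r hr => mem_centralizer_iff.1 (e3 hr) z (mem_zpowers z)
  -- the trace vanishes
  set z := s * s * d with hzd
  have hssd : s * s = z * d := by rw [hzd, mul_assoc, hd2, mul_one]
  have hdinv : d⁻¹ = d := inv_eq_of_mul_eq_one_right hd2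
  have hsd' : s * d = d * s := by
    have h1 : Commute s (z * d) := hssd ▸ (Commute.refl s).mul_right (Commute.refl s)
    have h2 : Commute s z := (hZc z hsd s hs).symm
    have h3 := h2.inv_right.mul_right h1
    rwa [inv_mul_cancel_left] at h3
  have hss : ∀ r ∈ M, s * s * r * (s * s)⁻¹ = d * r * d := fun r hr => by
    have h1 : d * r * d ∈ M := by simpa [hdinv] using hXM d hd r hr
    rw [hssd, show z * d * r * (z * d)⁻¹ = z * (d * r * d⁻¹) * z⁻¹ by group, hdinv,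
      (hzM z hsd _ h1).eq, mul_inv_cancel_right]
  have hsss : ∀ r ∈ M, s * s * s * r * (s * s * s)⁻¹ = s⁻¹ * r * s := fun r hr => by
    have h1 : s⁻¹ * r * s ∈ M := by simpa using hXM s⁻¹ (X.inv_mem hs) r hr
    have e : s * s * (s * s) = z * z := by
      rw [hssd]
      calc z * d * (z * d) = z * (d * z) * d := by group
        _ = z * (z * d) * d := by rw [← (hZc z hsd d hd).eq]
        _ = z * z * (d * d) := by group
        _ = z * z := by rw [hd2, mul_one]
    rw [show s * s * s * r * (s * s * s)⁻¹ = s * s * (s * s) * (s⁻¹ * r * s) * (s * s * (s * s))⁻¹ by group,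
      e, ((hzM z hsd _ h1).mul_left (hzM z hsd _ h1)).eq, mul_inv_cancel_right]
  have htr : ∀ r ∈ M, r * (s * r * s⁻¹) * (s * s * r * (s * s)⁻¹) * (s * s * s * r * (s * s * s)⁻¹) ∈ K := by
    intro r hr
    rw [hss r hr, hsss r hr]
    set u := d * r * d with hu
    set v := s⁻¹ * r * s with hv
    set w := s * r * s⁻¹ with hw'
    have huM : u ∈ M := by simpa [hu, hdinv] using hXM d hd r hr
    have hvM : v ∈ M := by simpa [hv] using hXM s⁻¹ (X.inv_mem hs) r hr
    have hwM : w ∈ M := hXM s hs r hr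
    have hru : Commute r u := by
      have h1 : r⁻¹ * u * (r⁻¹ * u) = 1 := by
        have := hw r (hMQ hr)
        rwa [pow_two, show r⁻¹ * d * r * d = r⁻¹ * u by rw [hu]; group] at this
      have h2 : u * u = r * r := by
        have e : u * u = d * (r * r) * d⁻¹ := by
          rw [hu, hdinv, show d * r * d * (d * r * d) = d * r * (d * d) * r * d by group, hd2]; group
        rw [e, (hKX d hd _ (hsq r hr)).eq, mul_inv_cancel_right]
      have h3 : Commute u (r * r) := hKc u huM _ (hsq r hr)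
      show r * u = u * r
      calc r * u = r * r * (r⁻¹ * u) := by group
        _ = r * r * (r⁻¹ * u)⁻¹ := by rw [← mul_eq_one_iff_eq_inv.1 h1]
        _ = r * r * u⁻¹ * r := by group
        _ = u * u * u⁻¹ * r := by rw [h2]
        _ = u * r := by group
    have hwv : Commute (w⁻¹ * v) r := by
      set c := w * r * w⁻¹ * r⁻¹ with hc
      have hcK : c ∈ K := by
        rw [hc, show w * r * w⁻¹ * r⁻¹ = w * r * (w * r) * (r⁻¹ * (w⁻¹ * w⁻¹) * r⁻¹⁻¹) * (r⁻¹ * r⁻¹) by group]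
        refine K.mul_mem (K.mul_mem (hsq _ (M.mul_mem hwM hr)) ?_) (hsq _ (M.inv_mem hr))
        exact hKinv r⁻¹ (fun b hb => M.mul_mem (M.mul_mem (M.inv_mem hr) hb) (M.inv_mem (M.inv_mem hr))) _
          (hsq _ (M.inv_mem hwM))
      have h1 : r * v * r⁻¹ * v⁻¹ = c := by
        have e : s⁻¹ * c * s⁻¹⁻¹ = c := by rw [(hKX _ (X.inv_mem hs) c hcK).eq, mul_inv_cancel_right]
        rw [← e, hc, hw', hv]
        group
      have hinvol : c * c = 1 := by
        have e1 : w * c * w⁻¹ = c := by rw [(hKc w hwM c hcK).eq, mul_inv_cancel_right]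
        have e2 : w * w * r = r * (w * w) := (hKc r hr _ (hsq w hwM)).symm.eq
        calc c * c = w * c * w⁻¹ * c := by rw [e1]
          _ = w * w * r * w⁻¹ * r⁻¹ * w⁻¹ * c := by rw [hc]; group
          _ = r * (w * w) * w⁻¹ * r⁻¹ * w⁻¹ * c := by rw [e2]
          _ = 1 := by rw [hc]; group
      have h2 : v * r * v⁻¹ * r⁻¹ = c := by
        calc v * r * v⁻¹ * r⁻¹ = (r * v * r⁻¹ * v⁻¹)⁻¹ := by group
          _ = c⁻¹ := by rw [h1]
          _ = c := (eq_inv_of_mul_eq_one_left hinvol).symm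
      show w⁻¹ * v * r = r * (w⁻¹ * v)
      calc w⁻¹ * v * r = w⁻¹ * (v * r * v⁻¹ * r⁻¹) * (r * v) := by group
        _ = w⁻¹ * c * (r * v) := by rw [h2]
        _ = r * (w⁻¹ * v) := by rw [hc]; group
    have hkeq : r⁻¹ * d * r * (s⁻¹ * (r⁻¹ * d * r) * s) = r⁻¹ * u * (w⁻¹ * v) := by
      have e : d * s⁻¹ * r⁻¹ * (s * d) = w⁻¹ := by
        have h1 : d * s⁻¹ = s * z⁻¹ := by
          calc d * s⁻¹ = d * s * (s⁻¹ * s⁻¹) := by group
            _ = s * d * (s⁻¹ * s⁻¹) := by rw [hsd']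
            _ = s * z⁻¹ := by rw [hzd, mul_inv_rev, hdinv]; group
        have h2 : s * d = z * s⁻¹ := by
          calc s * d = s * (d * s) * s⁻¹ := by group
            _ = s * (s * d) * s⁻¹ := by rw [← hsd']
            _ = z * s⁻¹ := by rw [hzd]; group
        rw [h1, h2, hw', show s * z⁻¹ * r⁻¹ * (z * s⁻¹) = s * (z⁻¹ * r⁻¹ * z) * s⁻¹ by group,
          show z⁻¹ * r⁻¹ * z = r⁻¹ by
            rw [((hzM z hsd r hr).inv_right.inv_left).eq, inv_mul_cancel_right]]
        group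
      rw [← e, hu, hv]
      calc r⁻¹ * d * r * (s⁻¹ * (r⁻¹ * d * r) * s)
          = r⁻¹ * (d * r * d) * (d⁻¹ * s⁻¹ * r⁻¹ * (d * s)) * (s⁻¹ * r * s) := by group
        _ = _ := by rw [hdinv, ← hsd', mul_assoc (r⁻¹ * (d * r * d))]
    have hk1 : r⁻¹ * u * (w⁻¹ * v) = 1 := by
      rw [← hkeq]
      refine hk r (hMQ hr) ?_
      rw [hkeq]
      exact (((Commute.refl r).inv_left).mul_left hru.symm).mul_left hwv
    have hvv : v = w * u⁻¹ * r := by
      calc v = w * u⁻¹ * r * (r⁻¹ * u * (w⁻¹ * v)) := by group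
        _ = _ := by rw [hk1, mul_one]
    rw [hvv, show r * w * u * (w * u⁻¹ * r) = r * (w * u * (w * u) * (u⁻¹ * u⁻¹)) * r⁻¹ * (r * r) by group]
    refine K.mul_mem (hKinv r (fun b hb => M.mul_mem (M.mul_mem hr hb) (M.inv_mem hr)) _ ?_) (hsq r hr)
    exact K.mul_mem (hsq _ (M.mul_mem hwM huM)) (hsq _ (M.inv_mem huM))
  -- conclusion
  have hzt : s * t = s * t * s⁻¹ * (t ^ 2)⁻¹ * t ^ 2 * s := by group
  have htM := trace_section hMp hKM hKc hKX hsq hXM hs ht (hZX hst) (hzM _ hst) ht5 hzt htr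
  set C := X ⊓ centralizer (M : Set Y) with hCdef
  have hZC : Z ≤ C := le_inf hZX fun z hz => mem_centralizer_iff.2 fun r hr => (hzM z hz r hr).symm.eq
  have hCn : ∀ g ∈ X, ∀ c ∈ C, g * c * g⁻¹ ∈ C := by
    intro g hg c hc
    refine ⟨X.mul_mem (X.mul_mem hg hc.1) (X.inv_mem hg), mem_centralizer_iff.2 fun r hr => ?_⟩
    have h1 := mem_centralizer_iff.1 hc.2 (g⁻¹ * r * g⁻¹⁻¹) (hXM g⁻¹ (X.inv_mem hg) r hr)
    calc r * (g * c * g⁻¹) = g * (g⁻¹ * r * g⁻¹⁻¹ * c) * g⁻¹ := by group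
      _ = g * (c * (g⁻¹ * r * g⁻¹⁻¹)) * g⁻¹ := by rw [h1]
      _ = g * c * g⁻¹ * r := by group
  rcases hmax C inf_le_left hCn with h | h
  · exact htZ (h ⟨ht, mem_centralizer_iff.2 fun r hr => (htM r hr).symm.eq⟩)
  · rw [sup_eq_left.2 hZC] at h
    exact hMne fun g hg r hr => (mem_centralizer_iff.1 ((h.ge hg).2) r hr).symm

end Cfsg.Agent.OddTranspC
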