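import Cfsg.Agent.Lib.OddTranspC.Line
import Cfsg.Agent.Lib.OddTranspC.SzFacts
import Cfsg.Agent.Lib.OddTranspC.Trace
import Cfsg.Agent.Lib.OddTranspC.NotSz

/-!
# No Suzuki line when no pair crosses

Without crossing pairs commuting is transitive on every `D_a`.  Elements of the line group fixing `d`
act on `<C(d)>` trivially modulo its largest normal 2-subgroup; hence the line group centralises the
largest normal 2-subgroup of the group on `C(d) ∩ C(a)` and `x`, and averaging over a group of odd
order gives a commuting triple through members of two classes.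
-/

set_option autoImplicit false
set_option linter.unusedSectionVars false

namespace Cfsg.Agent.OddTranspC

open Cfsg.Agent.GenA.OddTransp (OT Tri sq_mul split two cconj conj_conj commute_of_fix)
open Cfsg.Agent.OddTranspX (sameCls Concl)
open Subgroup (closure)

universe u

variable {G : Type u} [Group G] [Finite G] {D : Set G}

theorem four_of_commute {u p q : G} (huu : u * u = 1) (hp : p * p = 1) (hq : q * q = 1)
    (hpq : Commute p q) (h1 : Commute p (u * p * u)) (h2 : Commute q (u * q * u))
    (h3 : Commute p (u * q * u)) (h4 : Commute q (u * p * u)) : (u * (p * q)) ^ 4 = 1 := by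
  have hqq : p * q * (p * q) = 1 := sq_mul hp hq hpq
  have h5 : Commute (u * p * u) (u * q * u) := cconj huu hpq
  have hsq : (u * (p * q)) ^ 2 = u * p * u * (u * q * u) * (p * q) := by
    rw [pow_two, show u * p * u * (u * q * u) * (p * q) = u * p * (u * u) * q * u * (p * q) by
      simp only [mul_assoc], huu, mul_one]
    simp only [mul_assoc]
  have hc : Commute (u * p * u * (u * q * u)) (p * q) :=
    (h1.symm.mul_right h4.symm).mul_left (h3.symm.mul_right h2.symm)
  have hii : ∀ w, w * w = 1 → u * w * u * (u * w * u) = 1 := fun w hw => by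
    rw [show u * w * u * (u * w * u) = u * w * (u * u) * w * u by simp only [mul_assoc], huu,
      mul_one, mul_assoc u w w, hw, mul_one, huu]
  rw [show 4 = 2 * 2 from rfl, pow_mul, hsq, hc.mul_pow, pow_two (p * q), hqq, mul_one, pow_two,
    sq_mul (hii p hp) (hii q hq) h5]

/-- The largest normal 2-subgroup of `<C(d)>`. -/
def starCore (D : Set G) (d : G) : Subgroup G :=
  (Cfsg.pCore 2 (closure (cset D d))).map (closure (cset D d)).subtype

theorem NoCross.comm_trans (hno : NoCross D) {d f g k : G} (hd : d ∈ D) (hf : f ∈ Dd D d)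
    (hg : g ∈ Dd D d) (hk : k ∈ Dd D d) (hfg : Commute f g) (hgk : Commute g k) : Commute f k := by
  by_contra hfk
  exact hno f k ⟨hf.1, hk.1, hfk, fun e => hfk (not_commute_r0 e), d,
    ⟨hd, hf.2.1.symm, hk.2.1.symm⟩, g, ⟨hg.1, hfg, hgk.symm⟩, hg.2.1, fun e => hg.2.2 e.2⟩

section

variable (hW : World D) (hgen : closure D = ⊤) (hO : Cfsg.pCore 2 G = ⊥) (hno : NoCross D)
  {d x : G} (hd : d ∈ D) (hx : x ∈ D) (hdx : ¬ Commute d x)
include hW hgen hO hno hd hx hdx

omit hgen hO hno hx hdx in
theorem Dd_fix {g f : G} (hgd : Commute g d) (hf : f ∈ Dd D d) : g * f * g⁻¹ ∈ Dd D d := by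
  have h1 : g * f * g⁻¹ ∈ Dd D (g * d * g⁻¹) := by rw [Dd_conj hW.toOT]; exact ⟨f, hf, rfl⟩
  rwa [conj_eq_self hgd] at h1

/-- Elements of the line group fixing `d` fix each set of commuting members around `d`. -/
theorem line_fix {g f : G} (hg : g ∈ lineGrp D d x) (hgd : Commute g d) (hf : f ∈ Dd D d) :
    Commute f (g * f * g⁻¹) := by
  obtain ⟨a, ha, had, hax, haf⟩ := hW.common_three hd hx hf.1 hf.2.1
  have hsub := sameCls_subset_Dd ha hx hdx had hax
  have hle : lineGrp D d x ≤ Subgroup.centralizer {a} := by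
    refine (Subgroup.closure_le _).2 ?_
    rintro e (he | rfl)
    · exact Subgroup.mem_centralizer_singleton_iff.2 (hsub he).2.1.eq.symm
    · exact Subgroup.mem_centralizer_singleton_iff.2 hax.eq.symm
  have hga : Commute g a := (Subgroup.mem_centralizer_singleton_iff.1 (hle hg))
  have haS : a ∈ Dd D d := ⟨ha, had.symm, fun h => hdx ((h.2 x hx).1 hax)⟩
  have h1 : Commute a (g * f * g⁻¹) := by
    have := (commute_conj_iff g).2 haf
    rwa [conj_eq_self hga] at this
  exact hno.comm_trans hd hf haS (Dd_fix hW hd hgd hf) haf.symm h1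

omit hgen hO hno hx hdx in
theorem cset_centralizes {g : G} (hg : g ∈ closure (cset D d)) : Commute g d := by
  have hle : closure (cset D d) ≤ Subgroup.centralizer {d} :=
    (Subgroup.closure_le _).2 fun e he => Subgroup.mem_centralizer_singleton_iff.2 he.2.symm.eq
  exact Subgroup.mem_centralizer_singleton_iff.1 (hle hg)

omit hgen hO hno hx hdx in
theorem mem_core_of_class {e : G} (he : e ∈ sameCls D d) : e ∈ starCore D d := by
  have heU : e ∈ closure (cset D d) :=
    Subgroup.subset_closure ⟨he.1, (he.2 e he.1).1 (Commute.refl e)⟩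
  refine ⟨⟨e, heU⟩, ?_, rfl⟩
  have hc : (⟨e, heU⟩ : closure (cset D d)) ∈ Subgroup.center (closure (cset D d)) := by
    refine Subgroup.mem_center_iff.2 fun g => Subtype.ext ?_
    have hle : closure (cset D d) ≤ Subgroup.centralizer {e} :=
      (Subgroup.closure_le _).2 fun c hc =>
        Subgroup.mem_centralizer_singleton_iff.2 ((he.2 c hc.1).2 hc.2).symm.eq
    exact Subgroup.mem_centralizer_singleton_iff.1 (hle g.2)
  haveI : (Subgroup.zpowers (⟨e, heU⟩ : closure (cset D d))).Normal := ⟨fun n hn g => by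
    rw [Subgroup.mem_center_iff.1 (Subgroup.zpowers_le.2 hc hn) g, mul_inv_cancel_right]
    exact hn⟩
  refine Cores.le_pCore (p := 2) ?_ (Subgroup.mem_zpowers _)
  refine IsPGroup.of_card (n := 1) ?_
  rw [Nat.card_zpowers, ← orderOf_injective (closure (cset D d)).subtype Subtype.val_injective,
    pow_one]
  exact hW.ord e he.1

omit hgen hO hno hx hdx in
/-- A member in the core of `<C(d)>` is in the class of `d`. -/
theorem class_of_mem_core {e : G} (he : e ∈ D) (heN : e ∈ starCore D d) : e ∈ sameCls D d := by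
  have hN : IsPGroup 2 (starCore D d) := (Cores.pCore_isPGroup 2).map _
  refine hW.mem_sameCls hd he fun y hy hdy => commute_of_normalized hW.toOT hN he hy heN ?_
  have hyU : y ∈ closure (cset D d) := Subgroup.subset_closure ⟨hy, hdy⟩
  obtain ⟨e', he', rfl⟩ := heN
  have hn : (Cfsg.pCore 2 (closure (cset D d))).Normal := inferInstance
  exact ⟨⟨y, hyU⟩ * e' * ⟨y, hyU⟩⁻¹, hn.conj_mem e' he' _, rfl⟩

/-- A member around `d` agrees with its images under the line group modulo the core. -/
theorem prod_mem_core {g f : G} (hg : g ∈ lineGrp D d x) (hgd : Commute g d) (hf : f ∈ D)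
    (hdf : Commute d f) : f * (g * f * g⁻¹) ∈ starCore D d := by
  by_cases hfE : f ∈ sameCls D d
  · refine mul_mem (mem_core_of_class hW hd hfE) (mem_core_of_class hW hd ?_)
    have : g * f * g⁻¹ ∈ sameCls D (g * d * g⁻¹) := by
      rw [sameCls_conj hW.toOT]; exact ⟨f, hfE, rfl⟩
    rwa [conj_eq_self hgd] at this
  have hfS : f ∈ Dd D d := ⟨hf, hdf, hfE⟩
  set i := g * f * g⁻¹ with hi
  have hiS : i ∈ Dd D d := Dd_fix hW hd hgd hfS
  have hfi : Commute f i := line_fix hW hgen hO hno hd hx hdx hg hgd hfS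
  set v := f * i with hv
  have hvv : v * v = 1 := sq_mul (hW.sq hf) (hW.sq hiS.1) hfi
  have hvU : v ∈ closure (cset D d) := mul_mem (Subgroup.subset_closure ⟨hf, hdf⟩)
    (Subgroup.subset_closure ⟨hiS.1, hiS.2.1⟩)
  by_cases hv1 : v = 1
  · rw [hv1]; exact one_mem _
  by_contra hnot
  have hord : orderOf (⟨v, hvU⟩ : closure (cset D d)) = 2 :=
    orderOf_eq_prime (Subtype.ext (by rw [SubgroupClass.coe_pow, pow_two]; exact hvv))
      fun e => hv1 (congrArg Subtype.val e)
  obtain ⟨⟨h, hhU⟩, hh1, hodd, hinv⟩ := Involutions.BaerSuzuki.exists_inverted_odd _ hord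
    (fun N hN hp hmem => hnot ⟨_, Cores.le_pCore (hN := hN) hp hmem, rfl⟩)
  rw [← orderOf_injective (closure (cset D d)).subtype Subtype.val_injective] at hodd
  have hinv' : v * h * v⁻¹ = h⁻¹ := congrArg Subtype.val hinv
  set p := h * f * h⁻¹ with hp
  set q := h * i * h⁻¹ with hq
  have hhd : Commute h d := cset_centralizes hW hd hhU
  have hpS : p ∈ Dd D d := Dd_fix hW hd hhd hfS
  have hqS : q ∈ Dd D d := Dd_fix hW hd hhd hiS
  have hpq : Commute p q := (commute_conj_iff h).2 hfi
  have hvd : Commute v d := cset_centralizes hW hd hvU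
  have hfix : ∀ {w}, w ∈ Dd D d → v * w * v ∈ Dd D d := fun {w} hw => by
    have := Dd_fix hW hd hvd hw
    rwa [inv_eq_of_mul_eq_one_right hvv] at this
  have h4 : (v * (p * q)) ^ 4 = 1 := by
    by_cases hfp : Commute f p
    · have hip : Commute i p := hno.comm_trans hd hiS hfS hpS hfi.symm hfp
      have hfq : Commute f q := hno.comm_trans hd hfS hpS hqS hfp hpq
      have hiq : Commute i q := hno.comm_trans hd hiS hpS hqS hip hpq
      have h1 : Commute v (p * q) := (hfp.mul_left hip).mul_right (hfq.mul_left hiq)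
      rw [show 4 = 2 * 2 from rfl, pow_mul, h1.mul_pow, pow_two v, hvv, pow_two (p * q),
        sq_mul (hW.sq hpS.1) (hW.sq hqS.1) hpq, one_mul, one_pow]
    · have hbad : ∀ w ∈ Dd D d, Commute w (v * w * v) := by
        intro w hw
        have hw₁ : g⁻¹ * w * g⁻¹⁻¹ ∈ Dd D d := Dd_fix hW hd hgd.inv_left hw
        have h1 : Commute w (g⁻¹ * w * g⁻¹⁻¹) :=
          line_fix hW hgen hO hno hd hx hdx (inv_mem hg) hgd.inv_left hw
        set w₂ := f * (g⁻¹ * w * g⁻¹⁻¹) * f with hw₂
        have hfd : Commute f d := hdf.symm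
        have hfw : ∀ {z}, z ∈ Dd D d → f * z * f ∈ Dd D d := fun {z} hz => by
          have := Dd_fix hW hd hfd hz
          rwa [hW.inv hf] at this
        have h2 : Commute (f * w * f) w₂ := cconj (hW.sq hf) h1
        have h3 : Commute w₂ (g * w₂ * g⁻¹) :=
          line_fix hW hgen hO hno hd hx hdx hg hgd (hfw hw₁)
        have e : g * w₂ * g⁻¹ = i * w * i := by
          simp only [hi, hw₂, inv_inv, mul_assoc]
        rw [e] at h3
        have h5 : Commute (f * w * f) (i * w * i) := by
          refine hno.comm_trans hd (hfw hw) (hfw hw₁) ?_ h2 h3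
          have := Dd_fix hW hd hiS.2.1.symm hw
          rwa [hW.inv hiS.1] at this
        have h6 := cconj (hW.sq hf) h5
        rw [conj_conj (hW.sq hf)] at h6
        have e2 : f * (i * w * i) * f = v * w * v := by
          simp only [hv, mul_assoc]
          rw [← mul_assoc f i, hfi.eq]
          simp only [mul_assoc]
          rw [← mul_assoc i f, ← hfi.eq]
          simp only [mul_assoc]
        rwa [e2] at h6
      exact four_of_commute hvv (hW.sq hpS.1) (hW.sq hqS.1) hpq (hbad p hpS) (hbad q hqS)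
        (hno.comm_trans hd hpS hqS (hfix hqS) hpq (hbad q hqS))
        (hno.comm_trans hd hqS hpS (hfix hpS) hpq.symm (hbad p hpS))
  have he : v * (p * q) = h⁻¹ * h⁻¹ := by
    have e1 : p * q = h * v * h⁻¹ := by simp [hp, hq, hv, mul_assoc]
    rw [e1, ← hinv', inv_eq_of_mul_eq_one_right hvv]
    simp only [mul_assoc]
  rw [he] at h4
  apply hh1
  refine Subtype.ext (RootInvolutions.Basic.eq_one_of_odd (g := h) hodd (n := 3) (inv_eq_one.1 ?_))
  rw [← inv_pow, show (2 ^ 3 : ℕ) = 2 * 4 from rfl, pow_mul, pow_two]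
  exact h4

end

end Cfsg.Agent.OddTranspC
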