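import Cfsg.Agent.Lib.OddTranspC.Relations

/-!
# Primitivity and connectedness of the sets `D_u`

By induction on the group order: an admissible relation with connected sets `Q` and a non-commuting
pair inside a class relates all members; hence every `D_u` is connected in the non-commuting graph.
-/

set_option autoImplicit false

namespace Cfsg.Agent.OddTranspC

open Cfsg.Agent.GenA.OddTransp (OT Tri tri_third)
open Cfsg.Agent.OddTranspX (sameCls)
open Subgroup (closure)

universe u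

variable {G : Type u} [Group G] {D : Set G} {r : G → G → Prop}

/-- Crossing pairs exist in a non-trivial admissible relation with non-commuting related pairs. -/
def KillStmt (G : Type u) [Group G] : Prop :=
  ∀ (D : Set G) (r : G → G → Prop), World D → Rel D r → (∃ a ∈ D, ∃ b ∈ D, ¬ r a b) →
    (∃ a b, r a b ∧ ¬ Commute a b) → ∃ x z, Cross D r x z

/-- An admissible relation with connected `Q` and a non-commuting related pair is universal. -/
def PrimStmt (G : Type u) [Group G] : Prop :=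
  ∀ (D : Set G) (r : G → G → Prop), World D → Rel D r → (∀ u ∈ D, NConn (Q D r u)) →
    (∃ a b, r a b ∧ ¬ Commute a b) → ∀ a ∈ D, ∀ b ∈ D, r a b

/-- The sets `D_u` are connected in the non-commuting graph. -/
def SCStmt (G : Type u) [Group G] : Prop :=
  ∀ D : Set G, World D → ∀ u ∈ D, NConn (Dd D u)

theorem Rel.Q_inv (h : OT D) (hr : Rel D r) {u : G} :
    ∀ a ∈ Q D r u, ∀ g ∈ Q D r u, g * a * g⁻¹ ∈ Q D r u := by
  rintro a ⟨ha, hua, hna⟩ g ⟨-, hug, -⟩
  have e : g * u * g⁻¹ = u := conj_eq_self hug.symm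
  refine ⟨h.conj a ha g, ?_, ?_⟩
  · rw [← e]; exact (commute_conj_iff g).2 hua
  · rw [← e]; exact fun e' => hna ((hr.conj_iff g).1 e')

theorem Rel.Q_tri (h : OT D) (hr : Rel D r) {u : G} (hu : u ∈ D) {a b : G} (ha : a ∈ Q D r u)
    (t : Tri D a b) : Tri (Q D r u) a b :=
  ⟨hr.Q_union ha hu (hr.tri ha.1 t), t.2.1,
    hr.Q_union ha hu (hr.tri ha.1 (tri_third h ha.1 t))⟩

/-- The induction step for primitivity. -/
theorem prim_step [Finite G] (hkill : KillStmt G)
    (IH : ∀ (H : Type u) [Group H] [Finite H], Nat.card H < Nat.card G → PrimStmt H ∧ SCStmt H) :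
    PrimStmt G := by
  suffices hmain : ∀ (n : ℕ) (D : Set G) (r : G → G → Prop),
      {p : G × G | p.1 ∈ D ∧ p.2 ∈ D ∧ ¬ r p.1 p.2}.ncard ≤ n → World D → Rel D r →
      (∀ u ∈ D, NConn (Q D r u)) → (∃ a b, r a b ∧ ¬ Commute a b) → ∀ a ∈ D, ∀ b ∈ D, r a b from
    fun D r => hmain _ D r le_rfl
  intro n
  induction n using Nat.strong_induction_on with
  | _ n ihn =>
    intro D r hn hW hr hQ hnc a₀ ha₀ b₀ hb₀
    by_contra hne
    obtain ⟨x, z, hxz⟩ := hkill D r hW hr ⟨a₀, ha₀, b₀, hb₀, hne⟩ hnc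
    have hr' := coarse_rel hW hr
    have huniv : ∀ a ∈ D, ∀ b ∈ D, coarse D r a b := by
      refine ihn _ ?_ D _ le_rfl hW hr' (fun u hu a ha b hb => ?_) ?_
      · refine lt_of_lt_of_le (Set.ncard_lt_ncard (t := {p : G × G | p.1 ∈ D ∧ p.2 ∈ D ∧ ¬ r p.1 p.2})
          ⟨fun p hp => ⟨hp.1, hp.2.1, fun e => hp.2.2 (coarse_of_rel hr e)⟩, fun hsub => ?_⟩
          (Set.toFinite _)) hn
        exact (hsub (show (x, z) ∈ {p : G × G | p.1 ∈ D ∧ p.2 ∈ D ∧ ¬ r p.1 p.2} from
          ⟨hxz.1, hxz.2.1, hxz.2.2.2.1⟩)).2.2 (coarse_of_cross hxz)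
      · have hsub : ∀ y ∈ Q D (coarse D r) u, y ∈ Q D r u :=
          fun y hy => ⟨hy.1, hy.2.1, fun e => hy.2.2 (coarse_of_rel hr e)⟩
        suffices key : ∀ p, Relation.ReflTransGen (NAdj (Q D r u)) a p →
            p ∈ Q D (coarse D r) u ∧ Relation.ReflTransGen (NAdj (Q D (coarse D r) u)) a p from
          (key b (hQ u hu a (hsub a ha) b (hsub b hb))).2
        intro p hp
        induction hp with
        | refl => exact ⟨ha, .refl⟩
        | @tail q p _ hqp ih =>
          have hp' : p ∈ Q D (coarse D r) u := ⟨hqp.2.1.1, hqp.2.1.2.1, fun e =>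
            hqp.2.2 (hr'.ax ih.1.1 e ih.1.2.2 ih.1.2.1).symm⟩
          exact ⟨hp', ih.2.tail ⟨ih.1, hp', hqp.2.2⟩⟩
      · obtain ⟨a, b, hab, hc⟩ := hnc
        exact ⟨a, b, coarse_of_rel hr hab, hc⟩
    have hcross : ∀ a ∈ D, ∀ b ∈ D, ¬ Commute a b → ¬ r a b → Cross D r a b :=
      fun a ha b hb hab hn => (coarse_cases hW hr (huniv a ha b hb) hab).resolve_left hn
    obtain ⟨hx, hz, hncxz, hxz', c, hc, c', hc', hcc, hcn⟩ := id hxz
    set S := Q D r c with hS
    have hxS : x ∈ S :=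
      ⟨hx, hc.2.1.symm, fun e => hr.not_rel_of_L hz hncxz hxz' hc (hr.symm e)⟩
    have hzS : z ∈ S := ⟨hz, hc.2.2.symm, fun e => hr.not_rel_of_L hx (fun e => hncxz e.symm)
      (fun e => hxz' (hr.symm e)) (L_symm hc) (hr.symm e)⟩
    have hc'S : c' ∈ S := ⟨hc'.1, hcc, hcn⟩
    have hSD : S ⊆ D := fun a ha => ha.1
    have hcomm : ∀ a ∈ S, ∀ b ∈ S, ¬ r a b →
        Relation.ReflTransGen (CAdj S) a b := by
      intro a ha b hb hab
      by_cases hc0 : Commute a b
      · exact .single ⟨ha, hb, hc0⟩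
      obtain ⟨v, hv, hvc, hvn⟩ := (hcross a ha.1 b hb.1 hc0 hab).partner hW.toOT hr
        (c := c) ⟨hc.1, ha.2.1.symm, hb.2.1.symm⟩
      have hvS : v ∈ S := ⟨hv.1, hvc, hvn⟩
      exact Relation.ReflTransGen.trans (.single ⟨ha, hvS, hv.2.1⟩)
        (.single ⟨hvS, hb, hv.2.2.symm⟩)
    have hWH : World ((↑) ⁻¹' S : Set (closure S)) := by
      refine hW.restrict hSD (hr.Q_inv hW.toOT) (fun a ha => ?_) (hQ c hc.1) (fun a ha b hb => ?_)
      · obtain ⟨b, t⟩ := hW.tri a ha.1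
        exact ⟨b, hr.Q_tri hW.toOT hc.1 ha t⟩
      · by_cases hab : r a b
        · by_cases hax : r a x
          · have haz : ¬ r a z := fun e => hxz' (hr.trans (hr.symm hax) e)
            exact (hcomm a ha z hzS haz).trans
              (hcomm z hzS b hb fun e => haz (hr.trans hab (hr.symm e)))
          · exact (hcomm a ha x hxS hax).trans
              (hcomm x hxS b hb fun e => hax (hr.trans hab (hr.symm e)))
        · exact hcomm a ha b hb hab
    let rH : closure S → closure S → Prop := fun p q => (p : G) ∈ S ∧ (q : G) ∈ S ∧ r p q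
    have hot := OT_restrict hW.toOT hSD (hr.Q_inv hW.toOT)
    have hrH : Rel ((↑) ⁻¹' S : Set (closure S)) rH :=
      { mem := fun h => ⟨h.1, h.2.1⟩
        refl := fun ha => ⟨ha, ha, hr.refl ha.1⟩
        symm := fun h => ⟨h.2.1, h.1, hr.symm h.2.2⟩
        trans := fun h h' => ⟨h.1, h'.2.1, hr.trans h.2.2 h'.2.2⟩
        conj := fun h g => ⟨hot.conj _ h.1 g, hot.conj _ h.2.1 g, hr.conj h.2.2 (g : G)⟩
        tri := fun ha t => ⟨ha, t.1, hr.tri (hSD ha)
          ⟨hSD t.1, congrArg Subtype.val t.2.1, hSD t.2.2⟩⟩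
        ax := fun {p q y} hy hpq hn hcm => Subtype.ext
          (hr.ax (hSD hy) hpq.2.2 (fun e => hn ⟨hpq.1, hy, e⟩) (congrArg Subtype.val hcm)) }
    have hlt : Nat.card (closure S) < Nat.card G :=
      closure_lt_of_centralized hW hc.1 fun a ha => ha.2.1
    -- every class inside `S` has a non-commuting pair
    have hpair : ∀ w ∈ S, ∃ w' ∈ S, r w w' ∧ ¬ Commute w w' := by
      intro w hw
      obtain ⟨a, b, hab, hc0⟩ := hnc
      obtain ⟨g, hg⟩ := hW.conjugate (hr.mem hab).1 hw.1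
      have h1 : r w (g * b * g⁻¹) := hg ▸ hr.conj hab g
      exact ⟨g * b * g⁻¹, hr.Q_union hw hc.1 h1, h1,
        fun e => hc0 ((commute_conj_iff g).1 (hg.symm ▸ e))⟩
    refine hxz' ((IH (closure S) hlt).1 _ rH hWH hrH (fun w hw p hp q hq => ?_) ?_
      ⟨x, Subgroup.subset_closure hxS⟩ hxS ⟨z, Subgroup.subset_closure hzS⟩ hzS).2.2
    · obtain ⟨w', hw', hww', hnw⟩ := hpair _ hw
      have hsub : ∀ y ∈ Q ((↑) ⁻¹' S : Set (closure S)) rH w,
          y ∈ Dd ((↑) ⁻¹' S : Set (closure S)) w := by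
        intro y hy
        refine ⟨hy.1, hy.2.1, fun hmem => hnw ?_⟩
        have h1 : Commute w' (y : G) := hr.ax (hSD hy.1) hww'
          (fun e => hy.2.2 ⟨hw, hy.1, e⟩) (congrArg Subtype.val hy.2.1)
        exact congrArg Subtype.val
          ((hmem.2 ⟨w', Subgroup.subset_closure hw'⟩ hw').1 (Subtype.ext h1.symm))
      suffices key : ∀ t, Relation.ReflTransGen (NAdj (Dd ((↑) ⁻¹' S : Set (closure S)) w)) p t →
          t ∈ Q ((↑) ⁻¹' S : Set (closure S)) rH w ∧
          Relation.ReflTransGen (NAdj (Q ((↑) ⁻¹' S : Set (closure S)) rH w)) p t from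
        (key q ((IH (closure S) hlt).2 _ hWH w hw p (hsub p hp) q (hsub q hq))).2
      intro t ht
      induction ht with
      | refl => exact ⟨hp, .refl⟩
      | @tail s t _ hst ih =>
        have ht' : t ∈ Q ((↑) ⁻¹' S : Set (closure S)) rH w := ⟨hst.2.1.1, hst.2.1.2.1, fun e =>
          hst.2.2 (hrH.ax ih.1.1 e ih.1.2.2 ih.1.2.1).symm⟩
        exact ⟨ht', ih.2.tail ⟨ih.1, ht', hst.2.2⟩⟩
    · obtain ⟨w', hw', hww', hnw⟩ := hpair c' hc'S
      exact ⟨⟨c', Subgroup.subset_closure hc'S⟩, ⟨w', Subgroup.subset_closure hw'⟩,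
        ⟨hc'S, hw', hww'⟩, fun e => hnw (congrArg Subtype.val e)⟩

/-- The component of `p` in the non-commuting graph of `S`. -/
def comp (S : Set G) (p : G) : Set G := {q | q ∈ S ∧ Relation.ReflTransGen (NAdj S) p q}

theorem exists_nc_Dd [Finite G] (hW : World D) {u p : G} (hu : u ∈ D) (hp : p ∈ Dd D u) :
    ∃ q ∈ Dd D u, ¬ Commute p q := by
  by_contra hno
  push Not at hno
  refine hp.2.2 (hW.mem_sameCls hu hp.1 fun y hy huy => ?_)
  by_cases hy' : y ∈ sameCls D u
  · exact ((hy'.2 p hp.1).2 hp.2.1).symm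
  · exact hno y ⟨hy, huy, hy'⟩

/-- `D_u` is connected, given primitivity in the same group. -/
theorem sc_step [Finite G] (hprim : PrimStmt G) : SCStmt G := by
  intro D hW u₀ hu₀
  by_contra hno
  simp only [NConn, not_forall] at hno
  obtain ⟨p₁, hp₁, p₂, hp₂, hnp⟩ := hno
  -- a largest component
  obtain ⟨p, hp, hmax⟩ := Set.exists_max_image (Dd D u₀) (fun p => (comp (Dd D u₀) p).ncard)
    (Set.toFinite _) ⟨p₁, hp₁⟩
  set m := (comp (Dd D u₀) p).ncard with hm
  let inj : ∀ g : G, Function.Injective fun y : G => g * y * g⁻¹ :=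
    fun g a b e => mul_left_cancel (mul_right_cancel e)
  have hcompconj : ∀ (g u q : G), q ∈ Dd D u → comp (Dd D (g * u * g⁻¹)) (g * q * g⁻¹) =
      (fun y => g * y * g⁻¹) '' comp (Dd D u) q := by
    intro g u q hq
    rw [Dd_conj hW.toOT]
    ext y
    constructor
    · rintro ⟨⟨y', hy', rfl⟩, hpath⟩
      have h1 := hpath.lift (p := NAdj (Dd D u)) (fun z => g⁻¹ * z * g⁻¹⁻¹) (by
        rintro a b ⟨⟨a', ha', rfl⟩, ⟨b', hb', rfl⟩, hab⟩
        show NAdj (Dd D u) (g⁻¹ * (g * a' * g⁻¹) * g⁻¹⁻¹) (g⁻¹ * (g * b' * g⁻¹) * g⁻¹⁻¹)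
        rw [conj_inv_conj, conj_inv_conj]
        exact ⟨ha', hb', fun e => hab ((commute_conj_iff g).2 e)⟩)
      simp only [Function.onFun, conj_inv_conj] at h1
      exact ⟨y', ⟨hy', h1⟩, rfl⟩
    · rintro ⟨y', ⟨hy', hpath⟩, rfl⟩
      exact ⟨⟨y', hy', rfl⟩, hpath.lift (fun z => g * z * g⁻¹) fun a b hab =>
        ⟨⟨a, hab.1, rfl⟩, ⟨b, hab.2.1, rfl⟩, fun e => hab.2.2 ((commute_conj_iff g).1 e)⟩⟩
  have hle : ∀ x ∈ D, ∀ q ∈ Dd D x, (comp (Dd D x) q).ncard ≤ m := by
    intro x hx q hq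
    obtain ⟨g, rfl⟩ := hW.conjugate hu₀ hx
    rw [Dd_conj hW.toOT] at hq
    obtain ⟨q', hq', rfl⟩ := hq
    rw [hcompconj g u₀ q' hq', Set.ncard_image_of_injective _ (inj g)]
    exact hmax q' hq'
  -- `P` is the vertex set of a largest component of some `D_x`
  let IsMax : G → Set G → Prop := fun x P => ∃ q ∈ Dd D x, comp (Dd D x) q = P ∧ P.ncard = m
  have hex : ∀ x ∈ D, ∃ P, IsMax x P := by
    intro x hx
    obtain ⟨g, rfl⟩ := hW.conjugate hu₀ hx
    refine ⟨_, g * p * g⁻¹, ?_, rfl, ?_⟩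
    · rw [Dd_conj hW.toOT]; exact ⟨p, hp, rfl⟩
    · rw [hcompconj g u₀ p hp, Set.ncard_image_of_injective _ (inj g)]
  have hmem : ∀ {x P}, IsMax x P → P ⊆ Dd D x := by
    rintro x P ⟨q, -, rfl, -⟩ y hy; exact hy.1
  have hne : ∀ {x P}, IsMax x P → P.Nonempty := by
    rintro x P ⟨q, hq, rfl, -⟩; exact ⟨q, hq, .refl⟩
  have hclosed : ∀ {x P}, IsMax x P → ∀ a ∈ P, ∀ b ∈ Dd D x, ¬ Commute a b → b ∈ P := by
    rintro x P ⟨q, -, rfl, -⟩ a ha b hb hab
    exact ⟨hb, ha.2.tail ⟨ha.1, hb, hab⟩⟩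
  have hinner : ∀ {x P}, x ∈ D → IsMax x P → ∀ a ∈ P, ∃ b ∈ P, ¬ Commute a b := by
    intro x P hx hP a ha
    obtain ⟨b, hb, hab⟩ := exists_nc_Dd hW hx (hmem hP ha)
    exact ⟨b, hclosed hP a ha b hb hab, hab⟩
  -- a largest component is one for each member centralising it
  have htransfer : ∀ {x P}, x ∈ D → IsMax x P → ∀ w ∈ D, (∀ a ∈ P, Commute w a) → IsMax w P := by
    intro x P hx hP w hw hwP
    have hPw : P ⊆ Dd D w := by
      intro a ha
      refine ⟨(hmem hP ha).1, hwP a ha, fun hmem' => ?_⟩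
      obtain ⟨b, hb, hab⟩ := hinner hx hP a ha
      exact hab ((hmem'.2 b (hmem hP hb).1).2 (hwP b hb))
    obtain ⟨q, hq, rfl, hcard⟩ := hP
    have hqP : q ∈ comp (Dd D x) q := ⟨hq, .refl⟩
    have hsub : comp (Dd D x) q ⊆ comp (Dd D w) q := by
      intro a ha
      suffices h : Relation.ReflTransGen (NAdj (Dd D w)) q a from ⟨hPw ha, h⟩
      induction ha.2 with
      | refl => exact .refl
      | @tail b c hqb hbc ih =>
        exact (ih ⟨hbc.1, hqb⟩).tail
          ⟨hPw ⟨hbc.1, hqb⟩, hPw ⟨hbc.2.1, hqb.tail hbc⟩, hbc.2.2⟩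
    have heq := Set.eq_of_subset_of_ncard_le hsub
      ((hle w hw q (hPw hqP)).trans_eq hcard.symm) (Set.toFinite _)
    exact ⟨q, hPw hqP, heq.symm, hcard⟩
  have hU : ∀ {x P}, x ∈ D → IsMax x P → ∀ y ∈ D, Commute x y →
      y ∈ P ∨ ∀ a ∈ P, Commute y a := by
    intro x P hx hP y hy hxy
    refine or_iff_not_imp_left.2 fun hyP a ha => ?_
    by_cases hy' : y ∈ sameCls D x
    · exact (hy'.2 a (hmem hP ha).1).2 (hmem hP ha).2.1
    · by_contra hya
      exact hyP (hclosed hP a ha y ⟨hy, hxy, hy'⟩ fun e => hya e.symm)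
  -- there is only one largest component
  have huniq : ∀ {x P P'}, x ∈ D → IsMax x P → IsMax x P' → P = P' := by
    intro x P P' hx hP hP'
    by_contra hPP
    have hcom : ∀ a ∈ P, ∀ b ∈ P', Commute a b := by
      intro a ha b hb
      by_contra hab
      apply hPP
      obtain ⟨q, -, rfl, -⟩ := id hP
      obtain ⟨q', -, rfl, -⟩ := id hP'
      have hb' : b ∈ comp (Dd D x) q := hclosed hP a ha b hb.1 hab
      ext y
      constructor
      · exact fun hy => ⟨hy.1, hb.2.trans ((reflTransGen_inv NAdj.symm' hb'.2).trans hy.2)⟩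
      · exact fun hy => ⟨hy.1, hb'.2.trans ((reflTransGen_inv NAdj.symm' hb.2).trans hy.2)⟩
    -- everything commutes with `P` or lies in it
    have hcover : ∀ y ∈ D, y ∈ P ∨ ∀ a ∈ P, Commute y a := by
      intro y hy
      induction hW.cconn x hx y hy with
      | refl => exact hU hx hP x hx (Commute.refl x)
      | @tail s t _ hst ih =>
        rcases ih hst.1 with hs | hs
        · -- `s ∈ P` centralises `P'`
          have hs' := htransfer hx hP' s hst.1 (hcom s hs)
          rcases hU hst.1 hs' t hst.2.1 hst.2.2 with ht | ht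
          · exact Or.inr fun a ha => (hcom a ha t ht).symm
          · obtain ⟨b, hb⟩ := hne hP'
            -- `t` commutes with `b`, and `b` centralises `P`
            exact hU (hmem hP' hb).1 (htransfer hx hP b (hmem hP' hb).1 fun a ha => (hcom a ha b hb).symm)
              t hst.2.1 (ht b hb).symm
        · exact hU hst.1 (htransfer hx hP s hst.1 hs) t hst.2.1 hst.2.2
    obtain ⟨a, ha⟩ := hne hP
    suffices hin : ∀ y ∈ D, y ∈ P from
      (hmem hP (hin x hx)).2.2 (self_mem_sameCls hx)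
    intro y hy
    induction hW.nconn a (hmem hP ha).1 y hy with
    | refl => exact ha
    | @tail s t _ hst ih =>
      exact (hcover t hst.2.1).resolve_right fun h => hst.2.2 (h s (ih hst.1)).symm
  let r : G → G → Prop := fun a b => a ∈ D ∧ b ∈ D ∧ ∀ P, IsMax a P ↔ IsMax b P
  have hcls : ∀ {x P}, x ∈ D → IsMax x P → ∀ y ∈ D, (r x y ↔ ∀ a ∈ P, Commute y a) := by
    intro x P hx hP y hy
    constructor
    · exact fun h a ha => (hmem ((h.2.2 P).1 hP) ha).2.1
    · intro h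
      have hyP := htransfer hx hP y hy h
      exact ⟨hx, hy, fun P' => ⟨fun h' => huniq hx hP h' ▸ hyP, fun h' => huniq hy hyP h' ▸ hP⟩⟩
  have hr : Rel D r :=
    { mem := fun h => ⟨h.1, h.2.1⟩
      refl := fun ha => ⟨ha, ha, fun _ => Iff.rfl⟩
      symm := fun h => ⟨h.2.1, h.1, fun P => (h.2.2 P).symm⟩
      trans := fun h h' => ⟨h.1, h'.2.1, fun P => (h.2.2 P).trans (h'.2.2 P)⟩
      conj := fun {a b} h g => by
        obtain ⟨P, hP⟩ := hex a h.1
        have hcP : IsMax (g * a * g⁻¹) ((fun y => g * y * g⁻¹) '' P) := by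
          obtain ⟨q, hq, rfl, hcard⟩ := id hP
          refine ⟨g * q * g⁻¹, by rw [Dd_conj hW.toOT]; exact ⟨q, hq, rfl⟩, hcompconj g a q hq, ?_⟩
          rw [Set.ncard_image_of_injective _ (inj g), hcard]
        refine (hcls (hW.conj a h.1 g) hcP _ (hW.conj b h.2.1 g)).2 ?_
        rintro _ ⟨z, hz, rfl⟩
        exact (commute_conj_iff g).2 ((hcls h.1 hP b h.2.1).1 h z hz)
      tri := fun {a b} ha t => by
        obtain ⟨P, hP⟩ := hex a ha
        exact (hcls ha hP b t.1).2 fun z hz =>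
          ((tri_mem_sameCls hW.toOT ha t).2 z (hmem hP hz).1).2 (hmem hP hz).2.1
      ax := fun {c c' x} hx hcc hcx hc => by
        obtain ⟨P, hP⟩ := hex c hcc.1
        have hxP : x ∈ P := (hU hcc.1 hP x hx hc).resolve_right
          fun h => hcx ((hcls hcc.1 hP x hx).2 h)
        exact (hcls hcc.1 hP c' hcc.2.1).1 hcc x hxP }
  obtain ⟨P, hP⟩ := hex u₀ hu₀
  have huniv : ∀ a ∈ D, ∀ b ∈ D, r a b := by
    refine hprim D r hW hr (fun v hv => ?_) ?_
    · obtain ⟨P', hP'⟩ := hex v hv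
      have hQ : Q D r v = P' := by
        ext y
        constructor
        · exact fun hy => (hU hv hP' y hy.1 hy.2.1).resolve_right
            fun h => hy.2.2 ((hcls hv hP' y hy.1).2 h)
        · intro hy
          refine ⟨(hmem hP' hy).1, (hmem hP' hy).2.1, fun e => ?_⟩
          obtain ⟨b, hb, hyb⟩ := hinner hv hP' y hy
          exact hyb ((hcls hv hP' y (hmem hP' hy).1).1 e b hb)
      rw [hQ]
      obtain ⟨q, -, rfl, -⟩ := hP'
      intro a ha b hb
      suffices key : ∀ t, Relation.ReflTransGen (NAdj (Dd D v)) a t →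
          t ∈ comp (Dd D v) q ∧ Relation.ReflTransGen (NAdj (comp (Dd D v) q)) a t from
        (key b ((reflTransGen_inv NAdj.symm' ha.2).trans hb.2)).2
      intro t ht
      induction ht with
      | refl => exact ⟨ha, .refl⟩
      | @tail s t _ hst ih =>
        exact ⟨⟨hst.2.1, ih.1.2.tail hst⟩, ih.2.tail ⟨ih.1, ⟨hst.2.1, ih.1.2.tail hst⟩, hst.2.2⟩⟩
    · have hout : ∃ q ∈ Dd D u₀, q ∉ P := by
        obtain ⟨q, -, rfl, -⟩ := id hP
        by_contra hall
        push Not at hall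
        exact hnp ((reflTransGen_inv NAdj.symm' (hall p₁ hp₁).2).trans (hall p₂ hp₂).2)
      obtain ⟨a, ha, haP⟩ := hout
      obtain ⟨b, hb, hab⟩ := exists_nc_Dd hW hu₀ ha
      have key : ∀ y ∈ Dd D u₀, y ∉ P → r u₀ y := fun y hy hyP =>
        (hcls hu₀ hP y hy.1).2 ((hU hu₀ hP y hy.1 hy.2.1).resolve_left hyP)
      have hbP : b ∉ P := fun h => haP (hclosed hP b h a ha fun e => hab e.symm)
      exact ⟨a, b, hr.trans (hr.symm (key a ha haP)) (key b hb hbP), hab⟩
  obtain ⟨a, ha⟩ := hne hP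
  obtain ⟨b, hb, hab⟩ := hinner hu₀ hP a ha
  exact hab ((hcls hu₀ hP a (hmem hP ha).1).1 (huniv u₀ hu₀ a (hmem hP ha).1) b hb)

/-- Primitivity and connectedness in every finite group. -/
theorem prim_sc (hkill : ∀ (G : Type u) [Group G] [Finite G], KillStmt G) :
    ∀ (G : Type u) [Group G] [Finite G], PrimStmt G ∧ SCStmt G := by
  suffices h : ∀ (n : ℕ) (G : Type u) [Group G] [Finite G], Nat.card G ≤ n →
      PrimStmt G ∧ SCStmt G from fun G _ _ => h _ G le_rfl
  intro n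
  induction n with
  | zero =>
    intro G _ _ hG
    have : 0 < Nat.card G := Nat.card_pos
    omega
  | succ n ih =>
    intro G _ _ hG
    have h1 := prim_step (hkill G) fun H _ _ hH => ih H (by omega)
    exact ⟨h1, sc_step h1⟩

end Cfsg.Agent.OddTranspC
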