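import Cfsg.Agent.Lib.OddTranspC.Basic

/-!
# Coarsening an admissible relation by its crossing pairs

Crossing pairs propagate along commuting members, so the equivalence generated by an admissible
relation and its crossing pairs is again admissible and unites among non-commuting pairs only
crossing ones.
-/

set_option autoImplicit false

namespace Cfsg.Agent.OddTranspC

open Cfsg.Agent.GenA.OddTransp (OT Tri swap tri_symm)

universe u

variable {G : Type u} [Group G] {D : Set G} {r : G → G → Prop}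

namespace Rel

variable (hr : Rel D r)
include hr

theorem ax' {c x c' : G} (hx : x ∈ D) (hcc : r c c') (hcx : ¬ r c x) (hc : Commute c x) :
    Commute x c' := (hr.ax hx hcc hcx hc).symm

theorem ax2 {c x c' x' : G} (hcc : r c c') (hxx : r x x') (hcx : ¬ r c x) (hc : Commute c x) :
    Commute c' x' := by
  have h1 : Commute c' x := hr.ax (hr.mem hxx).1 hcc hcx hc
  have h2 : ¬ r c' x := fun e => hcx (hr.trans hcc e)
  exact (hr.ax (hr.mem hcc).2 hxx (fun e => h2 (hr.symm e)) h1.symm).symm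

theorem conj_iff {a b : G} (g : G) : r (g * a * g⁻¹) (g * b * g⁻¹) ↔ r a b := by
  refine ⟨fun h => ?_, fun h => hr.conj h g⟩
  have := hr.conj h g⁻¹
  rwa [conj_inv_conj, conj_inv_conj] at this

theorem Q_eq {u v : G} (huv : r u v) : Q D r u = Q D r v := by
  have key : ∀ {p q : G}, r p q → Q D r p ⊆ Q D r q := fun hpq y hy =>
    ⟨hy.1, hr.ax hy.1 hpq hy.2.2 hy.2.1, fun e => hy.2.2 (hr.trans hpq e)⟩
  exact Set.Subset.antisymm (key huv) (key (hr.symm huv))

theorem Q_union {u a b : G} (ha : a ∈ Q D r u) (hu : u ∈ D) (hab : r a b) : b ∈ Q D r u :=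
  ⟨(hr.mem hab).2, hr.ax2 (hr.refl hu) hab ha.2.2 ha.2.1,
    fun e => ha.2.2 (hr.trans e (hr.symm hab))⟩

/-- Common neighbours of a non-commuting pair of different classes lie in neither class. -/
theorem not_rel_of_L {x z c : G} (hz : z ∈ D) (hnc : ¬ Commute x z) (hxz : ¬ r x z)
    (hc : c ∈ L D x z) : ¬ r x c := fun e =>
  hnc (hr.ax hz (hr.symm e) (fun e' => hxz (hr.trans e e')) hc.2.2.symm)

end Rel

theorem L_symm {x z c : G} (h : c ∈ L D x z) : c ∈ L D z x := ⟨h.1, h.2.2, h.2.1⟩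

theorem Cross.symm (hr : Rel D r) {x z : G} (h : Cross D r x z) : Cross D r z x := by
  obtain ⟨hx, hz, hnc, hxz, c, hc, c', hc', hcc, hne⟩ := h
  exact ⟨hz, hx, fun e => hnc e.symm, fun e => hxz (hr.symm e), c, L_symm hc, c', L_symm hc', hcc,
    hne⟩

theorem Cross.conj (h0 : OT D) (hr : Rel D r) {x z : G} (h : Cross D r x z) (g : G) :
    Cross D r (g * x * g⁻¹) (g * z * g⁻¹) := by
  obtain ⟨hx, hz, hnc, hxz, c, hc, c', hc', hcc, hne⟩ := h
  exact ⟨h0.conj x hx g, h0.conj z hz g, fun e => hnc ((commute_conj_iff g).1 e),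
    fun e => hxz ((hr.conj_iff g).1 e), g * c * g⁻¹,
    ⟨h0.conj c hc.1 g, (commute_conj_iff g).2 hc.2.1, (commute_conj_iff g).2 hc.2.2⟩, g * c' * g⁻¹,
    ⟨h0.conj c' hc'.1 g, (commute_conj_iff g).2 hc'.2.1, (commute_conj_iff g).2 hc'.2.2⟩,
    (commute_conj_iff g).2 hcc, fun e => hne ((hr.conj_iff g).1 e)⟩

/-- Every common neighbour of a crossing pair has a commuting one of another class. -/
theorem Cross.partner (h0 : OT D) (hr : Rel D r) {x z c : G} (h : Cross D r x z)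
    (hc : c ∈ L D x z) : ∃ c' ∈ L D x z, Commute c c' ∧ ¬ r c c' := by
  obtain ⟨hx, hz, -, -, a₁, ha₁, a₂, ha₂, h12, hne⟩ := h
  by_cases hca : Commute c a₁
  · by_cases h1 : r c a₁
    · exact ⟨a₂, ha₂, hr.ax ha₂.1 (hr.symm h1) hne h12, fun e => hne (hr.trans (hr.symm h1) e)⟩
    · exact ⟨a₁, ha₁, hca, h1⟩
  · obtain ⟨m, hm, -, hmc, hfix⟩ := exists_swapper h0 ha₁.1 hc.1 (fun e => hca e.symm)
    have key : ∀ y : G, Commute y a₁ → Commute y a₂ → Commute y c →
        Commute y (m * a₂ * m⁻¹) := fun y h1 h2 h3 =>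
      ((hfix y h1 h3).mul_right h2).mul_right (hfix y h1 h3).inv_right
    refine ⟨m * a₂ * m⁻¹, ⟨h0.conj a₂ ha₂.1 m, key x ha₁.2.1 ha₂.2.1 hc.2.1,
      key z ha₁.2.2 ha₂.2.2 hc.2.2⟩, ?_, ?_⟩
    · rw [← hmc]; exact (commute_conj_iff m).2 h12
    · rw [← hmc]; exact fun e => hne ((hr.conj_iff m).1 e)

/-- Crossing is inherited by non-commuting members of the class. -/
theorem Cross.of_rel (hr : Rel D r) {d y w : G} (h : Cross D r d y) (hyw : r y w)
    (hdw : ¬ Commute d w) : Cross D r d w := by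
  obtain ⟨hd, hy, hnc, hdy, c, hc, c', hc', hcc, hne⟩ := h
  have key : ∀ {a : G}, a ∈ L D d y → a ∈ L D d w := fun {a} ha => by
    have hn : ¬ r y a :=
      hr.not_rel_of_L hd (fun e => hnc e.symm) (fun e => hdy (hr.symm e)) (L_symm ha)
    exact ⟨ha.1, ha.2.1, hr.ax ha.1 hyw hn ha.2.2⟩
  exact ⟨hd, (hr.mem hyw).2, hdw, fun e => hdy (hr.trans e (hr.symm hyw)), c, key hc, c', key hc',
    hcc, hne⟩

/-- Crossing is inherited by commuting members of the other end. -/
theorem Cross.of_commute [Finite G] (hW : World D) (hr : Rel D r) {d y w : G} (h : Cross D r d y)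
    (hw : w ∈ D) (hyw : Commute y w) (hdw : ¬ Commute d w) : Cross D r d w := by
  obtain ⟨hd, hy, hnc, hdy, -, -, -, -, -, -⟩ := id h
  by_cases hrw : r y w
  · exact h.of_rel hr hrw hdw
  have hdw' : ¬ r d w := fun e => hnc
    (hr.ax hy (hr.symm e) (fun e' => hrw (hr.symm e')) hyw.symm)
  obtain ⟨c, hc, hcy, hcd, hcw⟩ := hW.common_three hy hd hw hyw
  have hcd' : ¬ r c d := fun e => hr.not_rel_of_L hy hnc hdy ⟨hc, hcd.symm, hcy.symm⟩ (hr.symm e)
  have hcy' : ¬ r c y := fun e => hr.not_rel_of_L hd (fun e => hnc e.symm)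
    (fun e => hdy (hr.symm e)) ⟨hc, hcy.symm, hcd.symm⟩ (hr.symm e)
  have hcw' : ¬ r c w := fun e => hdw (hr.ax2 (hr.refl hd) e (fun e' => hcd' (hr.symm e')) hcd.symm)
  obtain ⟨c', hc', hcc', hne⟩ := h.partner hW.toOT hr ⟨hc, hcd.symm, hcy.symm⟩
  obtain ⟨c₂, t⟩ := hW.tri c' hc'.1
  have hinv : ∀ a ∈ Q D r c, ∀ g ∈ Q D r c, g * a * g⁻¹ ∈ Q D r c := by
    rintro a ⟨ha, hca, hna⟩ g ⟨-, hcg, -⟩
    have e : g * c * g⁻¹ = c := conj_eq_self hcg.symm
    refine ⟨hW.conj a ha g, ?_, ?_⟩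
    · rw [← e]; exact (commute_conj_iff g).2 hca
    · rw [← e]; exact fun e' => hna ((hr.conj_iff g).1 e')
  have hQc' : c' ∈ Q D r c := ⟨hc'.1, hcc', hne⟩
  obtain ⟨a, ha, had, -, haw⟩ := goal_in hW.toOT (fun a ha => ha.1) hinv
    (d := d) (e := c') (e₂ := c₂) (f := y) (x := w)
    ⟨hd, hcd, hcd'⟩ hQc' ⟨hy, hcy, hcy'⟩ ⟨hw, hcw, hcw'⟩
    ⟨hr.Q_union hQc' hc (hr.tri hc'.1 t), t.2.1,
      hr.Q_union hQc' hc (hr.tri hc'.1 (GenA.OddTransp.tri_third hW.toOT hc'.1 t))⟩
    hc'.2.1 hc'.2.2.symm hyw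
  exact ⟨hd, hw, hdw, hdw', c, ⟨hc, hcd.symm, hcw.symm⟩, a, ⟨ha.1, had.symm, haw.symm⟩, ha.2.1,
    ha.2.2⟩

/-- The common neighbours of a non-crossing end and a crossing end lie around the pivot. -/
theorem Cross.subset [Finite G] (hW : World D) (hr : Rel D r) {d y y' : G} (h : Cross D r d y')
    (hy : y ∈ D) (hdy : ¬ Commute d y) (hne : ¬ Cross D r d y) {g : G} (hg : g ∈ L D y y') :
    Commute d g := by
  by_contra hdg
  exact hne ((h.of_commute hW hr hg.1 hg.2.2 hdg).of_commute hW hr hy hg.2.1.symm hdy)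

/-- Crossing composes. -/
theorem Cross.trans [Finite G] (hW : World D) (hr : Rel D r) {x d e : G} (h₁ : Cross D r x d)
    (h₂ : Cross D r d e) (hxe : ¬ Commute x e) (hne : ¬ r x e) : Cross D r x e := by
  by_contra hc
  obtain ⟨hd, he, -, -, c, hcL, c', hc'L, hcc, hcn⟩ := h₂
  exact hc ⟨h₁.1, he, hxe, hne, c,
    ⟨hcL.1, h₁.subset hW hr he hxe hc (L_symm hcL), hcL.2.2⟩, c',
    ⟨hc'L.1, h₁.subset hW hr he hxe hc (L_symm hc'L), hc'L.2.2⟩, hcc, hcn⟩

/-- The coarsened relation. -/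
def coarse (D : Set G) (r : G → G → Prop) (a b : G) : Prop :=
  a ∈ D ∧ b ∈ D ∧ Relation.ReflTransGen (fun p q => r p q ∨ Cross D r p q) a b

theorem coarse_of_rel (hr : Rel D r) {a b : G} (h : r a b) : coarse D r a b :=
  ⟨(hr.mem h).1, (hr.mem h).2, .single (Or.inl h)⟩

theorem coarse_of_cross {a b : G} (h : Cross D r a b) : coarse D r a b :=
  ⟨h.1, h.2.1, .single (Or.inr h)⟩

/-- Non-commuting coarsely related members are related or cross. -/
theorem coarse_cases [Finite G] (hW : World D) (hr : Rel D r) {a b : G} (h : coarse D r a b)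
    (hab : ¬ Commute a b) : r a b ∨ Cross D r a b := by
  obtain ⟨ha, -, hp⟩ := h
  induction hp with
  | refl => exact absurd (Commute.refl a) hab
  | @tail p q _ hpq ih =>
    refine or_iff_not_imp_left.2 fun hne => ?_
    rcases hpq with hpq | hpq
    · have hap : ¬ r a p := fun e => hne (hr.trans e hpq)
      have hnc : ¬ Commute a p := fun e => hab (hr.ax ha hpq (fun e' => hap (hr.symm e')) e.symm).symm
      exact ((ih hnc).resolve_left hap).of_rel hr hpq hab
    · by_cases hap : r a p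
      · exact ((hpq.symm hr).of_rel hr (hr.symm hap) (fun e => hab e.symm)).symm hr
      by_cases hnc : Commute a p
      · exact ((hpq.symm hr).of_commute hW hr ha hnc.symm (fun e => hab e.symm)).symm hr
      · exact ((ih hnc).resolve_left hap).trans hW hr hpq hab hne

/-- The coarsened relation is admissible. -/
theorem coarse_rel [Finite G] (hW : World D) (hr : Rel D r) : Rel D (coarse D r) := by
  have hsymm : ∀ {p q : G}, (r p q ∨ Cross D r p q) → (r q p ∨ Cross D r q p) := fun h =>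
    h.imp hr.symm (Cross.symm hr)
  refine ⟨fun h => ⟨h.1, h.2.1⟩, fun ha => ⟨ha, ha, .refl⟩,
    fun h => ⟨h.2.1, h.1, reflTransGen_inv hsymm h.2.2⟩,
    fun h h' => ⟨h.1, h'.2.1, h.2.2.trans h'.2.2⟩, fun {a b} h g => ?_,
    fun ha t => coarse_of_rel hr (hr.tri ha t), ?_⟩
  · refine ⟨hW.conj a h.1 g, hW.conj b h.2.1 g, h.2.2.lift (fun z => g * z * g⁻¹) fun p q hpq => ?_⟩
    exact hpq.imp (fun e => hr.conj e g) (fun e => e.conj hW.toOT hr g)
  · intro c c' x hx hcc hcx hc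
    obtain ⟨hcD, -, hp⟩ := hcc
    induction hp with
    | refl => exact hc
    | @tail p q hcp hpq ih =>
      by_contra hqx
      have hcq : coarse D r c q :=
        ⟨hcD, hpq.elim (fun e => (hr.mem e).2) (fun e => e.2.1), hcp.tail hpq⟩
      rcases hpq with hpq | hpq
      · refine hqx (hr.ax hx hpq (fun e => hcx ?_) ih)
        exact ⟨hcD, hx, hcp.tail (Or.inl e)⟩
      · have h1 : Cross D r q x := (hpq.symm hr).of_commute hW hr hx ih hqx
        exact hcx ⟨hcD, hx, hcq.2.2.tail (Or.inr h1)⟩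

end Cfsg.Agent.OddTranspC
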