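import Cfsg.Agent.Lib.OddTranspC.Line

/-!
# The world of a class of odd transpositions with connected commuting graph
-/

set_option autoImplicit false

namespace Cfsg.Agent.OddTranspC

open Cfsg.Agent.GenA.OddTransp (OT Tri)
open Cfsg.Agent.OddTranspX (sameCls)

universe u

variable {G : Type u} [Group G] {D : Set G}

theorem ot_of_oddTranspositionSet (hD : Cfsg.IsOddTranspositionSet D) : OT D :=
  ⟨hD.1.orderOf_eq, hD.1.conj_mem, fun a ha b hb => by
    rcases hD.1.pair a ha b hb with h | h | h
    · exact Or.inl h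
    · exact Or.inr h
    · exact absurd h.1 (hD.2 a ha b hb)⟩

/-- A class of odd transpositions with a commuting triple and connected commuting graph is a
world. -/
theorem world_of_class (hD : Cfsg.IsOddTranspositionSet D) (hcl : Cfsg.IsRootInvolutionClass D)
    (hDD : (D ∩ Cfsg.commutingProducts D).Nonempty)
    (hc : Cfsg.IsConnectedSet (Cfsg.CommAdj D) D) : World D := by
  have h := ot_of_oddTranspositionSet hD
  refine ⟨h, fun e he => ?_, fun a ha b hb => ?_, fun a ha b hb => ?_⟩
  · obtain ⟨z, hzD, a, ha, b, hb, hab, -, rfl⟩ := hDD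
    obtain ⟨g, rfl⟩ := hcl.2.2 a ha e he
    refine ⟨g * b * g⁻¹, h.conj b hb g, (commute_conj_iff g).2 hab, ?_⟩
    have := h.conj _ hzD g
    simpa [mul_assoc] using this
  · have key : ∀ g : G, ∀ a ∈ D, Relation.ReflTransGen (NAdj D) a (g * a * g⁻¹) := by
      intro g
      have hg : g ∈ Subgroup.closure D := hD.1.generates ▸ Subgroup.mem_top g
      induction hg using Subgroup.closure_induction'' with
      | one => intro a _; simpa using Relation.ReflTransGen.refl
      | mem g hg =>
        intro a ha
        by_cases hga : Commute g a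
        · rw [conj_eq_self hga]
        · refine Relation.ReflTransGen.trans (.single ⟨ha, hg, fun e => hga e.symm⟩)
            (.single ⟨hg, h.conj a ha g, fun e => hga ((commute_conj_iff g).1 ?_)⟩)
          rwa [conj_eq_self (Commute.refl g)]
      | inv_mem g hg =>
        intro a ha
        rw [h.inv hg]
        by_cases hga : Commute g a
        · rw [conj_eq_self hga]
        · refine Relation.ReflTransGen.trans (.single ⟨ha, hg, fun e => hga e.symm⟩)
            (.single ⟨hg, h.conj a ha g, fun e => hga ((commute_conj_iff g).1 ?_)⟩)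
          rwa [conj_eq_self (Commute.refl g)]
      | mul g k _ _ h1 h2 =>
        intro a ha
        have := (h2 a ha).trans (h1 _ (h.conj a ha k))
        simpa [mul_assoc] using this
    obtain ⟨g, rfl⟩ := hcl.2.2 a ha b hb
    exact key g a ha
  · exact Relation.ReflTransGen.mono (fun p q hpq => ⟨hpq.1, hpq.2.1, hpq.2.2.2⟩) _ _
      (hc a ha b hb)

theorem sameCommutingClass_eq {d : G} (hd : d ∈ D) :
    Cfsg.sameCommutingClass D d = sameCls D d := by
  ext e
  rw [mem_sameCls_iff]
  constructor
  · rintro ⟨he, h⟩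
    refine ⟨he, Set.ext fun y => ?_⟩
    constructor
    · intro hy
      have h1 : y ∈ Cfsg.commutingMembers D d := h ▸ ⟨hy.1, hy.2.eq.symm⟩
      exact ⟨hy.1, (show Commute y d from h1.2).symm⟩
    · intro hy
      have h1 : y ∈ Cfsg.commutingMembers D e := h ▸ ⟨hy.1, hy.2.eq.symm⟩
      exact ⟨hy.1, (show Commute y e from h1.2).symm⟩
  · rintro ⟨he, h⟩
    refine ⟨he, Set.ext fun y => ?_⟩
    constructor
    · intro hy
      have h1 : y ∈ cset D e := h.symm ▸ ⟨hy.1, (show Commute y d from hy.2).symm⟩
      exact ⟨hy.1, h1.2.symm.eq⟩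
    · intro hy
      have h1 : y ∈ cset D d := h ▸ ⟨hy.1, (show Commute y e from hy.2).symm⟩
      exact ⟨hy.1, h1.2.symm.eq⟩

theorem not_commute_of_oddPartners (hD : Cfsg.IsOddTranspositionSet D) {d x : G} (hd : d ∈ D)
    (hx : x ∈ Cfsg.oddPartners D d) : ¬ Commute d x := by
  intro hc
  have h := ot_of_oddTranspositionSet hD
  obtain ⟨hxD, hne, hodd⟩ := hx
  have h1 : (d * x) ^ 2 ^ 1 = 1 := by
    rw [pow_one, pow_two]; exact GenA.OddTransp.sq_mul (h.sq hd) (h.sq hxD) hc
  have h2 := RootInvolutions.Basic.eq_one_of_odd hodd h1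
  exact hne (by rw [eq_inv_of_mul_eq_one_left h2, h.inv hxD])

end Cfsg.Agent.OddTranspC
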